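import Mathlib
import Cfsg.Agent.Lib.Comp.CWord
import Cfsg.Agent.Lib.Lie.ChevTab

/-! Matrices over rings of characteristic two with entries `0, 1`, packed into one natural number. -/

set_option autoImplicit false

namespace CA.BM

open CA.CNet CA.CWord

/-- the number with the bits `128 i`, `i < n` -/
def E (n : ℕ) : ℕ := Nat.rec 0 (fun _ e => 2 ^ 128 * e + 1) n

theorem and_E (n x : ℕ) : x &&& E (n + 1) = 2 ^ 128 * ((x >>> 128) &&& E n) + x % 2 := by
  refine Nat.eq_of_testBit_eq fun p => ?_
  rw [Nat.testBit_and, show E (n + 1) = 2 ^ 128 * E n + 1 from rfl, Nat.testBit_two_pow_mul_add _ (by norm_num),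
    Nat.testBit_two_pow_mul_add _ (lt_trans (Nat.mod_lt _ two_pos) (by norm_num))]
  split_ifs with h
  · rw [show x % 2 = x % 2 ^ 1 from rfl, Nat.testBit_mod_two_pow, show (1 : ℕ) = 2 ^ 0 from rfl, Nat.testBit_two_pow,
      Bool.and_comm]
    congr 1
    simp only [pow_zero, decide_eq_decide]; omega
  · rw [Nat.testBit_and, Nat.testBit_shiftRight, show 128 + (p - 128) = p by omega]

theorem outer {r : ℕ} (hr : r < 2 ^ 128) {k : ℕ} (hk : k < 128) : ∀ n x i : ℕ, i < n →
    ((x &&& E n) * r).testBit (128 * i + k) = (x.testBit (128 * i) && r.testBit k)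
  | n + 1, x, i, hi => by
    have h2 : x % 2 * r < 2 ^ 128 := by
      rcases Nat.mod_two_eq_zero_or_one x with h | h <;> rw [h] <;> omega
    rw [and_E, add_mul, mul_assoc, Nat.testBit_two_pow_mul_add _ h2]
    rcases i with _ | i
    · rw [if_pos (by omega), mul_zero, zero_add, Nat.testBit_zero]
      rcases Nat.mod_two_eq_zero_or_one x with h | h <;> simp [h]
    · rw [if_neg (by omega), show 128 * (i + 1) + k - 128 = 128 * i + k by omega, outer hr hk n _ i (by omega),
        Nat.testBit_shiftRight, show 128 + 128 * i = 128 * (i + 1) by omega]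

/-- the product -/
noncomputable def mul (e n A B : ℕ) : ℕ :=
  Nat.rec 0 (fun j ih => Nat.xor ih (Nat.mul (Nat.land (Nat.shiftRight A j) e)
    (Nat.mod (Nat.shiftRight B (Nat.mul 128 j)) 0x100000000000000000000000000000000))) n

/-- the product of two expressions -/
noncomputable def mulf (e n A B : ℕ) : ℕ := force A fun a => force B fun b => mul e n a b

theorem mulf_eq (e n A B : ℕ) : mulf e n A B = mul e n A B := by rw [mulf, force_eq, force_eq]

/-- one column -/
noncomputable def colB (v : List (ℕ × ℤ)) (j : ℕ) : ℕ :=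
  List.rec 0 (fun p _ ih => Nat.xor ih (Nat.shiftLeft (Nat.mod (Int.natAbs p.2) 2) (Nat.add (Nat.mul 128 p.1) j))) v

/-- the matrix with given sparse columns -/
noncomputable def ofOp (n : ℕ) (op : ℕ → List (ℕ × ℤ)) : ℕ := Nat.rec 0 (fun j ih => Nat.xor ih (colB (op j) j)) n

/-- the identity -/
noncomputable def one (n : ℕ) : ℕ := ofOp n fun j => [(j, 1)]

/-- the value of a word in involutions -/
noncomputable def evw (e n I : ℕ) (F : ℕ → ℕ) (w : Word) : ℕ :=
  List.rec I (fun a _ ih => mulf e n (F (Nat.div a 2)) ih) w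

/-- a sum of words -/
noncomputable def evs (e n I : ℕ) (F : ℕ → ℕ) (ws : List Word) : ℕ :=
  List.rec 0 (fun w _ ih => Nat.xor (evw e n I F w) ih) ws

/-- the product of matrices `P + ω Q` -/
noncomputable def mul2 (e n : ℕ) (A B : ℕ × ℕ) : ℕ × ℕ :=
  (Nat.xor (mulf e n A.1 B.1) (mulf e n A.2 B.2),
    Nat.xor (Nat.xor (mulf e n A.1 B.2) (mulf e n A.2 B.1)) (mulf e n A.2 B.2))

variable (R : Type*) [CommRing R]

/-- a bit in the ring -/
def bt (A p : ℕ) : R := if A.testBit p then 1 else 0

variable {ι : Type*} [Fintype ι] [DecidableEq ι]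

/-- the matrix -/
def val (c : ι → ℕ) (A : ℕ) : Matrix ι ι R := Matrix.of fun i j => bt R A (128 * c i + c j)

/-- a numbering of the indices -/
structure Num (c : ι → ℕ) (n : ℕ) : Prop where
  lt : ∀ i, c i < n
  inj : Function.Injective c
  card : Fintype.card ι = n
  le : n ≤ 128

variable {R}

theorem bt_zero (p : ℕ) : bt R 0 p = 0 := by simp [bt]

omit [Fintype ι] [DecidableEq ι] in
theorem val_zero (c : ι → ℕ) : val R c 0 = 0 := Matrix.ext fun _ _ => bt_zero _

omit [Fintype ι] [DecidableEq ι] in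
theorem map_val {S : Type*} [CommRing S] (β : R →+* S) (c : ι → ℕ) (A : ℕ) : (val R c A).map β = val S c A :=
  Matrix.ext fun i j => by
    change β (bt R _ _) = bt S _ _
    unfold bt; split_ifs <;> simp

omit [DecidableEq ι] in
theorem Num.sum {c : ι → ℕ} {n : ℕ} (h : Num c n) (f : ℕ → R) : ∑ i, f (c i) = ∑ j ∈ Finset.range n, f j := by
  rw [← Finset.sum_image (s := Finset.univ) (g := c) (fun _ _ _ _ e => h.inj e)]
  congr 1
  refine Finset.eq_of_subset_of_card_le (fun x hx => ?_) ?_
  · obtain ⟨i, -, rfl⟩ := Finset.mem_image.1 hx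
    exact Finset.mem_range.2 (h.lt i)
  · rw [Finset.card_image_of_injective _ h.inj, Finset.card_range, Finset.card_univ, h.card]

variable (h2 : (2 : R) = 0)
include h2

theorem bt_xor (A B p : ℕ) : bt R (Nat.xor A B) p = bt R A p + bt R B p := by
  unfold bt
  rw [Nat.xor_eq, Nat.testBit_xor]
  cases A.testBit p <;> cases B.testBit p <;> simp [one_add_one_eq_two, h2]

omit [Fintype ι] [DecidableEq ι] in
theorem val_xor (c : ι → ℕ) (A B : ℕ) : val R c (Nat.xor A B) = val R c A + val R c B :=
  Matrix.ext fun _ _ => bt_xor h2 _ _ _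

theorem bt_mul {N i k : ℕ} (hi : i < N) (hk : k < 128) (A B : ℕ) : ∀ n : ℕ,
    bt R (mul (E N) n A B) (128 * i + k) = ∑ j ∈ Finset.range n, bt R A (128 * i + j) * bt R B (128 * j + k)
  | 0 => bt_zero _
  | n + 1 => by
    rw [Finset.sum_range_succ, ← bt_mul hi hk A B n]
    refine (bt_xor h2 _ _ _).trans ?_
    congr 1
    change bt R (((A >>> n) &&& E N) * ((B >>> (128 * n)) % 2 ^ 128)) _ = _
    unfold bt
    rw [outer (Nat.mod_lt _ (by norm_num)) hk N _ i hi, Nat.testBit_mod_two_pow, Nat.testBit_shiftRight,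
      Nat.testBit_shiftRight, add_comm n, decide_eq_true hk]
    cases A.testBit _ <;> cases B.testBit _ <;> simp

theorem bt_colB {i j k : ℕ} (hj : j < 128) (hk : k < 128) : ∀ v : List (ℕ × ℤ),
    bt R (colB v j) (128 * i + k) = if j = k then (Chev.coef v i : R) else 0
  | [] => by simp [colB, bt_zero]
  | p :: v => by
    refine (bt_xor h2 _ _ _).trans ?_
    rw [Chev.coef_cons]
    change bt R (colB v j) _ + bt R ((p.2.natAbs % 2) <<< (128 * p.1 + j)) _ = _
    rw [bt_colB hj hk v]
    have : bt R ((p.2.natAbs % 2) <<< (128 * p.1 + j)) (128 * i + k) = if j = k ∧ p.1 = i then (p.2 : R) else 0 := by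
      obtain ⟨m, hm | hm⟩ := Int.even_or_odd' p.2
      · rw [show p.2.natAbs % 2 = 0 by omega, hm]
        simp [bt_zero, h2]
      · rw [show p.2.natAbs % 2 = 1 by omega, hm, Nat.one_shiftLeft, bt, Nat.testBit_two_pow]
        have : (128 * p.1 + j = 128 * i + k) ↔ (j = k ∧ p.1 = i) := by omega
        simp [this, h2]
    rw [this]
    by_cases h : j = k <;> by_cases h' : p.1 = i <;> simp [h, h', add_comm]

theorem bt_ofOp {i k : ℕ} (hk : k < 128) (op : ℕ → List (ℕ × ℤ)) : ∀ n : ℕ, n ≤ 128 →
    bt R (ofOp n op) (128 * i + k) = if k < n then (Chev.coef (op k) i : R) else 0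
  | 0, _ => by simp [ofOp, bt_zero]
  | n + 1, hn => by
    refine (bt_xor h2 _ _ _).trans ?_
    change bt R (ofOp n op) _ + _ = _
    rw [bt_ofOp hk op n (by omega), bt_colB h2 (by omega) hk]
    rcases lt_trichotomy k n with h | rfl | h
    · rw [if_pos h, if_neg (by omega), if_pos (by omega), add_zero]
    · simp
    · rw [if_neg (by omega), if_neg (by omega), if_neg (by omega), add_zero]

variable {c : ι → ℕ} {n e I : ℕ} (hc : Num c n)
include hc

omit [DecidableEq ι] in
theorem val_ofOp (op : ℕ → List (ℕ × ℤ)) (i j : ι) : val R c (ofOp n op) i j = (Chev.coef (op (c j)) (c i) : R) :=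
  (bt_ofOp h2 ((hc.lt j).trans_le hc.le) op n hc.le).trans (if_pos (hc.lt j))

theorem val_one (hI : I = one n) : val R c I = 1 := Matrix.ext fun i j => by
  rw [hI, one, val_ofOp h2 hc, Chev.coef_cons, Matrix.one_apply]
  by_cases h : i = j
  · simp [h]
  · simp [h, hc.inj.ne (Ne.symm h)]

variable (he : e = E n)
include he

omit [DecidableEq ι] in
theorem val_mul (A B : ℕ) : val R c (mulf e n A B) = val R c A * val R c B := Matrix.ext fun i k => by
  rw [mulf_eq, he, Matrix.mul_apply]
  exact (bt_mul h2 (hc.lt i) ((hc.lt k).trans_le hc.le) A B n).trans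
    (hc.sum fun j => bt R A (128 * c i + j) * bt R B (128 * j + c k)).symm

omit h2 hc he in
/-- the matrix `P + ω Q` -/
def val2 (c : ι → ℕ) (ω : R) (A : ℕ × ℕ) : Matrix ι ι R := val R c A.1 + ω • val R c A.2

omit [DecidableEq ι] in
theorem val2_mul {ω : R} (hω : ω * ω = ω + 1) (A B : ℕ × ℕ) :
    val2 c ω (mul2 e n A B) = val2 c ω A * val2 c ω B := by
  simp only [val2, mul2, val_xor h2, val_mul h2 hc he, add_mul, mul_add, Matrix.smul_mul, Matrix.mul_smul, smul_smul,
    hω, add_smul, one_smul, smul_add]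
  abel

variable (hI : I = one n)
include hI

omit h2 hc he hI in
/-- the involutions -/
def gl {F : ℕ → ℕ} (h : ∀ i, val R c (F i) * val R c (F i) = 1) (i : ℕ) : GL ι R := ⟨val R c (F i), val R c (F i), h i, h i⟩

theorem sq_of {L : List ℕ} (h : lall L (fun A => Nat.beq (mulf e n A A) I) = true) (i : ℕ) :
    val R c (nth L I i) * val R c (nth L I i) = 1 := by
  rcases nth_mem_or L I i with h' | h'
  · rw [← val_mul h2 hc he, Nat.eq_of_beq_eq_true (lall_iff.1 h _ h'), val_one h2 hc hI]
  · rw [h', val_one h2 hc hI, mul_one]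

theorem val_evw {F : ℕ → ℕ} (h : ∀ i, val R c (F i) * val R c (F i) = 1) : ∀ w : Word,
    val R c (evw e n I F w) = (ev (gl h) w : GL ι R)
  | [] => val_one h2 hc hI
  | a :: w => by
    rw [ev_cons, Units.val_mul, ← val_evw h w]
    refine (val_mul h2 hc he _ _).trans ?_
    congr 1
    unfold lv
    split_ifs <;> rfl

theorem ev_eq_one {F : ℕ → ℕ} (h : ∀ i, val R c (F i) * val R c (F i) = 1) {ws : List Word}
    (hw : lall ws (fun w => Nat.beq (evw e n I F w) I) = true) : ∀ w ∈ ws, ev (gl h) w = 1 := fun w hw' =>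
  Units.ext (by rw [← val_evw h2 hc he hI h, Nat.eq_of_beq_eq_true (lall_iff.1 hw _ hw'), val_one h2 hc hI]; rfl)

omit hc he hI [DecidableEq ι] in
theorem comm_evs {F : ℕ → ℕ} {Y : Matrix ι ι R} : ∀ ws : List Word,
    (∀ w ∈ ws, Y * val R c (evw e n I F w) = val R c (evw e n I F w) * Y) →
      Y * val R c (evs e n I F ws) = val R c (evs e n I F ws) * Y
  | [], _ => by change Y * val R c 0 = val R c 0 * Y; simp [val_zero]
  | w :: ws, h => by
    change Y * val R c (Nat.xor _ (evs e n I F ws)) = val R c (Nat.xor _ (evs e n I F ws)) * Y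
    rw [val_xor h2, mul_add, add_mul, h w (by simp), comm_evs ws fun w' hw => h w' (by simp [hw])]

/-- a matrix commuting with `A` and `Z` is scalar -/
theorem scalar {A B U V Z S S' N : ℕ} {o : ι} (ho : c o = 0) (h1 : mulf e n A V = 0)
    (h3 : mulf e n B A = Nat.xor I (mulf e n V U)) (h4 : mulf e n V 1 = V) (h5 : mulf e n 1 U = U)
    (h6 : Nat.xor V (mulf e n (mulf e n Z S) N) = S) (h7 : mulf e n S S' = I)
    (h8 : evw e n I (fun _ => N) (List.replicate n 0) = 0) {Y : Matrix ι ι R}
    (hA : Y * val R c A = val R c A * Y) (hZ : Y * val R c Z = val R c Z * Y) : ∃ s : R, Y = s • (1 : Matrix ι ι R) := by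
  have m := val_mul h2 hc he
  have e0 : val R c 1 = Matrix.single o o 1 := Matrix.ext fun i j => by
    change bt R (2 ^ 0) _ = _
    have : (0 = 128 * c i + c j) ↔ (o = i ∧ o = j) := by
      rw [← hc.inj.eq_iff, ← hc.inj.eq_iff, ho]; omega
    simp only [bt, Nat.testBit_two_pow, this, Matrix.single_apply, decide_eq_true_eq]
  have k1 := congrArg (val R c) h1
  have k3 := congrArg (val R c) h3
  have k4 := congrArg (val R c) h4
  have k5 := congrArg (val R c) h5
  have k6 := congrArg (val R c) h6
  have k7 := congrArg (val R c) h7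
  simp only [m, val_xor h2, val_one h2 hc hI, val_zero, e0] at k1 k3 k4 k5 k6 k7
  have k8 : ∀ k, val R c (evw e n I (fun _ => N) (List.replicate k 0)) = val R c N ^ k := fun k => by
    induction k with
    | zero => exact val_one h2 hc hI
    | succ k ih => rw [pow_succ', ← ih]; exact m _ _
  have k9 : val R c N ^ n = 0 := by rw [← k8, h8, val_zero]
  generalize val R c A = A at *
  generalize val R c B = B at *
  generalize val R c U = U at *
  generalize val R c V = V at *
  generalize val R c Z = Z at *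
  generalize val R c S = S at *
  generalize val R c S' = S' at *
  generalize val R c N = N at *
  have a1 : Y * V + V * (U * Y * V) = 0 := by
    calc _ = (1 + V * U) * (Y * V) := by noncomm_ring
      _ = B * (A * Y) * V := by rw [← k3]; noncomm_ring
      _ = 0 := by rw [← hA, mul_assoc, mul_assoc, k1, mul_zero, mul_zero]
  have a2 : V * (U * Y * V) = (U * Y * V) o o • V := by
    have b1 : Matrix.single o o 1 * (U * Y * V) * Matrix.single o o 1 = U * Y * V := by
      calc _ = Matrix.single o o 1 * U * Y * (V * Matrix.single o o 1) := by simp only [mul_assoc]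
        _ = _ := by rw [k5, k4]
    have b2 : Matrix.single o o 1 * (U * Y * V) * Matrix.single o o 1 = (U * Y * V) o o • Matrix.single o o (1 : R) := by
      rw [Matrix.single_mul_mul_single, Matrix.smul_single, one_mul, smul_eq_mul]
    conv_lhs => rw [← b1, b2, Matrix.mul_smul, k4]
  set s := -(U * Y * V) o o
  have a3 : (Y - s • 1) * V = 0 := by
    rw [sub_mul, Matrix.smul_mul, one_mul, neg_smul, sub_neg_eq_add, ← a2, a1]
  have a4 : (Y - s • 1) * S = Z * ((Y - s • 1) * S) * N := by
    have : (Y - s • 1) * Z = Z * (Y - s • 1) := by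
      rw [sub_mul, mul_sub, hZ, Matrix.smul_mul, Matrix.mul_smul, one_mul, mul_one]
    conv_lhs => rw [← k6, mul_add, a3, zero_add, ← mul_assoc, ← mul_assoc, this, mul_assoc Z]
  have a5 : ∀ k : ℕ, (Y - s • 1) * S = Z ^ k * ((Y - s • 1) * S) * N ^ k := fun k => by
    induction k with
    | zero => simp
    | succ k ih =>
      conv_lhs => rw [ih, a4]
      rw [pow_succ, pow_succ']; noncomm_ring
  refine ⟨s, sub_eq_zero.1 ?_⟩
  calc _ = (Y - s • 1) * S * S' := by rw [mul_assoc, k7, mul_one]
    _ = 0 := by rw [a5 n, k9, mul_zero, zero_mul]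

end CA.BM
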