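import Cfsg.Agent.Lib.Comp.CLink3
import Cfsg.Agent.Lib.Fi.FiW2
import Cfsg.Agent.Lib.Fi.LocG
import Cfsg.Agent.S0245
import Cfsg.Agent.S0280
import Cfsg.Agent.S0283
import Cfsg.Agent.S0288
import Cfsg.Agent.S0815

/-! The Weyl group of type `E₆` on `27 + 45 + 40` points: `O₆⁻(2) ≅ Aut U₄(2)` and `U₄(2) ≅ PSp₄(3)`. -/

set_option autoImplicit false
set_option maxRecDepth 100000
set_option linter.all false
set_option Elab.async false

namespace CA.We6
open Cfsg Matrix CA.CNet CA.CWord CA.CLevel CA.CSimple CA.CPoint CA.CLow CA.CMat CA.CLink CA.CLink2 CA.CLink3 CA.CBlk CA.H27Pres CA.CTrans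

def t0 : Net := [(nat_lit 0x50505004400444441444440, nat_lit 1),
  (nat_lit 0x303030002000000000220220, nat_lit 2),
  (nat_lit 0xf000f000000000000, nat_lit 4),
  (nat_lit 0xff000000000000000000000000, nat_lit 8),
  (nat_lit 0x4000000000440440, nat_lit 1)]
def t1 : Net := [(nat_lit 0x505055511444044400000000000, nat_lit 1),
  (nat_lit 0x3030300000222200022222112110, nat_lit 2),
  (nat_lit 0xc0c000000000008000000, nat_lit 4),
  (nat_lit 0xf0000000800000, nat_lit 8),
  (nat_lit 0xfff00000f00000000000, nat_lit 16),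
  (nat_lit 0xff000000000000f00000, nat_lit 32),
  (nat_lit 0xf00000, nat_lit 64),
  (nat_lit 0xf00000, nat_lit 32),
  (nat_lit 0xfff00000000000000000, nat_lit 16),
  (nat_lit 0xf0000000000000, nat_lit 8),
  (nat_lit 0x8000000, nat_lit 4),
  (nat_lit 0x2000000, nat_lit 2),
  (nat_lit 0x444000000000000000, nat_lit 1)]
def t2 : Net := [(nat_lit 0x505044440000441144100110, nat_lit 1),
  (nat_lit 0x30322002222000000020020, nat_lit 2),
  (nat_lit 0xf0f00000f000f000f00000e0208, nat_lit 4),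
  (nat_lit 0xff000000000000000000c80020, nat_lit 8),
  (nat_lit 0xc000, nat_lit 16),
  (nat_lit 0xc00000, nat_lit 8),
  (nat_lit 0xc0200, nat_lit 4),
  (nat_lit 0x20020, nat_lit 2),
  (nat_lit 0x44000000000004100110, nat_lit 1)]
def t3 : Net := [(nat_lit 0x5444050105444044400100050004, nat_lit 1),
  (nat_lit 0x2310230000111000000003210001, nat_lit 2),
  (nat_lit 0xf07030c0f000f000f0000030008, nat_lit 4),
  (nat_lit 0x3e00e3000000e00012001c0000, nat_lit 8),
  (nat_lit 0xf0aa0000f2f000001000, nat_lit 16),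
  (nat_lit 0xffaa00000000e2100000, nat_lit 32),
  (nat_lit 0xfaa0000e21000000000, nat_lit 16),
  (nat_lit 0x430034000000e0001200100000, nat_lit 8),
  (nat_lit 0x80c0300000f000f0000010000, nat_lit 4),
  (nat_lit 0x2310230000000000000003210000, nat_lit 2),
  (nat_lit 0x5444040000444000000100050004, nat_lit 1)]
def t4 : Net := [(nat_lit 0x4444444515101050541005401400, nat_lit 1),
  (nat_lit 0x1111112020210031003001100000, nat_lit 2),
  (nat_lit 0xf0f0f0c0c080206050007000200, nat_lit 4),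
  (nat_lit 0xff0000003f00f000680006, nat_lit 8),
  (nat_lit 0xff0000003cc300000078, nat_lit 16),
  (nat_lit 0xc0000000000000000, nat_lit 32),
  (nat_lit 0xc00000000, nat_lit 64),
  (nat_lit 0xc0000000000000000, nat_lit 32),
  (nat_lit 0xff0000003f000000680000, nat_lit 8),
  (nat_lit 0x802010a0006000200, nat_lit 4),
  (nat_lit 0x1010210012120001100000, nat_lit 2),
  (nat_lit 0x4444441040101014050005401400, nat_lit 1)]
def t5 : Net := [(nat_lit 0x5545040050444011100004500044, nat_lit 1),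
  (nat_lit 0x1320130000222000000100100010, nat_lit 2),
  (nat_lit 0xf0b030c0f000f000f0000000001, nat_lit 4),
  (nat_lit 0x3d00d3000000e000f400e00000, nat_lit 8),
  (nat_lit 0xf055000004000000e800, nat_lit 16),
  (nat_lit 0xff550000000014e00000, nat_lit 32),
  (nat_lit 0xf550000040000000000, nat_lit 16),
  (nat_lit 0x830038000000e0000400e00000, nat_lit 8),
  (nat_lit 0x40c0300000f000f0000000000, nat_lit 4),
  (nat_lit 0x1320130000000000000100100010, nat_lit 2),
  (nat_lit 0x5444040000444000000004500040, nat_lit 1)]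
def t6 : Net := [(nat_lit 0x5555555555555055500005555000, nat_lit 1),
  (nat_lit 0x3003300000333000000001132001, nat_lit 2),
  (nat_lit 0xf0f030c00000000000000010008, nat_lit 4),
  (nat_lit 0xcc00cc00000000000000f60000, nat_lit 8),
  (nat_lit 0xff000000ff00000f800, nat_lit 16),
  (nat_lit 0xff00000000000f00000, nat_lit 32),
  (nat_lit 0xff0000000f000000000, nat_lit 16),
  (nat_lit 0xc3000000000000000000f00000, nat_lit 8),
  (nat_lit 0x30f0f0000000000000000080000, nat_lit 4),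
  (nat_lit 0x33000000000000000001000000, nat_lit 2),
  (nat_lit 0x4000000, nat_lit 1)]
def t7 : Net := [(nat_lit 0x404145540505010400000050, nat_lit 1),
  (nat_lit 0x1111102123122020103002131300, nat_lit 2),
  (nat_lit 0x6060c0f0c07050902000708030a, nat_lit 4),
  (nat_lit 0x3c00c300c10026, nat_lit 8),
  (nat_lit 0xff0000003ff00000817c, nat_lit 16),
  (nat_lit 0xc0000000000000000, nat_lit 32),
  (nat_lit 0xc00000000, nat_lit 64),
  (nat_lit 0xc0000000000000000, nat_lit 32),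
  (nat_lit 0xff000000c0000000d90000, nat_lit 8),
  (nat_lit 0x802010a00050e0100, nat_lit 4),
  (nat_lit 0x1010210012120002001010, nat_lit 2),
  (nat_lit 0x4444441040105014050011555500, nat_lit 1)]
def t8 : Net := [(nat_lit 0x505055511444044400000000000, nat_lit 1),
  (nat_lit 0x3030300000222200022222112110, nat_lit 2),
  (nat_lit 0xc0c000000000008000000, nat_lit 4),
  (nat_lit 0xf0000000800000, nat_lit 8),
  (nat_lit 0xfff00000f00000000000, nat_lit 16),
  (nat_lit 0xff000000000000f00000, nat_lit 32),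
  (nat_lit 0xf00000, nat_lit 64),
  (nat_lit 0xf00000, nat_lit 32),
  (nat_lit 0xfff00000000000000000, nat_lit 16),
  (nat_lit 0xf0000000000000, nat_lit 8),
  (nat_lit 0x8000000, nat_lit 4),
  (nat_lit 0x2000000, nat_lit 2),
  (nat_lit 0x444000000000000000, nat_lit 1)]
def t9 : Net := [(nat_lit 0x4444411015545441450045501410, nat_lit 1),
  (nat_lit 0x1111122320211032013001131010, nat_lit 2),
  (nat_lit 0x3030f030c08020a02000f030b08, nat_lit 4),
  (nat_lit 0xff00ff0000000300f300fd0016, nat_lit 8),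
  (nat_lit 0xff000000fcc300001de0, nat_lit 16),
  (nat_lit 0xc0000000000000000, nat_lit 32),
  (nat_lit 0xc00000000, nat_lit 64),
  (nat_lit 0xc0000000000000000, nat_lit 32),
  (nat_lit 0x3a0000003d0000, nat_lit 8),
  (nat_lit 0x8040502000e000a00, nat_lit 4),
  (nat_lit 0x100020211131000003031000, nat_lit 2),
  (nat_lit 0x404410010541410015100400, nat_lit 1)]
def t10 : Net := [(nat_lit 0x4444144015100114141105001550, nat_lit 1),
  (nat_lit 0x1111112013212023121001010230, nat_lit 2),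
  (nat_lit 0xc0c0f0303080d060d0007000200, nat_lit 4),
  (nat_lit 0xff0000000300730064000e, nat_lit 8),
  (nat_lit 0xff000000fcc300000ce0, nat_lit 16),
  (nat_lit 0xc0000000000000000, nat_lit 32),
  (nat_lit 0xc00000000, nat_lit 64),
  (nat_lit 0xc0000000000000000, nat_lit 32),
  (nat_lit 0x18000000040000, nat_lit 8),
  (nat_lit 0x80c01020006000200, nat_lit 4),
  (nat_lit 0x200020213311000001010200, nat_lit 2),
  (nat_lit 0x104410010550054014000500, nat_lit 1)]
def t11 : Net := [(nat_lit 0x4405115000155110111410455110, nat_lit 1),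
  (nat_lit 0x300003201233222221032000, nat_lit 2),
  (nat_lit 0xc0c0c000c0f000f000002050208, nat_lit 4),
  (nat_lit 0xff00f000f00000006e0020, nat_lit 8),
  (nat_lit 0xff000000ff0000004a00, nat_lit 16),
  (nat_lit 0xff0000000000f0000000, nat_lit 32),
  (nat_lit 0xf0000000, nat_lit 64),
  (nat_lit 0xf0000000, nat_lit 32),
  (nat_lit 0xff000000000000000000, nat_lit 16),
  (nat_lit 0xff000000f000000000004a0000, nat_lit 8),
  (nat_lit 0xf000f000002040200, nat_lit 4),
  (nat_lit 0x3000003030000000000000030000, nat_lit 2),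
  (nat_lit 0x400404044440144000, nat_lit 1)]
def t12 : Net := [(nat_lit 0x5511114111511555540555011140, nat_lit 1),
  (nat_lit 0x303033321111123131211212230, nat_lit 2),
  (nat_lit 0xf030c0c0c0f0f0f0f000c0a0308, nat_lit 4),
  (nat_lit 0xff00ff00f00000000000e10018, nat_lit 8),
  (nat_lit 0xff0000ff0000002100, nat_lit 16),
  (nat_lit 0xf0ff0000000000000000, nat_lit 32),
  (nat_lit 0xf00000000000, nat_lit 64),
  (nat_lit 0xf0000000000000000000, nat_lit 32),
  (nat_lit 0xff0000000000000000, nat_lit 16),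
  (nat_lit 0xf000f0000000210000, nat_lit 8),
  (nat_lit 0xc020100, nat_lit 4),
  (nat_lit 0x3202300, nat_lit 2),
  (nat_lit 0x40004040005014140, nat_lit 1)]
def t13 : Net := [(nat_lit 0x5050550544555100511415555500, nat_lit 1),
  (nat_lit 0x300003223211022221201210, nat_lit 2),
  (nat_lit 0xc0c0c000c0f000f00000c040700, nat_lit 4),
  (nat_lit 0xff00f00000000000c20030, nat_lit 8),
  (nat_lit 0xff0f0000000000000200, nat_lit 16),
  (nat_lit 0xff0000000000f00f0000, nat_lit 32),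
  (nat_lit 0xf00f0000, nat_lit 64),
  (nat_lit 0xf00f0000, nat_lit 32),
  (nat_lit 0xff0f0000f00000000000, nat_lit 16),
  (nat_lit 0xf000f0000000020000, nat_lit 8),
  (nat_lit 0xc000300, nat_lit 4),
  (nat_lit 0x30300000000000000001020000, nat_lit 2),
  (nat_lit 0x5555500, nat_lit 1)]
def t14 : Net := [(nat_lit 0x5555505005055145011415410410, nat_lit 1),
  (nat_lit 0x3030003003132310133033002210, nat_lit 2),
  (nat_lit 0xc0c0c0c0f0f000f000006000700, nat_lit 4),
  (nat_lit 0xff00000000000000690030, nat_lit 8),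
  (nat_lit 0xffff0000f00000000100, nat_lit 16),
  (nat_lit 0xffff00000000000f0000, nat_lit 32),
  (nat_lit 0xf0000, nat_lit 64),
  (nat_lit 0xf0000, nat_lit 32),
  (nat_lit 0xffff0000000000000000, nat_lit 16),
  (nat_lit 0x10000, nat_lit 8),
  (nat_lit 0x6000300, nat_lit 4),
  (nat_lit 0x3030300000000000000003210000, nat_lit 2),
  (nat_lit 0x4000004504500, nat_lit 1)]
def t15 : Net := [(nat_lit 0x5055551455400414444440000110, nat_lit 1),
  (nat_lit 0x30300030111101111212010000, nat_lit 2),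
  (nat_lit 0xc0c0c0c030f0f00000004000b00, nat_lit 4),
  (nat_lit 0xff000000f0000f000000490030, nat_lit 8),
  (nat_lit 0xff0000000000000100, nat_lit 16),
  (nat_lit 0xf0ff0000000000000000, nat_lit 32),
  (nat_lit 0xf00000000000, nat_lit 64),
  (nat_lit 0xf0000000000000000000, nat_lit 32),
  (nat_lit 0xff0000000000000000, nat_lit 16),
  (nat_lit 0xff000000f00000000000010000, nat_lit 8),
  (nat_lit 0xf0f00000004000300, nat_lit 4),
  (nat_lit 0x30300030000000000002010000, nat_lit 2),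
  (nat_lit 0x400404444440000000, nat_lit 1)]
def t16 : Net := [(nat_lit 0x1155441411400415444444414550, nat_lit 1),
  (nat_lit 0x30300030111101111212210220, nat_lit 2),
  (nat_lit 0xc0c0c0c030f000f000002000d00, nat_lit 4),
  (nat_lit 0xff000000f000f0000000290090, nat_lit 8),
  (nat_lit 0xff0000000000000100, nat_lit 16),
  (nat_lit 0xf0ff0000000000000000, nat_lit 32),
  (nat_lit 0xf00000000000, nat_lit 64),
  (nat_lit 0xf0000000000000000000, nat_lit 32),
  (nat_lit 0xff0000000000000000, nat_lit 16),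
  (nat_lit 0xf00000000000010000, nat_lit 8),
  (nat_lit 0x2000900, nat_lit 4),
  (nat_lit 0x3000003000000000000002000000, nat_lit 2),
  (nat_lit 0x40040000005410440, nat_lit 1)]
def t17 : Net := [(nat_lit 0x50505004400444441444440, nat_lit 1),
  (nat_lit 0x303030002000000000220220, nat_lit 2),
  (nat_lit 0xf000f000000000000, nat_lit 4),
  (nat_lit 0xff000000000000000000000000, nat_lit 8),
  (nat_lit 0x4000000000440440, nat_lit 1)]
def t18 : Net := [(nat_lit 0x4145405500500504114401101040, nat_lit 1),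
  (nat_lit 0x210323100000310310202103011, nat_lit 2),
  (nat_lit 0xb0302010a090c00080409000107, nat_lit 4),
  (nat_lit 0x6800fc000800f300650035005d, nat_lit 8),
  (nat_lit 0xbe60000061ad0000b5f4, nat_lit 16),
  (nat_lit 0x85690000000002210020, nat_lit 32),
  (nat_lit 0x108200000, nat_lit 64),
  (nat_lit 0x10000000000200000, nat_lit 32),
  (nat_lit 0xc680000002100000020, nat_lit 16),
  (nat_lit 0x68001a000800e3002100210000, nat_lit 8),
  (nat_lit 0x300080300090804040009010000, nat_lit 4),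
  (nat_lit 0x220323100000310310203002000, nat_lit 2),
  (nat_lit 0x510544400500504114401101040, nat_lit 1)]
def t19 : Net := [(nat_lit 0x4041144500005545050505454541, nat_lit 1),
  (nat_lit 0x1313222110002231130303223032, nat_lit 2),
  (nat_lit 0x5060a08020a040f0c08020e0d0b, nat_lit 4),
  (nat_lit 0x300cb008100a30042002a0048, nat_lit 8),
  (nat_lit 0xea230000329c00000ead, nat_lit 16),
  (nat_lit 0xd5030000000011220000, nat_lit 32),
  (nat_lit 0x10080200000, nat_lit 64),
  (nat_lit 0x1000000000000200000, nat_lit 32),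
  (nat_lit 0x90230000100000000000, nat_lit 16),
  (nat_lit 0x300280081002b000200220000, nat_lit 8),
  (nat_lit 0x500080a000a08070400020e0c00, nat_lit 4),
  (nat_lit 0x1210322100002211130101223010, nat_lit 2),
  (nat_lit 0x414550100005545050505404500, nat_lit 1)]
def t20 : Net := [(nat_lit 0x55055501155055450000, nat_lit 1),
  (nat_lit 0x3030030033022301133030100001, nat_lit 2),
  (nat_lit 0xf0c030f000000000a0a0b0308, nat_lit 4),
  (nat_lit 0x330033000000100010006a0030, nat_lit 8),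
  (nat_lit 0xf00f0000ff500000cb0a, nat_lit 16),
  (nat_lit 0xf00f00000000104f000a, nat_lit 32),
  (nat_lit 0xf0000, nat_lit 64),
  (nat_lit 0xf0000, nat_lit 32),
  (nat_lit 0xf00f000010400000000a, nat_lit 16),
  (nat_lit 0xc30000000000100010004a0000, nat_lit 8),
  (nat_lit 0x30f0f0000000000000a0a0a0300, nat_lit 4),
  (nat_lit 0x33000000000000000000100000, nat_lit 2),
  (nat_lit 0x4400005410000, nat_lit 1)]
def t21 : Net := [(nat_lit 0x1111050500500010400004445000, nat_lit 1),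
  (nat_lit 0x3030030000201310133030321001, nat_lit 2),
  (nat_lit 0xf00030c0f000000000a0a0c0508, nat_lit 4),
  (nat_lit 0xcc00cc005000520052002c0050, nat_lit 8),
  (nat_lit 0xf0af0000af5a0000fd00, nat_lit 16),
  (nat_lit 0xf00f0000000052a85000, nat_lit 32),
  (nat_lit 0x50a00000, nat_lit 64),
  (nat_lit 0x50a00000, nat_lit 32),
  (nat_lit 0xf0af0000020800005000, nat_lit 16),
  (nat_lit 0x3c0000005000520052000d0000, nat_lit 8),
  (nat_lit 0x3000f0000000000000a0a0f0500, nat_lit 4),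
  (nat_lit 0x3300000000000000000000210000, nat_lit 2),
  (nat_lit 0x40400005014000, nat_lit 1)]
def t22 : Net := [(nat_lit 0x545541100400514101104504404, nat_lit 1),
  (nat_lit 0x2111331310001111212000331311, nat_lit 2),
  (nat_lit 0x50b020907040e000d08080d0803, nat_lit 4),
  (nat_lit 0x30014008400dc000800a9001d, nat_lit 8),
  (nat_lit 0xc2100000cb9b00002bd4, nat_lit 16),
  (nat_lit 0xf73400000000c4280000, nat_lit 32),
  (nat_lit 0x42080000000, nat_lit 64),
  (nat_lit 0x4200000000080000000, nat_lit 32),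
  (nat_lit 0xa0140000c00800000000, nat_lit 16),
  (nat_lit 0xb6001400840014000800a90000, nat_lit 8),
  (nat_lit 0x80400000406080d00080c0800, nat_lit 4),
  (nat_lit 0x10031000001111212000201200, nat_lit 2),
  (nat_lit 0x5540044400400514101104400400, nat_lit 1)]
def t23 : Net := [(nat_lit 0x110505550005015400004054004, nat_lit 1),
  (nat_lit 0x120333210102110111312230111, nat_lit 2),
  (nat_lit 0x60801090c0d0f0f0d00020a0d08, nat_lit 4),
  (nat_lit 0xba00fa002900ff000400280050, nat_lit 8),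
  (nat_lit 0xc5a60000d7f400000100, nat_lit 16),
  (nat_lit 0x7baf00000000d7040000, nat_lit 32),
  (nat_lit 0x280001040000, nat_lit 64),
  (nat_lit 0x28000000000001040000, nat_lit 32),
  (nat_lit 0x118e0000d70400000000, nat_lit 16),
  (nat_lit 0xe0006002900f0000400000000, nat_lit 8),
  (nat_lit 0x1080e02000d0f0f0d0002000500, nat_lit 4),
  (nat_lit 0x210333120000000000100000000, nat_lit 2),
  (nat_lit 0x5444040000000040400004054004, nat_lit 1)]
def t24 : Net := [(nat_lit 0x50501440410141415504100111, nat_lit 1),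
  (nat_lit 0x3300003320110230222222131000, nat_lit 2),
  (nat_lit 0xc000f0007020e0d010d020b0100, nat_lit 4),
  (nat_lit 0xcc00f00047004c00d2002d0078, nat_lit 8),
  (nat_lit 0x3d3c0000f68200000490, nat_lit 16),
  (nat_lit 0x7e3c00000000d7380000, nat_lit 32),
  (nat_lit 0x420005380000, nat_lit 64),
  (nat_lit 0x42000000000005380000, nat_lit 32),
  (nat_lit 0x3d3c0000d21000000000, nat_lit 16),
  (nat_lit 0x47002600d200040000, nat_lit 8),
  (nat_lit 0xf030f0000060f09000d02090a00, nat_lit 4),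
  (nat_lit 0x33033000031002300000020300, nat_lit 2),
  (nat_lit 0x4154451444445405140, nat_lit 1)]
def t25 : Net := [(nat_lit 0x41401045005501545114, nat_lit 1),
  (nat_lit 0x3313002132003301002012, nat_lit 2),
  (nat_lit 0xf0f0f06090d01050f03030b00, nat_lit 4),
  (nat_lit 0x11006a000000370034, nat_lit 8),
  (nat_lit 0x2200002200000037f4, nat_lit 16),
  (nat_lit 0x11000000000000220000, nat_lit 32),
  (nat_lit 0x110000220000, nat_lit 64),
  (nat_lit 0x11000000000000220000, nat_lit 32),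
  (nat_lit 0x220000000000000000, nat_lit 16),
  (nat_lit 0x110022000000030000, nat_lit 8),
  (nat_lit 0xc00000003000000, nat_lit 4),
  (nat_lit 0x10002132000001002010, nat_lit 2),
  (nat_lit 0x14401045000001445014, nat_lit 1)]
def t26 : Net := [(nat_lit 0x550000551104404141141151114, nat_lit 1),
  (nat_lit 0x330330333120220121123121312, nat_lit 2),
  (nat_lit 0xf000f030d0708040b0f09040904, nat_lit 4),
  (nat_lit 0xff000000b500a5000000810000, nat_lit 8),
  (nat_lit 0xff480000cf00000095f4, nat_lit 16),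
  (nat_lit 0xff0000000000b5480000, nat_lit 32),
  (nat_lit 0xb5480000, nat_lit 64),
  (nat_lit 0xb5480000, nat_lit 32),
  (nat_lit 0xff480000a40000000000, nat_lit 16),
  (nat_lit 0xb50003000000010000, nat_lit 8),
  (nat_lit 0xf030c000009000900, nat_lit 4),
  (nat_lit 0x20002021000002100210, nat_lit 2),
  (nat_lit 0x10140441440001045004, nat_lit 1)]
def t27 : Net := [(nat_lit 0x50501401041045005501441514, nat_lit 1),
  (nat_lit 0x3033301221201221121022002, nat_lit 2),
  (nat_lit 0xf0f030e070704040f03030504, nat_lit 4),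
  (nat_lit 0x13006a0000003f0014, nat_lit 8),
  (nat_lit 0xff480000780000001ff4, nat_lit 16),
  (nat_lit 0xff000000000013480000, nat_lit 32),
  (nat_lit 0x13480000, nat_lit 64),
  (nat_lit 0x13480000, nat_lit 32),
  (nat_lit 0xff480000010000000000, nat_lit 16),
  (nat_lit 0xff0000001300780000002b0000, nat_lit 8),
  (nat_lit 0xc030f000003020800, nat_lit 4),
  (nat_lit 0x3000002012000000201100, nat_lit 2),
  (nat_lit 0x10410414444440510004, nat_lit 1)]
def t28 : Net := [(nat_lit 0x5555000045500441005500551004, nat_lit 1),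
  (nat_lit 0x3333003320020021000001223112, nat_lit 2),
  (nat_lit 0xf0f0000030b0104050f07070f00, nat_lit 4),
  (nat_lit 0x2000cc000000730070, nat_lit 8),
  (nat_lit 0x205e0000dd00000073f4, nat_lit 16),
  (nat_lit 0x205e0000, nat_lit 32),
  (nat_lit 0x205e0000, nat_lit 64),
  (nat_lit 0x205e0000, nat_lit 32),
  (nat_lit 0x205e0000000000000000, nat_lit 16),
  (nat_lit 0x2000cc000000030000, nat_lit 8),
  (nat_lit 0xb0000000007040400, nat_lit 4),
  (nat_lit 0x10020021000000223100, nat_lit 2),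
  (nat_lit 0x10500441000000551004, nat_lit 1)]
def t29 : Net := [(nat_lit 0x555505044404040005411000, nat_lit 1),
  (nat_lit 0x3333000033002222003302010330, nat_lit 2),
  (nat_lit 0xf000f0f06000000000003000700, nat_lit 4),
  (nat_lit 0xff00ff0000003c0058, nat_lit 8),
  (nat_lit 0x400, nat_lit 16),
  (nat_lit 0xff000000000000000000, nat_lit 32),
  (nat_lit 0xff0000000000, nat_lit 64),
  (nat_lit 0xff000000000000000000, nat_lit 32),
  (nat_lit 0xff0000000000040000, nat_lit 8),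
  (nat_lit 0x3000500, nat_lit 4),
  (nat_lit 0x2010200, nat_lit 2),
  (nat_lit 0x50004404000005011000, nat_lit 1)]
def t30 : Net := [(nat_lit 0x555545055014455500450044, nat_lit 1),
  (nat_lit 0x3333003320001010200001300132, nat_lit 2),
  (nat_lit 0xf0f000003060409030f02040204, nat_lit 4),
  (nat_lit 0xce00cc000000020000, nat_lit 8),
  (nat_lit 0x20100009200000027f4, nat_lit 16),
  (nat_lit 0xcc000000000002010000, nat_lit 32),
  (nat_lit 0xcc0002010000, nat_lit 64),
  (nat_lit 0xcc000000000002010000, nat_lit 32),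
  (nat_lit 0x2010000000000000000, nat_lit 16),
  (nat_lit 0xce0002000000020000, nat_lit 8),
  (nat_lit 0x90302000002000200, nat_lit 4),
  (nat_lit 0x10020021000000100010, nat_lit 2),
  (nat_lit 0x10500541100000450044, nat_lit 1)]
def t31 : Net := [(nat_lit 0x5555000011440044045500001110, nat_lit 1),
  (nat_lit 0x333312222022020001100330, nat_lit 2),
  (nat_lit 0xf0f00000f0f0f0f0f0007080700, nat_lit 4),
  (nat_lit 0x710058, nat_lit 8),
  (nat_lit 0xff0000ff0000000100, nat_lit 16),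
  (nat_lit 0xff0000, nat_lit 32),
  (nat_lit 0xff0000, nat_lit 64),
  (nat_lit 0xff0000, nat_lit 32),
  (nat_lit 0xff0000000000000000, nat_lit 16),
  (nat_lit 0x10000, nat_lit 8),
  (nat_lit 0x7000500, nat_lit 4),
  (nat_lit 512, nat_lit 2),
  (nat_lit 0x44440044040000001110, nat_lit 1)]
def t32 : Net := [(nat_lit 0x555551401454000000441114, nat_lit 1),
  (nat_lit 0x330013002032003301222102, nat_lit 2),
  (nat_lit 0xf000f0f090606060a0f03030b00, nat_lit 4),
  (nat_lit 0x1100a3000000370034, nat_lit 8),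
  (nat_lit 0x2200002200000037f4, nat_lit 16),
  (nat_lit 0x11000000000000220000, nat_lit 32),
  (nat_lit 0x110000220000, nat_lit 64),
  (nat_lit 0x11000000000000220000, nat_lit 32),
  (nat_lit 0x220000000000000000, nat_lit 16),
  (nat_lit 0x110022000000030000, nat_lit 8),
  (nat_lit 0x3000000, nat_lit 4),
  (nat_lit 0x10002032000001222100, nat_lit 2),
  (nat_lit 0x4401454000000441114, nat_lit 1)]
def C : Ctx := ⟨112, 7, [t0, t1, t2, t3, t4, t5, t6, t7, t8, t9, t10, t11, t12, t13, t14, t15, t16, t17, t18, t19, t20, t21, t22, t23, t24, t25, t26, t27, t28, t29, t30, t31, t32]⟩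
theorem hC : C.ok = true := by decide +kernel
noncomputable def lk : ℕ → ℕ → ℕ := look C 64
theorem hlk : Good C lk := good_look hC (by decide +kernel)
noncomputable def L5 : Level where
  ω := 5
  hs := []
  cardH := 1
  reps := [⟨[0], 6, [], [], []⟩]
  covs := [⟨[35], [], [⟨0, [], [], 1, []⟩,
      ⟨1, [], [], 0, []⟩], []⟩]
theorem L5_light : L5.lightOK C = true := by decide +kernel
theorem L5_eqns_0 : lall (L5.eqns) (eqP C) = true := by decide +kernel
theorem L5_eqns : lall (L5.eqns) (eqP C) = true := L5_eqns_0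
theorem L5_H : Nat.card (C.grp L5.hs) = L5.cardH := card_grp_nil C
theorem L5_card : Nat.card (C.grp L5.gs) = 2 :=
  L5.card hC L5_light L5_eqns L5_H (by decide +kernel)
def H5 : List Word := [[35], [34]]
theorem H5_eq : C.grp H5 = C.grp L5.gs :=
  grp_lapp_eq hC L5.gs [([34], [0])] (by decide +kernel)
theorem H5_card : Nat.card (C.grp H5) = 2 := H5_eq ▸ L5_card
theorem L5_base : IsBase (C.grp L5.gs) [5] :=
  isBase_level L5 hC L5_light L5_eqns L5_H (isBase_nil C)
theorem H5_base : IsBase (C.grp H5) [5] := H5_eq ▸ L5_base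
noncomputable def L4 : Level where
  ω := 4
  hs := H5
  cardH := 2
  reps := [⟨[4], 9, [0], [], []⟩]
  covs := [⟨[31], [], [⟨0, [], [], 1, []⟩,
      ⟨1, [], [], 0, []⟩,
      ⟨1, [0], [0], 1, [0]⟩], []⟩]
theorem L4_light : L4.lightOK C = true := by decide +kernel
theorem L4_eqns_0 : lall (L4.eqns) (eqP C) = true := by decide +kernel
theorem L4_eqns : lall (L4.eqns) (eqP C) = true := L4_eqns_0
theorem L4_H : Nat.card (C.grp L4.hs) = L4.cardH := H5_card
theorem L4_card : Nat.card (C.grp L4.gs) = 6 :=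
  L4.card hC L4_light L4_eqns L4_H (by decide +kernel)
def H4 : List Word := [[35], [34], [31], [30], [32]]
theorem H4_eq : C.grp H4 = C.grp L4.gs :=
  grp_lapp_eq hC L4.gs [([30], [4]), ([32], [4,0])] (by decide +kernel)
theorem H4_card : Nat.card (C.grp H4) = 6 := H4_eq ▸ L4_card
theorem L4_base : IsBase (C.grp L4.gs) [4,5] :=
  isBase_level L4 hC L4_light L4_eqns L4_H H5_base
theorem H4_base : IsBase (C.grp H4) [4,5] := H4_eq ▸ L4_base
noncomputable def L3 : Level where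
  ω := 20
  hs := H4
  cardH := 6
  reps := [⟨[10], 26, [4,0], [([0], [9,0])], [(5, [0], [])]⟩]
  covs := [⟨[27], [([9,0], [0])], [⟨0, [], [], 1, []⟩,
      ⟨1, [], [4], 1, [4]⟩,
      ⟨1, [4], [], 0, [4]⟩], [0]⟩]
theorem L3_light : L3.lightOK C = true := by decide +kernel
theorem L3_eqns_0 : lall (L3.eqns) (eqP C) = true := by decide +kernel
theorem L3_eqns : lall (L3.eqns) (eqP C) = true := L3_eqns_0
theorem L3_H : Nat.card (C.grp L3.hs) = L3.cardH := H4_card
theorem L3_card : Nat.card (C.grp L3.gs) = 24 :=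
  L3.card hC L3_light L3_eqns L3_H (by decide +kernel)
def H3 : List Word := [[35], [34], [31], [30], [32], [27], [26], [28]]
theorem H3_eq : C.grp H3 = C.grp L3.gs :=
  grp_lapp_eq hC L3.gs [([26], [11]), ([28], [11,9,0])] (by decide +kernel)
theorem H3_card : Nat.card (C.grp H3) = 24 := H3_eq ▸ L3_card
theorem L3_base : IsBase (C.grp L3.gs) [20,4,5] :=
  isBase_level L3 hC L3_light L3_eqns L3_H H4_base
theorem H3_base : IsBase (C.grp H3) [20,4,5] := H3_eq ▸ L3_base
noncomputable def L2 : Level where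
  ω := 3
  hs := H3
  cardH := 24
  reps := [⟨[16], 6, [0,10,4], [([4], [0]), ([15,0], [10,4,0])], [(4, [0,2], [])]⟩,
    ⟨[16,11,16], 7, [], [([10,0], [11,0]), ([10], [15,4])], [(82, [0,2,0,2,0,2,0], [])]⟩]
  covs := [⟨[25], [([0], [4]), ([10,4], [15,9])], [⟨0, [], [], 1, []⟩,
      ⟨1, [], [0], 1, [9]⟩,
      ⟨1, [8], [], 0, [9]⟩,
      ⟨1, [11], [], 2, []⟩,
      ⟨2, [], [0,10], 1, [10,9,0]⟩], [0,2]⟩]
theorem L2_light : L2.lightOK C = true := by decide +kernel
theorem L2_eqns_0 : lall (L2.eqns) (eqP C) = true := by decide +kernel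
theorem L2_eqns : lall (L2.eqns) (eqP C) = true := L2_eqns_0
theorem L2_H : Nat.card (C.grp L2.hs) = L2.cardH := H3_card
theorem L2_card : Nat.card (C.grp L2.gs) = 192 :=
  L2.card hC L2_light L2_eqns L2_H (by decide +kernel)
def H2 : List Word := [[35], [34], [31], [30], [32], [27], [26], [28], [25], [22], [24]]
theorem H2_eq : C.grp H2 = C.grp L2.gs :=
  grp_lapp_eq hC L2.gs [([22], [16,11,16,9,0]), ([24], [17])] (by decide +kernel)
theorem H2_card : Nat.card (C.grp H2) = 192 := H2_eq ▸ L2_card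
theorem L2_base : IsBase (C.grp L2.gs) [3,20,4,5] :=
  isBase_level L2 hC L2_light L2_eqns L2_H H3_base
theorem H2_base : IsBase (C.grp H2) [3,20,4,5] := H2_eq ▸ L2_base
noncomputable def L1 : Level where
  ω := 1
  hs := H2
  cardH := 192
  reps := [⟨[22], 12, [4,18,0,10], [([16,10], [10,16,15,9,0]), ([15,9], [9,0])], [(88, [0,2,0,0,2,0,0,0], [])]⟩,
    ⟨[22,11,22], 2, [], [([15,9,0], [4,0]), ([0], [9,0]), ([0,16], [17,10,9,0])], [(40, [4,0,2,4,0,4,0,2,4], [[0], [2]]), (46, [0,2,0], [])]⟩]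
  covs := [⟨[15], [([9,0], [15,9]), ([10,16,15], [16,15])], [⟨0, [], [], 1, []⟩,
      ⟨1, [9], [19], 1, [17,9]⟩,
      ⟨1, [16], [], 0, [10,16,10,4,0]⟩,
      ⟨1, [11], [], 2, []⟩,
      ⟨2, [], [8,19], 1, [10,16,11,4,0]⟩], [0,2,2]⟩]
theorem L1_light : L1.lightOK C = true := by decide +kernel
theorem L1_eqns_0 : lall (L1.eqns) (eqP C) = true := by decide +kernel
theorem L1_eqns : lall (L1.eqns) (eqP C) = true := L1_eqns_0
theorem L1_H : Nat.card (C.grp L1.hs) = L1.cardH := H2_card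
theorem L1_card : Nat.card (C.grp L1.gs) = 1920 :=
  L1.card hC L1_light L1_eqns L1_H (by decide +kernel)
def H1 : List Word := [[35], [34], [31], [30], [32], [27], [26], [28], [25], [22], [24], [15], [14], [16], [18], [20]]
theorem H1_eq : C.grp H1 = C.grp L1.gs :=
  grp_lapp_eq hC L1.gs [([14], [23]), ([16], [11,4]), ([18], [22,0]), ([20], [22,11,16,11,9,0])] (by decide +kernel)
theorem H1_card : Nat.card (C.grp H1) = 1920 := H1_eq ▸ L1_card
theorem L1_base : IsBase (C.grp L1.gs) [1,3,20,4,5] :=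
  isBase_level L1 hC L1_light L1_eqns L1_H H2_base
theorem H1_base : IsBase (C.grp H1) [1,3,20,4,5] := H1_eq ▸ L1_base
noncomputable def L0 : Level where
  ω := 0
  hs := H1
  cardH := 1920
  reps := [⟨[32], 2, [22,10,16,4,16,22], [([15,9,0], [15,9,0]), ([0], [0]), ([17,15], [11,16,15,9])], [(40, [4,0,2,4,0,4,0,4,0], [[0], [2]]), (46, [0,2,0], [])]⟩,
    ⟨[32,22,32], 26, [4,16,14,22,14,16], [([15,9,0], [9]), ([4,22,10,16,10,9,0], [11,23,11,16,15,9,0])], [(72, [2,0,2,0,2,0,2,2,2], [[0]]), (4, [0,0], [])]⟩]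
  covs := [⟨[12], [([0,16], [10,16,15]), ([18,9,0], [18,9,0])], [⟨0, [], [], 1, []⟩,
      ⟨1, [], [], 0, []⟩,
      ⟨1, [22], [], 2, []⟩,
      ⟨2, [], [22], 1, []⟩,
      ⟨1, [22,11,22], [22,11,22], 1, [22,11,22,0,16]⟩,
      ⟨2, [23], [30], 2, [23]⟩], [0,2,0,2,2]⟩]
theorem L0_light : L0.lightOK C = true := by decide +kernel
theorem L0_eqns_0 : lall (L0.eqns) (eqP C) = true := by decide +kernel
theorem L0_eqns : lall (L0.eqns) (eqP C) = true := L0_eqns_0
theorem L0_H : Nat.card (C.grp L0.hs) = L0.cardH := H1_card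
theorem L0_card : Nat.card (C.grp L0.gs) = 51840 :=
  L0.card hC L0_light L0_eqns L0_H (by decide +kernel)
def H0 : List Word := [[35], [34], [31], [30], [32], [27], [26], [28], [25], [22], [24], [15], [14], [16], [18], [20], [12], [0], [2], [4], [6], [8], [10]]
theorem H0_eq : C.grp H0 = C.grp L0.gs :=
  grp_lapp_eq hC L0.gs [([0], [0]), ([2], [11,4]), ([4], [11,16,11,9]), ([6], [22,32,23,32,22,18,15,9,0]), ([8], [22,18,15,9,0]), ([10], [23,32,22,32,23,18,15,9,0])] (by decide +kernel)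
theorem H0_card : Nat.card (C.grp H0) = 51840 := H0_eq ▸ L0_card
theorem L0_base : IsBase (C.grp L0.gs) [0,1,3,20,4,5] :=
  isBase_level L0 hC L0_light L0_eqns L0_H H1_base
theorem H0_base : IsBase (C.grp H0) [0,1,3,20,4,5] := H0_eq ▸ L0_base
/-- the given generators -/
def gens : List Word := [[0], [2], [4], [6], [8], [10]]
theorem slp : slpOK C [[11,7], [7,5,13,4,6,11,1,5,3,8,2,4,10], [7,9,5,7,2,2,6,4,8,5,3,4,2,4,9,5,7,3,5,0,0,4,2,6,4,8,6], [7,5,8,4,8,6,13,9,7,8,12,11,5,3,1,13,0,2,4,10], [8,11,5,3,1,6,0,2,4,10], [15,17,19,15,19,14,16,18,15], [15,17,15,18,17,14,18,16,14], [24,22,25,25,23,25,25,22], [25,22,24,24,23,25,25,22,24], [27,27,27,27,29,27,28,28,27], [28,27,29,26,26,26,26,26,26], [32,32,31], [2,6,4,2,8,6,4,2,10,4,2,6,4,8,6,10], [0,4,2,6,4,2,8,6,4,2,10,4,2,0,6,4,8,6,10,4], [0,2,4,2,6,4,2,10,4,2,0,6,4,10], [2,4,2,6,4,2,10,4,2,6,4,10], [2,4,2,8,6,4,2,10,4,2,6,4,8,10], [45,37], [39,45,43,39,37,40,36,38,40,44], [39,45,46,38], [48,51,51,49,49,49,49,49,49,49,49,49,49,51,48,50,48],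 [51,49,51,48,51,49,49,50,49,50,48], [52,55,52,52,54,52,54], [53,54,53,53,55,52,55,52], [53,53,54,54,52], [53,54,52,52], [57,57,57,63,58]] 6 = true := by decide +kernel
theorem gens_eq : C.grp gens = C.grp H0 :=
  grp_eq_of_slp hC slp (by decide) (by decide) (by decide)
theorem card : Nat.card (C.grp gens) = 51840 := gens_eq ▸ H0_card
/-- every word in the table lies in the group -/
theorem all_mem {w : Word} (hw : ∀ a ∈ w, a < 66) : C.ev w ∈ C.grp gens :=
  ev_mem_of_lt (slp_mem hC _ 6 slp fun i hi => by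
    rw [← ev_gen C.g i]; exact mem_grp _ ((by decide : ∀ i < 6, [2 * i] ∈ gens) i hi)) hw
noncomputable def PL4 : Level where
  ω := 48
  hs := []
  cardH := 1
  reps := [⟨[0], 56, [], [], []⟩]
  covs := [⟨[65], [], [⟨0, [], [], 1, []⟩,
      ⟨1, [], [], 0, []⟩], []⟩]
theorem PL4_light : PL4.lightOK C = true := by decide +kernel
theorem PL4_eqns_0 : lall (PL4.eqns) (eqP C) = true := by decide +kernel
theorem PL4_eqns : lall (PL4.eqns) (eqP C) = true := PL4_eqns_0
theorem PL4_H : Nat.card (C.grp PL4.hs) = PL4.cardH := card_grp_nil C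
theorem PL4_card : Nat.card (C.grp PL4.gs) = 2 :=
  PL4.card hC PL4_light PL4_eqns PL4_H (by decide +kernel)
def PH4 : List Word := [[65], [64]]
theorem PH4_eq : C.grp PH4 = C.grp PL4.gs :=
  grp_lapp_eq hC PL4.gs [([64], [0])] (by decide +kernel)
theorem PH4_card : Nat.card (C.grp PH4) = 2 := PH4_eq ▸ PL4_card
theorem PL4_base : IsBase (C.grp PL4.gs) [48] :=
  isBase_level PL4 hC PL4_light PL4_eqns PL4_H (isBase_nil C)
theorem PH4_base : IsBase (C.grp PH4) [48] := PH4_eq ▸ PL4_base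
noncomputable def PL3 : Level where
  ω := 42
  hs := PH4
  cardH := 2
  reps := [⟨[4], 55, [], [([0], [0])], [(1, [0], [])]⟩,
    ⟨[6], 67, [], [([0], [0])], [(1, [0], [])]⟩,
    ⟨[8], 70, [], [([0], [0])], [(1, [0], [])]⟩,
    ⟨[4,6], 61, [], [([0], [0])], [(1, [0], [])]⟩,
    ⟨[4,8], 58, [], [([0], [0])], [(1, [0], [])]⟩,
    ⟨[6,8], 46, [], [([0], [0])], [(1, [0], [])]⟩,
    ⟨[4,6,8], 49, [], [([0], [0])], [(1, [0], [])]⟩]
  covs := [⟨[57], [([0], [0])], [⟨0, [], [], 1, []⟩,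
      ⟨1, [], [], 0, []⟩,
      ⟨2, [], [], 4, []⟩,
      ⟨3, [], [], 5, []⟩,
      ⟨4, [], [], 2, []⟩,
      ⟨5, [], [], 3, []⟩,
      ⟨6, [], [], 7, []⟩,
      ⟨7, [], [], 6, []⟩], []⟩,
    ⟨[59], [([0], [0])], [⟨0, [], [], 2, []⟩,
      ⟨1, [], [], 4, []⟩,
      ⟨2, [], [], 0, []⟩,
      ⟨3, [], [], 6, []⟩,
      ⟨4, [], [], 1, []⟩,
      ⟨5, [], [], 7, []⟩,
      ⟨6, [], [], 3, []⟩,
      ⟨7, [], [], 5, []⟩], []⟩,
    ⟨[61], [([0], [0])], [⟨0, [], [], 3, []⟩,
      ⟨1, [], [], 5, []⟩,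
      ⟨2, [], [], 6, []⟩,
      ⟨3, [], [], 0, []⟩,
      ⟨4, [], [], 7, []⟩,
      ⟨5, [], [], 1, []⟩,
      ⟨6, [], [], 2, []⟩,
      ⟨7, [], [], 4, []⟩], []⟩]
theorem PL3_light : PL3.lightOK C = true := by decide +kernel
theorem PL3_eqns_0 : lall (PL3.eqns) (eqP C) = true := by decide +kernel
theorem PL3_eqns : lall (PL3.eqns) (eqP C) = true := PL3_eqns_0
theorem PL3_H : Nat.card (C.grp PL3.hs) = PL3.cardH := PH4_card
theorem PL3_card : Nat.card (C.grp PL3.gs) = 16 :=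
  PL3.card hC PL3_light PL3_eqns PL3_H (by decide +kernel)
def PH3 : List Word := [[65], [64], [57], [59], [61], [56], [58], [60], [62]]
theorem PH3_eq : C.grp PH3 = C.grp PL3.gs :=
  grp_lapp_eq hC PL3.gs [([56], [4]), ([58], [6]), ([60], [8]), ([62], [4,6,0])] (by decide +kernel)
theorem PH3_card : Nat.card (C.grp PH3) = 16 := PH3_eq ▸ PL3_card
theorem PL3_base : IsBase (C.grp PL3.gs) [42,48] :=
  isBase_level PL3 hC PL3_light PL3_eqns PL3_H PH4_base
theorem PH3_base : IsBase (C.grp PH3) [42,48] := PH3_eq ▸ PL3_base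
noncomputable def PL2 : Level where
  ω := 29
  hs := PH3
  cardH := 16
  reps := [⟨[18], 31, [], [([8], [4,8,0]), ([16], [6]), ([4], [0]), ([0], [6,8])], [(3, [0,2,4,6], [])]⟩,
    ⟨[19], 30, [], [([16], [8,0]), ([4], [6,8]), ([0], [4]), ([8], [16,0])], [(3, [0,2,4,6], [])]⟩]
  covs := [⟨[53], [([16], [8,0])], [⟨0, [], [], 1, []⟩,
      ⟨1, [], [], 2, [6,0]⟩,
      ⟨2, [], [], 0, []⟩], []⟩]
theorem PL2_light : PL2.lightOK C = true := by decide +kernel
theorem PL2_eqns_0 : lall (PL2.eqns) (eqP C) = true := by decide +kernel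
theorem PL2_eqns : lall (PL2.eqns) (eqP C) = true := PL2_eqns_0
theorem PL2_H : Nat.card (C.grp PL2.hs) = PL2.cardH := PH3_card
theorem PL2_card : Nat.card (C.grp PL2.gs) = 48 :=
  PL2.card hC PL2_light PL2_eqns PL2_H (by decide +kernel)
def PH2 : List Word := [[65], [64], [57], [59], [61], [56], [58], [60], [62], [53], [52], [54]]
theorem PH2_eq : C.grp PH2 = C.grp PL2.gs :=
  grp_lapp_eq hC PL2.gs [([52], [19]), ([54], [18,8,0])] (by decide +kernel)
theorem PH2_card : Nat.card (C.grp PH2) = 48 := PH2_eq ▸ PL2_card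
theorem PL2_base : IsBase (C.grp PL2.gs) [29,42,48] :=
  isBase_level PL2 hC PL2_light PL2_eqns PL2_H PH3_base
theorem PH2_base : IsBase (C.grp PH2) [29,42,48] := PH2_eq ▸ PL2_base
noncomputable def PL1 : Level where
  ω := 28
  hs := PH2
  cardH := 48
  reps := [⟨[24], 32, [0,4,6], [([18,0], [18,4])], [(4, [0,0,0,0,0], [])]⟩,
    ⟨[24,24], 30, [18,18], [([6], [8,0]), ([8], [8]), ([4], [4]), ([0], [6,0])], [(3, [0,2,4,6], [])]⟩]
  covs := [⟨[49], [([18,4], [18,0])], [⟨0, [], [], 1, []⟩,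
      ⟨1, [], [], 2, []⟩,
      ⟨1, [16], [], 0, [18,6,8]⟩,
      ⟨1, [0], [4], 1, [19,16]⟩,
      ⟨1, [4], [0,6], 1, [19,8,0]⟩,
      ⟨2, [18], [6], 1, [19]⟩], [0,0]⟩]
theorem PL1_light : PL1.lightOK C = true := by decide +kernel
theorem PL1_eqns_0 : lall (PL1.eqns) (eqP C) = true := by decide +kernel
theorem PL1_eqns : lall (PL1.eqns) (eqP C) = true := PL1_eqns_0
theorem PL1_H : Nat.card (C.grp PL1.hs) = PL1.cardH := PH2_card
theorem PL1_card : Nat.card (C.grp PL1.gs) = 576 :=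
  PL1.card hC PL1_light PL1_eqns PL1_H (by decide +kernel)
def PH1 : List Word := [[65], [64], [57], [59], [61], [56], [58], [60], [62], [53], [52], [54], [49], [48], [50]]
theorem PH1_eq : C.grp PH1 = C.grp PL1.gs :=
  grp_lapp_eq hC PL1.gs [([48], [25]), ([50], [6,8])] (by decide +kernel)
theorem PH1_card : Nat.card (C.grp PH1) = 576 := PH1_eq ▸ PL1_card
theorem PL1_base : IsBase (C.grp PL1.gs) [28,29,42,48] :=
  isBase_level PL1 hC PL1_light PL1_eqns PL1_H PH2_base
theorem PH1_base : IsBase (C.grp PH1) [28,29,42,48] := PH1_eq ▸ PL1_base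
noncomputable def PL0 : Level where
  ω := 27
  hs := PH1
  cardH := 576
  reps := [⟨[30], 32, [0,4,6,24], [([4,24,18,16], [0,25,19,6]), ([19,4], [0,25,8])], [(44, [2,0,2,0,2,2,2,2,2], [[0]]), (0, [0], [])]⟩,
    ⟨[30,0,30], 56, [0,4,8,24,6,16], [([18,8,16,0], [18,8,16,0]), ([24,18], [24,18])], [(4, [0,2,0,0,0,0,0], [])]⟩]
  covs := [⟨[46], [([19,4], [0,25,8]), ([0,25,8], [19,4])], [⟨0, [], [], 1, []⟩,
      ⟨1, [], [], 0, []⟩,
      ⟨1, [0], [], 2, []⟩,
      ⟨1, [6], [6], 1, [6]⟩,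
      ⟨2, [], [0], 1, []⟩,
      ⟨2, [4], [4,24], 2, [6,24]⟩], [0,2,0,2,0,2,0,2]⟩]
theorem PL0_light : PL0.lightOK C = true := by decide +kernel
theorem PL0_eqns_0 : lall (PL0.eqns) (eqP C) = true := by decide +kernel
theorem PL0_eqns : lall (PL0.eqns) (eqP C) = true := PL0_eqns_0
theorem PL0_H : Nat.card (C.grp PL0.hs) = PL0.cardH := PH1_card
theorem PL0_card : Nat.card (C.grp PL0.gs) = 25920 :=
  PL0.card hC PL0_light PL0_eqns PL0_H (by decide +kernel)
def PH0 : List Word := [[65], [64], [57], [59], [61], [56], [58], [60], [62], [53], [52], [54], [49], [48], [50], [46], [36], [38], [40], [42], [44]]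
theorem PH0_eq : C.grp PH0 = C.grp PL0.gs :=
  grp_lapp_eq hC PL0.gs [([36], [4,24,30,22,30,6,25,18,6,8,0]), ([38], [4,30,25,30,18,24,24,19,16,0]), ([40], [0,25,19,6]), ([42], [0,24,18,6]), ([44], [0,30,0,30,0])] (by decide +kernel)
theorem PH0_card : Nat.card (C.grp PH0) = 25920 := PH0_eq ▸ PL0_card
theorem PL0_base : IsBase (C.grp PL0.gs) [27,28,29,42,48] :=
  isBase_level PL0 hC PL0_light PL0_eqns PL0_H PH1_base
theorem PH0_base : IsBase (C.grp PH0) [27,28,29,42,48] := PH0_eq ▸ PL0_base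
def prs : List Word := [[36], [38], [40], [42], [44]]
def low45_w3 : List Word := [[36,40,44,38,42,38,44,40,36]]
theorem low45_3 : Low (C.grp low45_w3) 2 [32] :=
  low_orb hC hlk 32 (by decide) [(32,0)] (m := 2) (grp_mono _ (by decide +kernel))
    (by decide +kernel) (by decide +kernel) (low_nil C) (by decide)
def low45_w2 : List Word := [[36,40,44,38,42,38,44,40,36], [40,38,36,40,38], [40,36,44,38,36,40,36,44,42,38]]
theorem low45_2 : Low (C.grp low45_w2) 18 [29,32] :=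
  low_orb hC hlk 29 (by decide) [(29,2), (29,4), (29,5), (33,0), (33,4), (33,5), (35,0), (34,0)] (m := 9) (grp_mono _ (by decide +kernel))
    (by decide +kernel) (by decide +kernel) low45_3 (by decide)
def low45_w1 : List Word := [[36,40,44,38,42,38,44,40,36], [40,38,36,40,38], [40,36,44,38,36,40,36,44,42,38], [40]]
theorem low45_1 : Low (C.grp low45_w1) 576 [40,29,32] :=
  low_orb hC hlk 40 (by decide) [(40,6), (59,0), (59,2), (59,4), (59,5), (53,4), (53,5), (68,4), (68,5), (64,6), (60,6), (49,6), (45,6), (58,6), (57,6), (50,0), (50,2), (46,0), (46,2), (66,0), (66,2), (62,0), (62,2), (41,0), (41,2), (41,4), (41,5), (42,0), (63,4), (44,4), (43,6)] (m := 32) (grp_mono _ (by decide +kernel))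
    (by decide +kernel) (by decide +kernel) low45_2 (by decide)
theorem low45 : Low (C.grp prs) 25920 [27,40,29,32] :=
  low_orb hC hlk 27 (by decide) [(27,0), (27,2), (27,8), (49,4), (49,8), (55,6), (55,8), (48,2), (48,4), (32,2), (71,8), (63,2), (63,4), (45,0), (45,4), (45,6), (54,0), (54,6), (46,2), (59,0), (59,4), (59,6), (39,6), (62,0), (62,6), (62,8), (28,0), (28,6), (69,6), (40,6), (40,8), (57,6), (57,8), (44,8), (42,6), (52,2), (58,8), (43,2), (43,8), (53,2), (31,2), (56,2), (33,8), (50,8)] (m := 45) (le_of_subst _ [[0,4,8,2,6,2,8,4,0], [4,2,0,4,2], [4,0,8,2,0,4,0,8,6,2], [4]] (by decide +kernel))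
    (by decide +kernel) (by decide +kernel) low45_1 (by decide)
theorem cardP : Nat.card (C.grp prs) = 25920 :=
  low45.card ((Subgroup.card_le_of_le (grp_mono _ (by decide +kernel))).trans PH0_card.le)
theorem baseP : IsBase (C.grp prs) [27,40,29,32] := low45.2 cardP.le
theorem base : IsBase (C.grp gens) [0,1,3,20,4,5] := gens_eq ▸ H0_base
theorem P_le : C.grp prs ≤ C.grp gens := (grp_le_iff _).2 fun w hw =>
  all_mem ((by decide : ∀ w ∈ prs, ∀ a ∈ w, a < 2 * 33) w hw)

theorem minus_eq {K : Type*} [Field K] {m : ℕ} (a b : K) (v : (Fin m ⊕ Fin m) ⊕ Fin 2 → K) :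
    quadFormMinus m K a b v = v ⬝ᵥ (fromBlocks (fromBlocks 0 1 0 0) 0 0 !![1, a; 0, b] :
      Matrix ((Fin m ⊕ Fin m) ⊕ Fin 2) ((Fin m ⊕ Fin m) ⊕ Fin 2) K) *ᵥ v := by
  simp [quadFormMinus, fromBlocks_mulVec, dotProduct, Fintype.sum_sum_type, pow_two, mulVec, one_apply]
  ring

/-- `O₆⁻(2)` -/
abbrev W := isometryGroup (ZMod 2) (quadFormMinus 2 (ZMod 2) 1 1)
abbrev e6 : (Fin 2 ⊕ Fin 2) ⊕ Fin 2 ≃ Fin 6 := (finSumFinEquiv.sumCongr (Equiv.refl _)).trans finSumFinEquiv
abbrev el2 : ℕ → ZMod 2 := fun a => a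
noncomputable abbrev ρ : W →* Matrix ((Fin 2 ⊕ Fin 2) ⊕ Fin 2) ((Fin 2 ⊕ Fin 2) ⊕ Fin 2) (ZMod 2) :=
  (Units.coeHom _).comp (isometryGroup _ _).subtype
theorem hρ : Function.Injective ρ := Units.val_injective.comp Subtype.val_injective
theorem hA : Sound (arP 2) el2 := soundP 2
def T : Mat := [[0,0,1,0,0,0],[0,0,0,1,0,0],[0,0,0,0,0,0],[0,0,0,0,0,0],[0,0,0,0,1,1],[0,0,0,0,0,1]]
/-- six reflections, with the diagram `0-1-2-3-4, 2-5` -/
def ms : List (Mat × Mat) := [([[1,0,0,0,0,0],[0,1,0,0,0,0],[0,0,1,0,0,0],[0,0,0,1,0,0],[0,0,0,0,1,0],[0,0,0,0,1,1]], [[1,0,0,0,0,0],[0,1,0,0,0,0],[0,0,1,0,0,0],[0,0,0,1,0,0],[0,0,0,0,1,0],[0,0,0,0,1,1]]),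
  ([[1,0,0,0,0,0],[0,1,0,0,0,0],[0,0,1,0,0,0],[0,0,0,1,0,0],[0,0,0,0,1,1],[0,0,0,0,0,1]], [[1,0,0,0,0,0],[0,1,0,0,0,0],[0,0,1,0,0,0],[0,0,0,1,0,0],[0,0,0,0,1,1],[0,0,0,0,0,1]]),
  ([[1,0,0,0,0,0],[0,1,0,0,0,0],[0,0,1,0,0,0],[0,1,0,1,1,0],[0,0,0,0,1,0],[0,1,0,0,1,1]], [[1,0,0,0,0,0],[0,1,0,0,0,0],[0,0,1,0,0,0],[0,1,0,1,1,0],[0,0,0,0,1,0],[0,1,0,0,1,1]]),
  ([[1,0,0,0,0,0],[0,0,0,1,0,0],[0,0,1,0,0,0],[0,1,0,0,0,0],[0,0,0,0,1,0],[0,0,0,0,0,1]], [[1,0,0,0,0,0],[0,0,0,1,0,0],[0,0,1,0,0,0],[0,1,0,0,0,0],[0,0,0,0,1,0],[0,0,0,0,0,1]]),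
  ([[0,1,1,0,0,0],[0,1,0,0,0,0],[1,1,0,0,0,0],[1,1,1,1,0,0],[0,0,0,0,1,0],[0,0,0,0,0,1]], [[0,1,1,0,0,0],[0,1,0,0,0,0],[1,1,0,0,0,0],[1,1,1,1,0,0],[0,0,0,0,1,0],[0,0,0,0,0,1]]),
  ([[1,0,0,0,0,0],[1,0,0,1,0,0],[1,1,1,1,0,0],[1,1,0,0,0,0],[0,0,0,0,1,0],[0,0,0,0,0,1]], [[1,0,0,0,0,0],[1,0,0,1,0,0],[1,1,1,1,0,0],[1,1,0,0,0,0],[0,0,0,0,1,0],[0,0,0,0,0,1]])]
def SL2 : Mat := [[nat_lit 0x7fff800],
 [nat_lit 0x7f807f8],
 [nat_lit 0x787e786],
 [nat_lit 0x4771775],
 [nat_lit 0x366c660],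
 [nat_lit 0x2d5a550]]
theorem hT : mval el2 e6 T = fromBlocks (fromBlocks 0 1 0 0) 0 0 !![1, 1; 0, 1] := by decide +kernel
theorem cardW : Nat.card W = 51840 :=
  (Cfsg.Agent.S0288.result (F := ZMod 2) (q := 2) rfl 3 (by decide) 1 1 (by decide)).trans (by decide)
instance : Finite W := Nat.finite_of_card_ne_zero (by rw [cardW]; decide)

theorem exW : ∃ γ : ℕ → W, Let e6 ρ el2 γ (lets ms) ∧ ∀ i, 6 ≤ i → γ i = 1 := by
  have hinv : invOK (arP 2) 6 ms = true := by decide +kernel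
  obtain ⟨γ, hL, -, h0⟩ := exists_let e6 hA ρ hinv (S := ⊤) fun x hx => by
    obtain ⟨g, hg⟩ := exists_isoQ e6 hA (fun v => hT ▸ minus_eq 1 1 v) (lall_iff.1 hinv x hx)
      (lall_iff.1 (show lall ms (fun x => isoQ (arP 2) 6 T x.1) = true by decide +kernel) x hx)
    exact ⟨g, trivial, hg⟩
  exact ⟨γ, hL, h0⟩
noncomputable def γ : ℕ → W := exW.choose
theorem hL : Let e6 ρ el2 γ (lets ms) := exW.choose_spec.1
theorem h0 : ∀ i, 6 ≤ i → γ i = 1 := exW.choose_spec.2

theorem one_of_frame {n : ℕ} {SL : Mat} {O : ℕ} {ps : List ℕ} {p : ℕ} {Q : Mat} {co : List ℕ}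
    (h : frameOK (arP 2) 6 n SL O ps p Q co = true) {a : W} (ha : (a, 1) ∈ PR ρ ⊤ n (labv e6 el2 SL) O) : a = 1 := by
  obtain ⟨s, -, hs⟩ := frameOK_spec ρ ⊤ e6 hA h ha
  exact hρ (by rw [hs, Subsingleton.elim s 1, Units.val_one, one_smul, map_one])

theorem isoW : Subgroup.closure (Set.range γ) = ⊤ ∧ Subgroup.center (C.grp gens) = ⊥ ∧ Nonempty (C.grp gens ≃* W) := by
  have hl := link ρ e6 ⊤ hA hC (SL := SL2) (O := 134217727) (inS_top hA) hL (gens := gens) (k := 6) rfl h0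
    fun _ => allR_spec (by decide +kernel)
  have hO : sub 134217727 (C.clo gens [6,10,4,8,2,0,6,4,10,2,4,6,8] (bit 0)) = true := by decide +kernel
  have hI := inj_orb ρ e6 hA hC hl (p := ⟨0, by decide⟩) (by decide +kernel) hO (by decide +kernel)
  have ht : Subgroup.closure (Set.range γ) = ⊤ := Subgroup.eq_top_of_le_card _ (cardW.le.trans (card.ge.trans
    (card_ge ρ hl hI base (by decide +kernel))))
  obtain ⟨ψ, -, -, h3⟩ := hom_range hl (MonoidHom.id _) fun v hv =>
    one_of_frame (show frameOK (arP 2) 6 C.n SL2 134217727 [12,25,23,16,4,13] 22 [[1,0,0,1,0,1],[0,0,1,0,0,1],[1,0,1,0,1,0],[0,0,0,1,0,1],[0,1,1,0,0,0],[0,0,1,1,1,0]] [1,1,1,1,1,1] = true by decide +kernel) hv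
  rw [ht, Subgroup.map_id] at h3
  exact ⟨ht, center_bot hC (hs := [[0,8], [2,4]]) (p := ⟨0, by decide⟩) (by decide +kernel)
    (orb_iff ρ hC hl (by decide +kernel) hO) base (by decide +kernel), ⟨MulEquiv.ofBijective ψ
    ((Nat.bijective_iff_surjective_and_card _).2 ⟨MonoidHom.range_eq_top.1 h3, card.trans cardW.symm⟩)⟩⟩
theorem top : Subgroup.closure (Set.range γ) = ⊤ := isoW.1

def mu : List (Mat × Mat) := [([[1,0,0,0],[0,1,0,0],[0,0,0,1],[0,0,1,0]], [[1,0,0,0],[0,1,0,0],[0,0,0,1],[0,0,1,0]]),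
  ([[1,0,0,0],[0,1,0,0],[0,0,0,3],[0,0,2,0]], [[1,0,0,0],[0,1,0,0],[0,0,0,3],[0,0,2,0]]),
  ([[0,1,1,3],[1,0,1,3],[1,1,0,3],[2,2,2,0]], [[0,1,1,3],[1,0,1,3],[1,1,0,3],[2,2,2,0]]),
  ([[0,3,3,3],[2,0,1,1],[2,1,0,1],[2,1,1,0]], [[0,3,3,3],[2,0,1,1],[2,1,0,1],[2,1,1,0]]),
  ([[0,3,1,1],[2,0,2,2],[1,3,0,1],[1,3,1,0]], [[0,3,1,1],[2,0,2,2],[1,3,0,1],[1,3,1,0]])]
def SL4 : Mat := [[nat_lit 0xb7feebfdbd78000000, nat_lit 0],
 [nat_lit 0xb0ad9ec75a78000000, nat_lit 0x766a25c2478000000],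
 [nat_lit 0x5babe0ccbaa8000000, nat_lit 0x326d0b5bb418000000],
 [nat_lit 0x3bf0aef070b0000000, nat_lit 0x620e32fd5da8000000]]

theorem cardU (F : Type*) [Field F] [Fintype F] (hF : Fintype.card F = 4) : Nat.card (PSU 4 F 2) = 25920 := by
  have hc := Cfsg.Agent.S0280.result (F := F) (q := 2) hF 4 (by decide)
  simp only [Finset.prod_range_succ, Finset.prod_range_zero] at hc
  norm_num [Nat.even_iff] at hc
  omega

theorem isoU (F : Type*) [Field F] [Fintype F] (hF : Fintype.card F = 4) :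
    Subgroup.center (C.grp prs) = ⊥ ∧ Nonempty (C.grp prs ≃* PSU 4 F 2) := by
  obtain ⟨ω, hω⟩ := exists_omega hF
  have hA := sound4 hF hω
  have := charP_two hF
  let ρ := (slToMat 4 F).comp (SU 4 F 2).subtype
  have hρ : Function.Injective ρ := Subtype.val_injective.comp Subtype.val_injective
  obtain ⟨γ, h1, -, h2⟩ := exists_let (Equiv.refl _) hA ρ (ms := mu) (by decide +kernel) (S := ⊤) fun m hm => by
    have h := band_iff.1 (lall_iff.1 (show lall mu (fun m => band (meq 4 (mpow ar4 4 m.1 2) (mone 4))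
      (unitOK ar4 4 2 m.1)) = true by decide +kernel) m hm)
    obtain ⟨g, hg⟩ := exists_SU hA (frobenius F 2) (fun _ => rfl)
      (det_eq_one _ hA (by decide +kernel) h.1) h.2
    exact ⟨g, trivial, hg⟩
  have hl := link ρ _ ⊤ hA hC (SL := SL4) (O := 4722366482869510995968) (inS_top hA) h1 (gens := prs) (k := 5) rfl h2
    fun _ => allR_spec (by decide +kernel)
  have hO : sub 4722366482869510995968 (C.clo prs [0,8,2,4,6,0,8,2,4,0] (bit 27)) = true := by decide +kernel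
  have hZ := center_bot hC (hs := [[2,0,4,2,6]]) (p := ⟨27, by decide⟩) (by decide +kernel)
    (orb_iff ρ hC hl (by decide +kernel) hO) baseP (by decide +kernel)
  exact ⟨hZ, equiv_quot ρ _ hA hρ hl (show frameOK ar4 4 C.n SL4 4722366482869510995968 [35,63,31,43] 28 [[2,1,2,2],[1,3,3,2],[1,1,1,0],[2,2,0,0]] [1,3,2,3] = true by decide +kernel)
    (inj_orb ρ _ hA hC hl (p := ⟨27, by decide⟩) (by decide +kernel) hO (by decide +kernel)) baseP (by decide +kernel)
    hZ (by decide) cardP (cardU F hF)⟩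

/-- a centreless group with a centreless subgroup of index two acts faithfully on it -/
theorem aut_of_two {A S : Type*} [Group A] [Group S] [Finite A] {N : Subgroup A} (hZ : Subgroup.center A = ⊥)
    (hN : Subgroup.center N = ⊥) (h2 : Nat.card A = 2 * Nat.card N) (f : N ≃* S)
    (hc : Nat.card (MulAut S) = Nat.card A) : Nonempty (A ≃* MulAut S) := by
  have h0 : 0 < Nat.card N := Nat.card_pos
  have : N.Normal := N.normal_of_index_eq_two (by have := N.card_mul_index; nlinarith)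
  have hi := inj_of_center (MulAut.conjNormal (H := N)) hZ (by
    have : Finite (MulAut N) := Finite.of_injective _ (DFunLike.coe_injective (F := MulAut N))
    rw [h2, ← Fi.card_inn hN]
    refine Nat.mul_le_mul_left _ (Subgroup.card_le_of_le ?_)
    rintro _ ⟨x, rfl⟩
    exact ⟨x.1, by ext; simp⟩)
  exact ⟨(MulEquiv.ofBijective _ ((Nat.bijective_iff_injective_and_card _).2
    ⟨hi, hc.symm.trans (Fi.card_aut_congr f).symm⟩)).trans (MulAut.congr f)⟩

theorem autU (F : Type*) [Field F] [Fintype F] (hF : Fintype.card F = 4) : Nonempty (W ≃* MulAut (PSU 4 F 2)) := by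
  obtain ⟨hZ, ⟨f⟩⟩ := isoU F hF
  let e := Subgroup.subgroupOfEquivOfLe P_le
  obtain ⟨g⟩ := aut_of_two (N := (C.grp prs).subgroupOf (C.grp gens)) isoW.2.1
    (LocG.center_of_equiv e hZ)
    (by rw [card, Nat.card_congr e.toEquiv, cardP]) (e.trans f)
    (by rw [Cfsg.Agent.S0815.result (q := 2) 2 1 le_rfl rfl hF 4 (by decide) (by decide), cardU F hF, card]; decide)
  exact ⟨isoW.2.2.some.symm.trans g⟩

theorem soundK {K : Type*} [Field K] [Fintype K] {p : ℕ} (hp : p.Prime) (hK : Fintype.card K = p) :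
    Sound (arP p) (fun a : ℕ => (a : K)) := by
  have : Fact p.Prime := ⟨hp⟩
  have : CharP K p := charP_of_card_eq_prime hK
  have inj : ∀ a b, a < p → b < p → (a : K) = b → a = b := fun a b ha hb h =>
    Nat.ModEq.eq_of_lt_of_lt ((CharP.natCast_eq_natCast K p).1 h) ha hb
  refine ⟨Nat.cast_zero, Nat.cast_one, fun a b => (cast_mod p _).trans (Nat.cast_add a b),
    fun a b => (cast_mod p _).trans (Nat.cast_mul a b), fun a b => (cast_mod p _).trans (by
      rw [Nat.add_eq, Nat.mul_eq, Nat.cast_add, Nat.cast_mul, cast_pred hp.pos]; ring), inj, fun x => ?_⟩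
  obtain ⟨a, ha⟩ := ((Fintype.bijective_iff_injective_and_card fun a : Fin p => ((a : ℕ) : K)).2
    ⟨fun a b e => Fin.ext (inj _ _ a.2 b.2 e), by simp [hK]⟩).2 x
  exact ⟨a, a.2, ha⟩

def m3 : List (Mat × Mat) := [([[2,0,0,0],[0,1,0,0],[0,0,2,0],[0,0,0,1]], [[2,0,0,0],[0,1,0,0],[0,0,2,0],[0,0,0,1]]),
  ([[2,0,0,0],[0,1,0,0],[0,2,2,0],[1,0,0,1]], [[2,0,0,0],[0,1,0,0],[0,2,2,0],[1,0,0,1]]),
  ([[2,0,0,1],[0,1,2,0],[0,0,2,0],[0,0,0,1]], [[2,0,0,1],[0,1,2,0],[0,0,2,0],[0,0,0,1]]),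
  ([[0,1,0,2],[1,0,1,0],[0,0,0,1],[0,0,1,0]], [[0,1,0,2],[1,0,1,0],[0,0,0,1],[0,0,1,0]]),
  ([[0,0,0,2],[2,0,1,0],[0,1,0,2],[2,0,0,0]], [[0,0,0,2],[2,0,1,0],[0,1,0,2],[2,0,0,0]])]
def SL3 : Mat := [[nat_lit 0x49dd77ebfa000000000000000000, nat_lit 0],
 [nat_lit 0x9494ac5c0f000000000000000000, nat_lit 0x49422130000000000000000000],
 [nat_lit 0x212e4818d3000000000000000000, nat_lit 0xd481170108000000000000000000],
 [nat_lit 0x821a161ea0000000000000000000, nat_lit 0x596400411d000000000000000000]]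
def J : Mat := [[0,0,2,0],[0,0,0,2],[1,0,0,0],[0,1,0,0]]

theorem isoS (F K : Type*) [Field F] [Fintype F] [Field K] [Fintype K] (hF : Fintype.card F = 4)
    (hK : Fintype.card K = 3) : Nonempty (PSU 4 F 2 ≃* PSp 2 K) := by
  obtain ⟨-, ⟨f⟩⟩ := isoU F hF
  have hA := soundK (by decide) hK
  have : Fact (Nat.Prime 3) := ⟨by decide⟩
  have : CharP K 3 := charP_of_card_eq_prime hK
  have h3 : (2 : K) = -1 := by have := CharP.cast_eq_zero K 3; push_cast at this; linear_combination this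
  let e : Fin 2 ⊕ Fin 2 ≃ Fin 4 := finSumFinEquiv
  let ρ := (symplecticGroup (Fin 2) K).subtype
  have hρ : Function.Injective ρ := Subtype.val_injective
  have hJ : mval (fun a : ℕ => (a : K)) e J = Matrix.J (Fin 2) K := by
    ext i j
    rcases i with i | i <;> rcases j with j | j <;> fin_cases i <;> fin_cases j <;>
      simp [Matrix.J] <;> first | exact hA.zero | exact hA.one | exact Nat.cast_ofNat.trans h3
  obtain ⟨γ, hL, -, h0⟩ := exists_let e hA ρ (ms := m3) (by decide +kernel) (S := ⊤) fun x hx => by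
    obtain ⟨g, hg⟩ := exists_Sp e hA hJ
      (lall_iff.1 (show lall m3 (fun x => isoOK (arP 3) 4 J x.1) = true by decide +kernel) x hx)
    exact ⟨g, trivial, hg⟩
  have hl := link ρ e ⊤ hA hC (SL := SL3) (O := 5192296858530105262047626684006400) (inS_top hA) hL (gens := prs) (k := 5) rfl h0
    fun _ => allR_spec (by decide +kernel)
  have := Cfsg.Agent.S0283.result (q := 2) hF 4 (by decide) (by decide)
  have hc : Nat.card (symplecticGroup (Fin 2) K) = 51840 := by
    rw [Cfsg.Agent.S0245.result hK 2]; decide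
  have : Finite (symplecticGroup (Fin 2) K) := Nat.finite_of_card_ne_zero (by omega)
  obtain ⟨ψ, h4, -⟩ := hom_of_graph hl (QuotientGroup.mk' (Subgroup.center _)) fun a ha => by
    obtain ⟨s, -, hs⟩ := frameOK_spec ρ ⊤ _ hA (show frameOK (arP 3) 4 C.n SL3 5192296858530105262047626684006400 [80,108,76,88] 86 [[1,0,2,1],[0,2,1,2],[1,0,2,0],[2,1,2,2]] [2,1,1,1] = true by decide +kernel) ha
    exact (QuotientGroup.eq_one_iff _).2 (center_of_scalar ρ hρ hs)
  have hi := inj_of_simple f.isSimpleGroup ψ (x := ev (sg C.g prs) [2])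
    (by rw [h4]; exact not_central ρ e hA hL [0] [2] 2 1 (by decide +kernel))
  have h5 : 1 < Nat.card (Subgroup.center (symplecticGroup (Fin 2) K)) := by
    refine Finite.one_lt_card_iff_nontrivial.2 ⟨⟨1, ⟨⟨-1, SymplecticGroup.neg_mem (Submonoid.one_mem _)⟩,
      center_of_scalar ρ hρ (s := -1) (by simp [ρ])⟩, fun h => ?_⟩⟩
    have h6 := congrArg (fun x => (x.1.1 : Matrix _ _ K) (.inl 0) (.inl 0)) h
    simp at h6
    exact one_ne_zero (α := K) (by linear_combination h3 - h6)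
  have h6 := Subgroup.card_eq_card_quotient_mul_card_subgroup (Subgroup.center (symplecticGroup (Fin 2) K))
  exact ⟨f.symm.trans (MulEquiv.ofBijective ψ (hi.bijective_of_nat_card_le (by
    show Nat.card _ ≤ Nat.card (C.grp prs)
    rw [cardP]; nlinarith)))⟩

end CA.We6
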