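import Cfsg.Agent.Lib.Fi.FiA22
import Cfsg.Agent.Lib.Fi.We6

/-! The centraliser of a product of two commuting transpositions in `M(22)` and in its automorphism group. -/

set_option autoImplicit false
set_option linter.unusedVariables false
set_option maxRecDepth 100000
set_option Elab.async false

namespace CA.C2B
open Cfsg Subgroup Equiv CA.Fi CA.CNet CA.CWord CA.CLevel CA.H27Pres CA.CSimple CA.CBack CA.CMat CA.CLink CA.We6 CA.H7Lge

theorem normW {x : W} {m : ℕ} (hm : x ^ (2 * m + 1) = 1) (N : Subgroup W) (hN : N.Normal) (hb : N ≠ ⊥) : x ∈ N := by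
  obtain ⟨F, _, _, hF⟩ := card_F4
  have := Cfsg.Agent.S0283.result (q := 2) hF 4 (by decide) (by decide)
  obtain ⟨f⟩ := autU F hF
  obtain ⟨hZ, ⟨g⟩⟩ := isoU F hF
  have : Finite (PSU 4 F 2) := Nat.finite_of_card_ne_zero (by rw [cardU F hF]; decide)
  exact aut_norm (LocG.center_of_equiv g.symm hZ) f (r := 2)
    (by rw [← Nat.card_congr f.toEquiv, cardW, cardU F hF]) (by simp) (by omega) hm N hN hb

theorem cent_W {Γ : Type*} [Group Γ] [Finite Γ] {C : Ctx} (hC : C.ok = true) (Φ : Γ →* Perm (Fin C.n)) {γ : ℕ → Γ}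
    (hγ : ∀ i, Φ (γ i) = C.g i) {SL : Mat} {O : ℕ} {ws es : List Word} (hl : ws.length = 6)
    (ha : allR (lapp ws es).length (actI (arP 2) 6 C SL O (nz (arP 2)) (lets ms) (lapp ws es)) = true)
    {ps : List ℕ} {p : ℕ} {Q : Mat} {co : List ℕ} (hf : frameOK (arP 2) 6 C.n SL O ps p Q co = true)
    {B : Subgroup Γ} (hB : grp γ (lapp ws es) ≤ B) (hc : Nat.card B ≤ 51840 * Nat.card (grp γ es)) :
    grp γ es ≤ B ∧ ∃ θ : B →* W, Function.Surjective θ ∧ θ.ker = (grp γ es).subgroupOf B ∧
      ∀ v h, θ ⟨ev γ (subst (lapp ws es) v), h⟩ = ev We6.γ v := by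
  obtain ⟨θ, h1, h2⟩ := hom_link Φ hγ (link ρ e6 ⊤ hA hC (inS_top hA) hL rfl
    (fun i hi => h0 i (by simp [lapp_eq, hl] at hi; omega)) fun _ => allR_spec ha) (MonoidHom.id _)
    fun v hv => one_of_frame hf hv
  rw [top, map_id] at h2
  obtain ⟨h3, h4⟩ := le_ker h1 (hl ▸ h0)
  obtain ⟨rfl, h5⟩ := quot_count hB θ h2 h3 h4 (cardW ▸ hc)
  exact ⟨h3, θ, MonoidHom.range_eq_top.1 h2, h5, fun v h => (congrArg θ (Subtype.ext (CTrans.ev_sg _ _ _).symm)).trans (h1 v)⟩

theorem fstar_W {Γ : Type*} [Group Γ] [Finite Γ] {B E : Subgroup Γ} (hE : E ≤ B) {θ : B →* W}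
    (hs : Function.Surjective θ) (hk : θ.ker = E.subgroupOf B) {r : ℕ} (hc : Nat.card E = 2 ^ r) {k x : Γ} (h1 : k ∈ B)
    (h2 : k ^ 3 = 1) (h3 : x ∈ E) (h4 : k * x ≠ x * k) :
    B ⊓ centralizer (E : Set Γ) ≤ E ∧ generalizedFittingSubgroup B = E.subgroupOf B := by
  obtain ⟨h5, -, h6⟩ := fstar_of_quot (p := 2) (m := 3) θ hs (IsPGroup.of_card (by
    rw [hk, Nat.card_congr (subgroupOfEquivOfLe hE).toEquiv, hc])) (k := ⟨k, h1⟩) (by decide) (Subtype.ext h2)
    (normW (m := 1) (by rw [← map_pow, show (⟨k, h1⟩ : B) ^ (2 * 1 + 1) = 1 from Subtype.ext h2, map_one]))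
    fun h => h4 (congrArg Subtype.val (h ⟨x, hE h3⟩ (hk.ge h3))).symm
  exact ⟨fun g hg => hk.le (h5 (show (⟨g, hg.1⟩ : B) ∈ _ from fun y hy => Subtype.ext (hg.2 _ (hk.le hy)))),
    h6.trans hk⟩

def ws : List Word := [[2,0,4,2], [26,10,16,26,2,0,4,2,26,16,10,26], [8,10,26,2,0,4,2,26,10,8], [10,16,26,2,0,4,2,26,16,10], [26,2,0,4,2,26], [16,26,2,0,4,2,26,16]]
def es : List Word := [[12,8,0], [10,26,2,0,4,2,16,26,10,12,8,10,26,16,2,4,0,2,26,10], [10,12,8,10], [26,2,0,4,2,16,26,10,12,8,10,26,16,2,4,0,2,26], [26,10,12,8,10,26], [2,0,4,2,16,26,10,12,8,10,26,16,2,4,0,2], [16,26,10,12,8,10,26,16], [2,0,4,2,26,10,12,8,10,26,8,10,12,8,10,8,2,4,0,2]]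
def q : Word := [28,2,4,0,2,12,8,10,26,2,0,4,2,16,26,10,12,8,10,26,16,12,8,2,4,0,2,26,10]
def SL : Mat := [[nat_lit 0x3fc00003c3c00cc00cccc03fc000000003f30000003c0f0f03c3fc3c3fc00f30f333330cf0f0ffc0333300003333000030f0f33330f0ffffc000330cfc3c3fffc00000000f0f003ff0cf0000000033333fc0000000000ccccf0f0000000003c3ffffffc03fc0000000000ccccf0f00003fc00000000000003fc000000000333330f0f0cf30cf3c3c3c3c30cf30cf3333333300000000000000003fffc00003c3c3c3f30cf30cf30cf30cf0f0f0f0fc3c03c3f30cf30cf30cf30ccf30cf30ccccccccffffc000000000000000000030f0cf0f3fffc0003c3c03c3cc300c303cff3cff3f3cff3cf00c300c00c300c3300c300c00c300c3300c300c00c300c3300c300c0c300c300300c300ff3cff3cf00c300c33cff3cfc300c300ff3cff3cf00c300c0c300c300300c300c0c300c30ff3cff3c0c300c3300c300c300c300c00c300c30ff3cff3c0c300c30ff3cff3c0c300c300c300c3300c300c000000000000000000000000000000000000000000000000000000000000000000000000000000000000000000000000000000000000000000000000000000000000000000000000000000000000000000000000000000],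
 [nat_lit 0x3fc03fffc00000000000003fc000000000003fffffffc0003fffffffc000000000003fffc0003fffc00000003fffc0000000000000003fffc00000000000000000003fffc00000003fffc000000000003fffc000000000003fffc00000000000000000003fffc000000000000000000000000000000000003fffc0003fffffffffffffffffffffffffffffffc000000000000000000000003fffffffc000000000000000000000003fffffffc0000000000000003fffffffc000000000000000000000000000000000000000000000003fffffffccf30cf3330cf30cccf30cf3330cf30cccf30cf3330cf30cccf30cf3330cf30cccf30cf3330cf30cccf30cf3330cf30cccf30cf3330cf30cccf30cf3330cf30cccf30cf3330cf30cccf30cf3330cf30cccf30cf3330cf30cccf30cf3330cf30cf30cf30cccf30cf3330cf30cccf30cf3330cf30cccf30cf30cf30cf3330cf30cc00000000000000000000000000000000000000000000000000000000000000000000000000000000000000000000000000000000000000000000000000000000000000000000000000000000000000000000000000000],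
 [nat_lit 0x3c3c0333ff33300003fc0000003ccc000003c0f0f3c3c03c3ffc030cf3333330ccf0f3fc033330000333300000f0f33330f0f00000000330cfc3c000000003ffff0f0c03fcf30c00000000cccc03fffffc0000cccf0f0ffffc00003c3c000003fffc0000000000cccf0f0c000003fc00000000000003fc00000000cccf0f0cf30cf30c3c3c3c3cf30cf30f333333300000000000000003fffc00003c3c3c3ccf30cf30cf30cf330f0f0f0fc3c03c3ccf30cf30cf30cf330cf30cf0cccccccc0003fffc0000000000000000f0f30f0c0003ffffc3c03c3c0c300c3300c300c0c300c300300c300f3cff3cfc300c300f3cff3cfc300c300f3cff3cfc300c300ff3cff3cf00c300c0c300c300300c300c0c300c3300c300c0c300c300300c300c0c300c30ff3cff3cc300c300300c300cc300c303cff3cff3cff3cff0c300c300300c300cc300c300300c300cc300c300c300c303cff3cff000000000000000000000000000000000000000000000000000000000000000000000000000000000000000000000000000000000000000000000000000000000000000000000000000000000000000000000000000000],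
 [nat_lit 0x3c3c0333ff33300003fc0000003ccc000003c30f0fc3c03c3ffc00f30f3330cf330f0ffc0333300003333000030f0f33330f0c00000000cf33c3c000000003fffcf0f003ff0cf000000000cccc03fffffc0000ccccf0f3fffc00003c3c000003fffc0000000000ccccf0f0000003fc00000000000003fc00000000ccccf0f30cf30cf03c3c3c3f0cf30cf3333333300000000000000003fffc00003c3c3c3f30cf30cf30cf30ccf0f0f0f3c3c03c3f30cf30cf30cf30ccf30cf30f333333300003fffc00000000000000030f0cf0f00003ffffc3c03c3c300c300cc300c30300c300c00c300c30ff3cff3c0c300c30ff3cff3c0c300c30ff3cff3c0c300c33cff3cff0c300c30300c300c00c300c30300c300cc300c30300c300c00c300c30300c300f3cff3cff00c300c00c300c3300c300c3f3cff3cff3cff3cf00c300c00c300c3300c300c00c300c3300c300c300c300c3f3cff3cc00000000000000000000000000000000000000000000000000000000000000000000000000000000000000000000000000000000000000000000000000000000000000000000000000000000000000000000000000000],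
 [nat_lit 0x3fc000000000003fc000003fffc00000000000000000000000000000000000003fffc0003fffc0003fffc0003fffc0003fffffffffffffffc00000003fffffffc0003fffffffc00000000000000000003fffffffc0003fffffffffffc0003fffffffffffc000000000003fffffffc0003fffc000000000003fffc0000000000000000000000000000000000000003fffffffc000000000000000000000003fffffffffffffffffffffffc00000003fffffffffffffffffffffffc0000000000000003fffffffc0000000000000003fffffffffffffffffffffffffffffffc0000000000000003fffffffc00000003fffffffc00000003fffffffc00000003fffffffc00000003fffffffc00000003fffffffc00000003fffffffc00000003fffffffffffffffc00000003fffffffc00000003fffffffc0000000000000003fffffffc00000003fffffffc00000003fffffffffffffffc0000000000000000000000000000000000000000000000000000000000000000000000000000000000000000000000000000000000000000000000000000000000000000000000000000000000000000000000000000000000000],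
 [nat_lit 0x3c3c000cffccccc0003fc000003c3300000003f0f0c3c3fc3c003ff0cf33330cf30f0f003ff33300000cccc00030f0f33330f0c00000000cf303c3c00000003fffcf0f3fc00f30c000000033333fc03fffc00033330f0f3fffc0003c3c00003fc0003fc00000000cccf0f0c0003fc00000000000003fc00000000033330f0f0f30cf30fc3c3c3c0f30cf30ccccccccc00000000000000000003ffffc3c3c3c330cf30cf30cf30ccf0f0f0f3c3c03c3ccf30cf30cf30cf330cf30cf333333333fffc00000000000000000000f0f30f0ffffc0003c3c03c3ff3cff3ccff3cff3f3cff3cffcff3cff33cff3cfc300c300f3cff3cfc300c300f3cff3cfc300c300ff3cff3cf00c300c33cff3cffcff3cff3f3cff3ccff3cff3f3cff3cffcff3cff00c300c30ff3cff3f3cff3cffcff3cff0c300c303cff3cff3cff3cff0c300c303cff3cff33cff3cffcff3cff33cff3cfcc300c303cff3cff000000000000000000000000000000000000000000000000000000000000000000000000000000000000000000000000000000000000000000000000000000000000000000000000000000000000000000000000000000]]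
def O : ℕ := nat_lit 0x3fc0003fffc03fffffffc03fffc000003fffc000003fffffffffffffffffffffffffffffffffffffffffc0003fffc0003fffffffffffffffc0003fffffffffffc0003fffffffffffffffc00000003fffffffffffc0003fffffffffffc0003fffffffffffffffc00000003fffffffc0003fffc000000000003fffc00000003fffffffffffffffffffffffffffffffffffffffc0000000000000003fffffffffffffffffffffffffffffffffffffffffffffffffffffffffffffffffffffffffffffffffffffffc0000000000000003fffffffffffffffffffffffffffffffffffffffffffffffffffffffffffffffffffffffffffffffffffffffffffffffffffffffffffffffffffffffffffffffffffffffffffffffffffffffffffffffffffffffffffffffffffffffffffffffffffffffffffffffffffffffffffffffffffffffffffffffffffffffffffffffffffffffffffffffffffffffc00000000000000000000000000000000000000000000000000000000000000000000000000000000000000000000000000000000000000000000000000000000000000000000000000000000000000000000000000000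
theorem hf : frameOK (arP 2) 6 3510 SL O [1244,952,1738,3075,2823,2964] 3095 [[0,1,1,1,1,0],[1,0,1,0,1,1],[0,1,1,0,1,1],[1,1,0,0,1,0],[0,1,1,1,1,1],[0,0,1,0,1,1]] [1,1,1,1,1,1] = true := by decide +kernel
theorem ex8 : Sat (sw C22.g ([0,4] :: es)) (exE 2 4 [0]) := satS22 (by decide +kernel)
theorem ex10 : Sat (sw A22.g ([0,4] :: [0] :: q :: es)) (exE 2 5 [0]) := satSA (by decide +kernel)

variable {G : Type*} [Group G] {D : Set G} (M : M22 G D)

theorem pa : M.t (M.p []) = M.e [0] := by rw [M.t_p]; simp [lv]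
theorem pac : M.t (M.p []) * M.t (M.p [2,0,4,2]) = M.e [0,4] := by simpa using (pf22c M).2.2.2.2
theorem z_ne : M.e [0,4] ≠ 1 := fun h => good22.ne (u := [0,4]) (v := []) 182 (by decide +kernel) (M.e_eq_iff.1 h)

include M in
theorem idx {a b : G} (h : PF D 2 (a * b) [a, b]) : centralizer {a, b} ≤ centralizer {a * b} ∧
    ((centralizer {a, b}).subgroupOf (centralizer {a * b})).index = 2 := by
  obtain ⟨f, h1, h2⟩ := exists_symm M.prim h ((top22 M).2.2 2 (by omega))
    (PF.hu M.prim (top22 M).2.1 (by omega) (by omega) h)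
  refine ⟨fun g hg => mem_centralizer_singleton_iff.2 (h.comm (by simpa using mem_cz.1 hg)), ?_⟩
  rw [show (centralizer {a, b}).subgroupOf (centralizer {a * b}) = f.ker from
    Subgroup.ext fun g => by rw [MonoidHom.mem_ker, h2, mem_subgroupOf, mem_cz]; simp, index_ker,
    MonoidHom.range_eq_top.2 h1]
  simp [Fintype.card_perm]

theorem cardC : Nat.card (centralizer {M.e [0,4]}) = 53084160 := by
  obtain ⟨h1, h2⟩ := idx M (pac M ▸ pf22c M)
  have h3 := (ccard22' M ((pf22e M).perm (l' := [_, _, _]) (List.perm_append_comm (l₁ := [_, _])))).1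
  have h4 := ((centralizer {M.t (M.p []), M.t (M.p [2,0,4,2])}).subgroupOf
    (centralizer {M.t (M.p []) * M.t (M.p [2,0,4,2])})).index_mul_card
  rw [h2, Nat.card_congr (subgroupOfEquivOfLe h1).toEquiv, h3, pac] at h4
  exact h4.symm

theorem exG : EX (M.H ([0,4] :: es)) (M.e [0,4]) ∧ Nat.card (M.H ([0,4] :: es)) = 2 ^ 9 :=
  have := M.finite
  have h := extra_of (by decide) rfl [] (sat_sw M.inj M.hγ ex8) (z_ne M)
  ⟨EX.of' h.1 h.2.2, h.2.1⟩

theorem exP : IsExtraspecial 2 (C22.grp ([0,4] :: es)) ∧ Nat.card (C22.grp ([0,4] :: es)) = 2 ^ 9 :=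
  have h := extra_of (by decide) rfl [] ex8 (good22.ne (v := []) 182 (by decide +kernel))
  ⟨h.1, h.2.1⟩

theorem comA : ∀ x ∈ M.H ([0,4] :: es), Commute (M.e [0]) x := fun x hx =>
  (mem_centralizer_singleton_iff.1 (cent_of_com (M.sat (satQ22 (by decide +kernel))) hx)).symm
theorem ordA : orderOf (M.e [0]) = 2 := pa M ▸ (M.prim.cls.1.1 _ (M.t_mem _))
theorem notA : M.e [0] ∉ M.H ([0,4] :: es) := fun h => by
  have := M.finite
  have h1 := (exG M).1
  rcases h1.mem_iff.1 (h1.ctr ⟨h, fun x hx => (comA M x hx).symm⟩) with e | e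
  · exact absurd (ordA M) (by simp [e])
  · exact good22.ne (u := [0]) (v := [0,4]) 535 (by decide +kernel) (M.e_eq_iff.1 e)

theorem prodE : Nonempty (M.H ([0] :: [0,4] :: es) ≃* Multiplicative (ZMod 2) × M.H ([0,4] :: es)) :=
  LocG.H_cons M _ _ ▸ prod_two (ordA M) (notA M) (comA M)
theorem cardE : Nat.card (M.H ([0] :: [0,4] :: es)) = 2 ^ 10 := by
  rw [Nat.card_congr (prodE M).some.toEquiv, Nat.card_prod, (exG M).2]; simp

theorem mainG : M.H ([0] :: [0,4] :: es) ≤ centralizer {M.e [0,4]} ∧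
    (∃ θ : centralizer {M.e [0,4]} →* W, Function.Surjective θ ∧ θ.ker = (M.H ([0] :: [0,4] :: es)).subgroupOf _) ∧
    centralizer {M.e [0,4]} ⊓ centralizer (M.H ([0] :: [0,4] :: es) : Set G) ≤ M.H ([0] :: [0,4] :: es) ∧
    generalizedFittingSubgroup (centralizer {M.e [0,4]}) = (M.H ([0] :: [0,4] :: es)).subgroupOf _ := by
  have := M.finite
  obtain ⟨h1, θ, h2, h3, -⟩ := cent_W ok22 M.φ M.hγ (ws := ws) (es := [0] :: [0,4] :: es) rfl (by decide +kernel) hf
    (cent_of_com (u := [0,4]) (M.sat (satQ22 (by decide +kernel)))) (by rw [cardC, cardE]; decide)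
  exact ⟨h1, ⟨θ, h2, h3⟩, fstar_W h1 h2 h3 (cardE M) (k := M.e [8,10]) (x := M.e [12,8,0])
    (cent_of_com (A := [[8,10]]) (M.sat (satQ22 (by decide +kernel))) (mem_grp _ (by simp)))
    ((ev_wpow _ _ _).symm.trans (M.sat (satQ22 (R := [(wpow [8,10] 3, [])]) (by decide +kernel)) _ (.head _)))
    (mem_grp _ (by decide)) fun e => good22.ne (u := lapp [8,10] [12,8,0]) (v := lapp [12,8,0] [8,10]) 3
      (by decide +kernel) (M.e_eq_iff.1 (by rwa [Model.e, Model.e, ev_lapp, ev_lapp]))⟩

theorem mainA : ∃ Q : Subgroup (MulAut G), IsLargeExtraspecial Q ∧ Nat.card Q = 2 ^ 11 ∧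
    Q ≤ centralizer {MulAut.conj (M.e [0,4])} ∧
    (∃ θ : centralizer {MulAut.conj (M.e [0,4])} →* W, Function.Surjective θ ∧ θ.ker = Q.subgroupOf _) ∧
    generalizedFittingSubgroup (centralizer {MulAut.conj (M.e [0,4])}) = Q.subgroupOf _ := by
  have := AM.finite M
  obtain ⟨A⟩ := exists_AM M
  have hc := AM.card_cent M (M.e [0,4])
  have hz := A.inner (w := [0,4]) (by decide +kernel)
  obtain ⟨g, hg⟩ := isConj_iff.1 (((top22 M).2.2 2 (by omega)).isConj (pf22c M)
    (M.pf good22 base22 [[10,8,26,2,4,10,16,26,2], [10,12,26,2,4,10,16,26,2]] [10,26,2,0,4,2,16,26,10,12,8,10,26,16,2,4,0,2,26,10] (by decide +kernel)))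
  have hg' := congrArg MulAut.conj hg
  rw [map_mul, map_mul, map_inv, ← A.inner (w := [10,26,2,0,4,2,16,26,10,12,8,10,26,16,2,4,0,2,26,10]) (by decide +kernel)] at hg'
  rw [← hz] at hc hg' ⊢
  have sat : ∀ {R}, lall R (eqI fA FiSimple.B22) = true → Sat A.γ R := fun h => sat_of_inj A.inj A.hγ (satA h)
  have ne : ∀ {u v}, A22.ev u ≠ A22.ev v → ev A.γ u ≠ ev A.γ v := fun h e => h (by rw [← A.Φ_ev, e, A.Φ_ev])
  obtain ⟨e1, e2, e3⟩ := extra_of (by decide) rfl [] (sat_sw A.inj A.hγ ex10)
    (ne (v := []) (goodA.ne 182 (by decide +kernel)))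
  obtain ⟨h1, θ, h2, h3, -⟩ := cent_W oks22 A.Φ A.hγ (ws := ws) (es := [0,4] :: [0] :: q :: es) rfl (by decide +kernel) hf
    (cent_of_com (u := [0,4]) (sat (by decide +kernel))) (by rw [cardC] at hc; rw [e2]; omega)
  obtain ⟨h4, h5⟩ := fstar_W h1 h2 h3 e2 (k := ev A.γ [8,10]) (x := ev A.γ [12,8,0])
    (cent_of_com (A := [[8,10]]) (sat (by decide +kernel)) (mem_grp _ (by simp)))
    ((ev_wpow _ _ _).symm.trans (sat (R := [(wpow [8,10] 3, [])]) (by decide +kernel) _ (.head _)))
    (mem_grp _ (by decide)) (by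
      rw [← ev_lapp, ← ev_lapp]; exact ne (goodA.ne 3 (by decide +kernel)))
  have hE := EX.of' e1 e3
  exact ⟨_, (hE.large_of_fused (g := MulAut.conj g) ((normal_subgroupOf_iff_le_normalizer h1).1 (h3 ▸ inferInstance))
    (fun x hx => h4 ⟨mem_centralizer_singleton_iff.2 (hx _ hE.mem).symm, hx⟩) (by rw [e2]; decide)
    (hg' ▸ mem_grp _ (by decide)) (hg' ▸ ne (goodA.ne 3 (by decide +kernel)))).2, e2, h1, ⟨θ, h2, h3⟩, h5⟩

end CA.C2B
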