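import Cfsg.Agent.Lib.Fi.Inst

/-! The rigidity conditions `PropP` and `Conn` in the three Fischer models. -/

set_option Elab.async false
set_option maxRecDepth 100000
set_option linter.unusedVariables false

namespace CA.Fi
open CA.CNet CA.CWord CA.CLevel CA.H27Pres CA.Tr3Rank CA.Tr3Ext

section
variable {G : Type*} [Group G] {D : Set G} (M : M22 G D)
theorem pa22 : M.t (M.p [0,2]) = M.γ 1 := by
  rw [← pt22b M]; exact congrArg M.t (Fin.ext (M.p_val (by decide +kernel)))
theorem propP22 : PropP D (M.t M.o) (M.γ 1) := pa22 M ▸ M.propP (ws := [([6,4,2,0,8,6,4,2], 165), ([6,4,2,0,14,6,4,2], 166), ([10,12,26,2,0,10,26,2], 170), ([26,2,0,10,26,2], 78), ([26,2,0,16,26,2], 136), ([4,2,0,6,4,2], 535)]) (pa := 3288) (pb := 3286) (by decide +kernel)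
theorem conn22 : Conn D (M.t M.o) (M.γ 1) := pa22 M ▸ M.conn (wb := [26,10,8,16,14,6,4,2]) (ws := [26,2]) (pa := 3288) (pb := 3314) (pb' := 3316) (ps := 3290)
  (ks := [[6], [8], [10], [12], [14], [16], [4,6,8,26,10,26,8,6,4]]) (ls := [[8], [14], [10], [16], [4,6,8,26,10,26,8,6,4]]) (s1 := [6,0,2,8,4,2,6,0,8,2,12,8,6,10,8,0,2,8,4,6,2]) (s2 := [4,0,6,2,8,6]) (s3 := [4,0,6,2,8,2])
  (by decide +kernel) (by decide +kernel) (by decide +kernel) (by decide +kernel) (by decide +kernel) (by decide +kernel) (by decide +kernel) (by decide +kernel) (by decide +kernel) (by decide +kernel) (by decide +kernel) (by decide +kernel) (by decide +kernel) (by decide +kernel)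
end

section
variable {G : Type*} [Group G] {D : Set G} (M : M23 G D)
theorem pa23 : M.t (M.p [24,18]) = M.γ 9 := by
  rw [← pt23j M]; exact congrArg M.t (Fin.ext (M.p_val (by decide +kernel)))
theorem propP23 : PropP D (M.t M.o) (M.γ 9) := pa23 M ▸ M.propP (ws := [([6,4,8,6,10,8,12,10,18,12,24,18], 2), ([10,8,12,10,18,12,24,18], 166), ([6,8,10,12,14,6,8,10,18,12,24,18], 167), ([2,0,26,2,10,12,18,24,26,10,12,18], 1), ([12,10,18,12,24,18], 79), ([26,10,12,16,18,24,26,10,12,18], 137), ([8,6,10,8,12,10,18,12,24,18], 536), ([26,2,10,12,18,24,26,10,12,18], 3289)]) (pa := 31652) (pb := 31654) (by decide +kernel)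
theorem conn23 : Conn D (M.t M.o) (M.γ 9) := pa23 M ▸ M.conn (wb := [4,12,10,8,6,14,16,26,10,12,18]) (ws := [12,18]) (pa := 31652) (pb := 29506) (pb' := 29498) (ps := 31653)
  (ks := [[0], [2], [4], [6], [8], [10], [14], [16], [26]]) (ls := [[8], [14], [0], [10], [16], [4,6,8,26,10,26,8,6,4], [6,4,26,2,10,26,16,26,10,2,26,4,6]]) (s1 := [4,16,6,4,8,12,2,0,4,16,10,8,16,14,12,16,6,8,12,4,14,16,12,6,12]) (s2 := [6,0,10,2,8,12,4]) (s3 := [6,0,10,2,8,2,10,12,4])
  (by decide +kernel) (by decide +kernel) (by decide +kernel) (by decide +kernel) (by decide +kernel) (by decide +kernel) (by decide +kernel) (by decide +kernel) (by decide +kernel) (by decide +kernel) (by decide +kernel) (by decide +kernel) (by decide +kernel) (by decide +kernel)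
end

section
variable {G : Type*} [Group G] {D : Set G} (M : M24 G D)
theorem pa24 : M.t (M.p [22,20]) = M.γ 10 := by
  rw [← pt24k M]; exact congrArg M.t (Fin.ext (M.p_val (by decide +kernel)))
theorem propP24 : PropP D (M.t M.o) (M.γ 10) := pa24 M ▸ M.propP (ws := [([2,0,4,2,20,0,22,20], 3), ([10,8,26,10,20,22,26,20], 167), ([16,14,26,16,20,22,26,20], 168), ([10,12,26,10,20,22,26,20], 172), ([18,12,10,24,18,12,26,10,20,22,26,20], 1), ([26,10,20,22,26,20], 80), ([26,16,20,22,26,20], 138), ([4,2,0,6,4,2,20,0,22,20], 537), ([0,2,20,0,22,20], 3290), ([12,10,18,12,26,10,20,22,26,20], 31653)]) (pa := 306428) (pb := 306424) (by decide +kernel)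
theorem conn24 : Conn D (M.t M.o) (M.γ 10) := pa24 M ▸ M.conn (wb := [6,4,2,0,26,10,16,26,20]) (ws := [0,20]) (pa := 306428) (pb := 306522) (pb' := 306526) (ps := 306425)
  (ks := [[2], [4], [6], [8], [10], [12], [14], [16], [18], [24]]) (ls := [[4], [8], [14], [24], [16], [2], [0,2,6,8,26,10,26,8,6,2,0], [0,2,6,14,26,16,26,14,6,2,0], [0,2,12,10,8,6,14,16,18,12,26,10,26,12,18,16,14,6,8,10,12,2,0]]) (s1 := [10,4,2,6,12,8,6,10,16,18,10,4,2,12,6,14,12,0,4,2,6,12,8,6,10,4,2,12,6,14,0,16,8,10,18,6,12,4,2,6,12,8,16,10,4]) (s2 := [10,0,12,4,14,2,16,6]) (s3 := [10,0,12,4,8,4,14,2,16,6])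
  (by decide +kernel) (by decide +kernel) (by decide +kernel) (by decide +kernel) (by decide +kernel) (by decide +kernel) (by decide +kernel) (by decide +kernel) (by decide +kernel) (by decide +kernel) (by decide +kernel) (by decide +kernel) (by decide +kernel) (by decide +kernel)
end

end CA.Fi
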