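import Cfsg.Agent.Lib.Fi.Sat24

/-! The Coxeter relations of the fourteen generators and some `E₇` relations. -/

set_option Elab.async false
set_option maxRecDepth 100000
set_option linter.unusedVariables false

namespace CA.Fi
open CA.CNet CA.CWord CA.CLevel CA.H27Pres

noncomputable def F0 : Eqs := [([0,0], [0,0]), ([4,4], [4,4]), ([6,6], [6,6]), ([8,8], [8,8]), ([10,10], [10,10]), ([12,12], [12,12]), ([14,14], [14,14]), ([16,16], [16,16]), ([22,22], [22,22]), ([24,24], [24,24]), ([26,26], []), ([26,26], [26,26]), ([0,26], [26,0]), ([4,26], [26,4]), ([6,26], [26,6]), ([8,26], [26,8]), ([10,26,10], [26,10,26]), ([14,26], [26,14]), ([16,26,16], [26,16,26]), ([22,26], [26,22])]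
theorem F0_0 : satSl C24 F0 0 = true := by decide +kernel
theorem F0_1 : satSl C24 F0 1 = true := by decide +kernel
theorem F0_2 : satSl C24 F0 2 = true := by decide +kernel
theorem F0_3 : satSl C24 F0 3 = true := by decide +kernel
theorem F0_4 : satSl C24 F0 4 = true := by decide +kernel
theorem F0_5 : satSl C24 F0 5 = true := by decide +kernel
theorem F0_6 : satSl C24 F0 6 = true := by decide +kernel
theorem F0_7 : satSl C24 F0 7 = true := by decide +kernel
theorem F0_8 : satSl C24 F0 8 = true := by decide +kernel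
theorem F0_9 : satSl C24 F0 9 = true := by decide +kernel
theorem F0_10 : satSl C24 F0 10 = true := by decide +kernel
theorem F0_11 : satSl C24 F0 11 = true := by decide +kernel
theorem F0_12 : satSl C24 F0 12 = true := by decide +kernel
theorem F0_13 : satSl C24 F0 13 = true := by decide +kernel
theorem F0_14 : satSl C24 F0 14 = true := by decide +kernel
theorem F0_15 : satSl C24 F0 15 = true := by decide +kernel
theorem F0_16 : satSl C24 F0 16 = true := by decide +kernel
theorem F0_17 : satSl C24 F0 17 = true := by decide +kernel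
theorem F0_18 : satSl C24 F0 18 = true := by decide +kernel
theorem sF0 : Sat C24.g F0 := sat_of_sl ok24 (show ∀ j < 19, satSl C24 F0 j = true from
  (forall_lt_succ (forall_lt_succ (forall_lt_succ (forall_lt_succ (forall_lt_succ (forall_lt_succ (forall_lt_succ (forall_lt_succ (forall_lt_succ (forall_lt_succ (forall_lt_succ (forall_lt_succ (forall_lt_succ (forall_lt_succ (forall_lt_succ (forall_lt_succ (forall_lt_succ (forall_lt_succ (forall_lt_succ forall_lt_zero F0_0) F0_1) F0_2) F0_3) F0_4) F0_5) F0_6) F0_7) F0_8) F0_9) F0_10) F0_11) F0_12) F0_13) F0_14) F0_15) F0_16) F0_17) F0_18))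

noncomputable def F1 : Eqs := [([4,6,8,10,12,14,16,4,6,8,10,12,14,16,4,6,8,10,12,14,16,4,6,8,10,12,14,16,4,6,8,10,12,14,16,4,6,8,10,12,14,16,4,6,8,10,12,14,16,4,6,8,10,12,14,16,4,6,8,10,12,14,16], [24])]
theorem F1_0 : satSl C24 F1 0 = true := by decide +kernel
theorem F1_1 : satSl C24 F1 1 = true := by decide +kernel
theorem F1_2 : satSl C24 F1 2 = true := by decide +kernel
theorem F1_3 : satSl C24 F1 3 = true := by decide +kernel
theorem F1_4 : satSl C24 F1 4 = true := by decide +kernel
theorem F1_5 : satSl C24 F1 5 = true := by decide +kernel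
theorem F1_6 : satSl C24 F1 6 = true := by decide +kernel
theorem F1_7 : satSl C24 F1 7 = true := by decide +kernel
theorem F1_8 : satSl C24 F1 8 = true := by decide +kernel
theorem F1_9 : satSl C24 F1 9 = true := by decide +kernel
theorem F1_10 : satSl C24 F1 10 = true := by decide +kernel
theorem F1_11 : satSl C24 F1 11 = true := by decide +kernel
theorem F1_12 : satSl C24 F1 12 = true := by decide +kernel
theorem F1_13 : satSl C24 F1 13 = true := by decide +kernel
theorem F1_14 : satSl C24 F1 14 = true := by decide +kernel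
theorem F1_15 : satSl C24 F1 15 = true := by decide +kernel
theorem F1_16 : satSl C24 F1 16 = true := by decide +kernel
theorem F1_17 : satSl C24 F1 17 = true := by decide +kernel
theorem F1_18 : satSl C24 F1 18 = true := by decide +kernel
theorem sF1 : Sat C24.g F1 := sat_of_sl ok24 (show ∀ j < 19, satSl C24 F1 j = true from
  (forall_lt_succ (forall_lt_succ (forall_lt_succ (forall_lt_succ (forall_lt_succ (forall_lt_succ (forall_lt_succ (forall_lt_succ (forall_lt_succ (forall_lt_succ (forall_lt_succ (forall_lt_succ (forall_lt_succ (forall_lt_succ (forall_lt_succ (forall_lt_succ (forall_lt_succ (forall_lt_succ (forall_lt_succ forall_lt_zero F1_0) F1_1) F1_2) F1_3) F1_4) F1_5) F1_6) F1_7) F1_8) F1_9) F1_10) F1_11) F1_12) F1_13) F1_14) F1_15) F1_16) F1_17) F1_18))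

noncomputable def F2 : Eqs := [([4,6,8,10,12,26,16,4,6,8,10,12,26,16,4,6,8,10,12,26,16,4,6,8,10,12,26,16,4,6,8,10,12,26,16,4,6,8,10,12,26,16,4,6,8,10,12,26,16,4,6,8,10,12,26,16,4,6,8,10,12,26,16], [22]), ([2,2], [2,2]), ([2,26,2], [26,2,26])]
theorem F2_0 : satSl C24 F2 0 = true := by decide +kernel
theorem F2_1 : satSl C24 F2 1 = true := by decide +kernel
theorem F2_2 : satSl C24 F2 2 = true := by decide +kernel
theorem F2_3 : satSl C24 F2 3 = true := by decide +kernel
theorem F2_4 : satSl C24 F2 4 = true := by decide +kernel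
theorem F2_5 : satSl C24 F2 5 = true := by decide +kernel
theorem F2_6 : satSl C24 F2 6 = true := by decide +kernel
theorem F2_7 : satSl C24 F2 7 = true := by decide +kernel
theorem F2_8 : satSl C24 F2 8 = true := by decide +kernel
theorem F2_9 : satSl C24 F2 9 = true := by decide +kernel
theorem F2_10 : satSl C24 F2 10 = true := by decide +kernel
theorem F2_11 : satSl C24 F2 11 = true := by decide +kernel
theorem F2_12 : satSl C24 F2 12 = true := by decide +kernel
theorem F2_13 : satSl C24 F2 13 = true := by decide +kernel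
theorem F2_14 : satSl C24 F2 14 = true := by decide +kernel
theorem F2_15 : satSl C24 F2 15 = true := by decide +kernel
theorem F2_16 : satSl C24 F2 16 = true := by decide +kernel
theorem F2_17 : satSl C24 F2 17 = true := by decide +kernel
theorem F2_18 : satSl C24 F2 18 = true := by decide +kernel
theorem sF2 : Sat C24.g F2 := sat_of_sl ok24 (show ∀ j < 19, satSl C24 F2 j = true from
  (forall_lt_succ (forall_lt_succ (forall_lt_succ (forall_lt_succ (forall_lt_succ (forall_lt_succ (forall_lt_succ (forall_lt_succ (forall_lt_succ (forall_lt_succ (forall_lt_succ (forall_lt_succ (forall_lt_succ (forall_lt_succ (forall_lt_succ (forall_lt_succ (forall_lt_succ (forall_lt_succ (forall_lt_succ forall_lt_zero F2_0) F2_1) F2_2) F2_3) F2_4) F2_5) F2_6) F2_7) F2_8) F2_9) F2_10) F2_11) F2_12) F2_13) F2_14) F2_15) F2_16) F2_17) F2_18))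

noncomputable def F3 : Eqs := [([0,2,4,6,8,10,14,0,2,4,6,8,10,14,0,2,4,6,8,10,14,0,2,4,6,8,10,14,0,2,4,6,8,10,14,0,2,4,6,8,10,14,0,2,4,6,8,10,14,0,2,4,6,8,10,14,0,2,4,6,8,10,14], [22])]
theorem F3_0 : satSl C24 F3 0 = true := by decide +kernel
theorem F3_1 : satSl C24 F3 1 = true := by decide +kernel
theorem F3_2 : satSl C24 F3 2 = true := by decide +kernel
theorem F3_3 : satSl C24 F3 3 = true := by decide +kernel
theorem F3_4 : satSl C24 F3 4 = true := by decide +kernel
theorem F3_5 : satSl C24 F3 5 = true := by decide +kernel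
theorem F3_6 : satSl C24 F3 6 = true := by decide +kernel
theorem F3_7 : satSl C24 F3 7 = true := by decide +kernel
theorem F3_8 : satSl C24 F3 8 = true := by decide +kernel
theorem F3_9 : satSl C24 F3 9 = true := by decide +kernel
theorem F3_10 : satSl C24 F3 10 = true := by decide +kernel
theorem F3_11 : satSl C24 F3 11 = true := by decide +kernel
theorem F3_12 : satSl C24 F3 12 = true := by decide +kernel
theorem F3_13 : satSl C24 F3 13 = true := by decide +kernel
theorem F3_14 : satSl C24 F3 14 = true := by decide +kernel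
theorem F3_15 : satSl C24 F3 15 = true := by decide +kernel
theorem F3_16 : satSl C24 F3 16 = true := by decide +kernel
theorem F3_17 : satSl C24 F3 17 = true := by decide +kernel
theorem F3_18 : satSl C24 F3 18 = true := by decide +kernel
theorem sF3 : Sat C24.g F3 := sat_of_sl ok24 (show ∀ j < 19, satSl C24 F3 j = true from
  (forall_lt_succ (forall_lt_succ (forall_lt_succ (forall_lt_succ (forall_lt_succ (forall_lt_succ (forall_lt_succ (forall_lt_succ (forall_lt_succ (forall_lt_succ (forall_lt_succ (forall_lt_succ (forall_lt_succ (forall_lt_succ (forall_lt_succ (forall_lt_succ (forall_lt_succ (forall_lt_succ (forall_lt_succ forall_lt_zero F3_0) F3_1) F3_2) F3_3) F3_4) F3_5) F3_6) F3_7) F3_8) F3_9) F3_10) F3_11) F3_12) F3_13) F3_14) F3_15) F3_16) F3_17) F3_18))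

noncomputable def F4 : Eqs := [([2,4,6,8,10,12,14,2,4,6,8,10,12,14,2,4,6,8,10,12,14,2,4,6,8,10,12,14,2,4,6,8,10,12,14,2,4,6,8,10,12,14,2,4,6,8,10,12,14,2,4,6,8,10,12,14,2,4,6,8,10,12,14], [24]), ([18,18], [18,18]), ([20,20], [20,20]), ([20,26,20], [26,20,26])]
theorem F4_0 : satSl C24 F4 0 = true := by decide +kernel
theorem F4_1 : satSl C24 F4 1 = true := by decide +kernel
theorem F4_2 : satSl C24 F4 2 = true := by decide +kernel
theorem F4_3 : satSl C24 F4 3 = true := by decide +kernel
theorem F4_4 : satSl C24 F4 4 = true := by decide +kernel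
theorem F4_5 : satSl C24 F4 5 = true := by decide +kernel
theorem F4_6 : satSl C24 F4 6 = true := by decide +kernel
theorem F4_7 : satSl C24 F4 7 = true := by decide +kernel
theorem F4_8 : satSl C24 F4 8 = true := by decide +kernel
theorem F4_9 : satSl C24 F4 9 = true := by decide +kernel
theorem F4_10 : satSl C24 F4 10 = true := by decide +kernel
theorem F4_11 : satSl C24 F4 11 = true := by decide +kernel
theorem F4_12 : satSl C24 F4 12 = true := by decide +kernel
theorem F4_13 : satSl C24 F4 13 = true := by decide +kernel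
theorem F4_14 : satSl C24 F4 14 = true := by decide +kernel
theorem F4_15 : satSl C24 F4 15 = true := by decide +kernel
theorem F4_16 : satSl C24 F4 16 = true := by decide +kernel
theorem F4_17 : satSl C24 F4 17 = true := by decide +kernel
theorem F4_18 : satSl C24 F4 18 = true := by decide +kernel
theorem sF4 : Sat C24.g F4 := sat_of_sl ok24 (show ∀ j < 19, satSl C24 F4 j = true from
  (forall_lt_succ (forall_lt_succ (forall_lt_succ (forall_lt_succ (forall_lt_succ (forall_lt_succ (forall_lt_succ (forall_lt_succ (forall_lt_succ (forall_lt_succ (forall_lt_succ (forall_lt_succ (forall_lt_succ (forall_lt_succ (forall_lt_succ (forall_lt_succ (forall_lt_succ (forall_lt_succ (forall_lt_succ forall_lt_zero F4_0) F4_1) F4_2) F4_3) F4_4) F4_5) F4_6) F4_7) F4_8) F4_9) F4_10) F4_11) F4_12) F4_13) F4_14) F4_15) F4_16) F4_17) F4_18))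

noncomputable def RC21 : Eqs := [([0,0], []), ([0,0], [0,0]), ([4,4], []), ([4,4], [4,4]), ([6,6], []), ([6,6], [6,6]), ([8,8], []), ([8,8], [8,8]), ([10,10], []), ([10,10], [10,10]), ([12,12], []), ([12,12], [12,12]), ([14,14], []), ([14,14], [14,14]), ([16,16], []), ([16,16], [16,16]), ([22,22], []), ([22,22], [22,22]), ([24,24], []), ([24,24], [24,24]), ([26,26], []), ([26,26], [26,26]), ([0,4], [4,0]), ([0,6], [6,0]), ([0,8], [8,0]), ([0,10], [10,0]), ([0,12], [12,0]), ([0,14], [14,0]), ([0,16], [16,0]), ([0,22], [22,0]), ([0,24], [24,0]), ([0,26], [26,0]), ([4,6,4], [6,4,6]), ([4,8], [8,4]), ([4,10], [10,4]), ([4,12], [12,4]), ([4,14], [14,4]), ([4,16], [16,4]), ([4,22], [22,4]), ([4,24], [24,4]), ([4,26], [26,4]), ([6,8,6], [8,6,8]), ([6,10], [10,6]), ([6,12], [12,6]), ([6,14,6], [14,6,14]), ([6,16], [16,6]), ([6,22], [22,6]), ([6,24], [24,6]), ([6,26], [26,6]), ([8,10,8], [10,8,10]), ([8,12], [12,8]), ([8,14], [14,8]), ([8,16], [16,8]), ([8,22], [22,8]), ([8,24], [24,8]), ([8,26],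 [26,8]), ([10,12,10], [12,10,12]), ([10,14], [14,10]), ([10,16], [16,10]), ([10,22], [22,10]), ([10,24], [24,10]), ([10,26,10], [26,10,26]), ([12,14], [14,12]), ([12,16], [16,12]), ([12,22], [22,12]), ([12,24], [24,12]), ([12,26], [26,12]), ([14,16,14], [16,14,16]), ([14,22], [22,14]), ([14,24], [24,14]), ([14,26], [26,14]), ([16,22], [22,16]), ([16,24], [24,16]), ([16,26,16], [26,16,26]), ([22,24], [24,22]), ([22,26], [26,22]), ([24,26], [26,24]), ([4,6,8,10,12,14,16,4,6,8,10,12,14,16,4,6,8,10,12,14,16,4,6,8,10,12,14,16,4,6,8,10,12,14,16,4,6,8,10,12,14,16,4,6,8,10,12,14,16,4,6,8,10,12,14,16,4,6,8,10,12,14,16], [24]), ([4,6,8,10,12,26,16,4,6,8,10,12,26,16,4,6,8,10,12,26,16,4,6,8,10,12,26,16,4,6,8,10,12,26,16,4,6,8,10,12,26,16,4,6,8,10,12,26,16,4,6,8,10,12,26,16,4,6,8,10,12,26,16], [22])]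
noncomputable def RC22 : Eqs := lapp RC21 [([2,2], []), ([2,2], [2,2]), ([0,2,0], [2,0,2]), ([2,4,2], [4,2,4]), ([2,6], [6,2]), ([2,8], [8,2]), ([2,10], [10,2]), ([2,12], [12,2]), ([2,14], [14,2]), ([2,16], [16,2]), ([2,22], [22,2]), ([2,24], [24,2]), ([2,26,2], [26,2,26]), ([0,2,4,6,8,10,14,0,2,4,6,8,10,14,0,2,4,6,8,10,14,0,2,4,6,8,10,14,0,2,4,6,8,10,14,0,2,4,6,8,10,14,0,2,4,6,8,10,14,0,2,4,6,8,10,14,0,2,4,6,8,10,14], [22]), ([2,4,6,8,10,12,14,2,4,6,8,10,12,14,2,4,6,8,10,12,14,2,4,6,8,10,12,14,2,4,6,8,10,12,14,2,4,6,8,10,12,14,2,4,6,8,10,12,14,2,4,6,8,10,12,14,2,4,6,8,10,12,14], [24]), ([26], [2,4,6,8,14,6,4,2,0,2,4,6,14,8,6,4,2])]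
noncomputable def RC23 : Eqs := lapp RC22 [([18,18], []), ([18,18], [18,18]), ([0,18], [18,0]), ([2,18], [18,2]), ([4,18], [18,4]), ([6,18], [18,6]), ([8,18], [18,8]), ([10,18], [18,10]), ([12,18,12], [18,12,18]), ([14,18], [18,14]), ([16,18], [18,16]), ([18,22], [22,18]), ([18,24,18], [24,18,24]), ([18,26], [26,18])]
noncomputable def RC24 : Eqs := lapp RC23 [([20,20], []), ([20,20], [20,20]), ([0,20,0], [20,0,20]), ([2,20], [20,2]), ([4,20], [20,4]), ([6,20], [20,6]), ([8,20], [20,8]), ([10,20], [20,10]), ([12,20], [20,12]), ([14,20], [20,14]), ([16,20], [20,16]), ([18,20], [20,18]), ([20,22,20], [22,20,22]), ([20,24], [24,20]), ([20,26,20], [26,20,26])]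
theorem cox24 : Sat C24.g RC24 := Sat.sub (sF4.lapp (sF3.lapp (sF2.lapp (sF1.lapp (sF0.lapp (sat24)))))) (by decide +kernel)
theorem cox23 : Sat C23.g RC23 := Sat.res lt23 res23 cox24.left (by decide +kernel)
theorem cox22 : Sat C22.g RC22 := Sat.res lt22 res22 cox23.left (by decide +kernel)
theorem cox21 : Sat C21.g RC21 := Sat.res lt21 res21 cox22.left (by decide +kernel)

end CA.Fi
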