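import Cfsg.Agent.Lib.Lie.H25Cls2
import Cfsg.Agent.Lib.Spor.CGOut

/-! Three classes of absolutely irreducible subgroups with outer automorphism group of order two in `²E₆(2)`. -/

set_option autoImplicit false

namespace CA.E6F

open Cfsg Cfsg.Lie Cfsg.Lie.ChevalleyDatum CA.Chev CA.Chev.H25C

variable {K : Type*} [Field K]

theorem not_conj' (h3 : ∀ a : Kˣ, a ^ 3 = 1) {F : Subgroup (GL chevE6.Idx K)} [Finite F] (hO : Nat.card (Out F) = 2)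
    (hF : F ≤ (adj chevE6 K).G)
    (hC : ∀ Y : Matrix chevE6.Idx chevE6.Idx K, (∀ f ∈ F, Y * f.val = f.val * Y) →
      ∃ s : K, Y = s • (1 : Matrix chevE6.Idx chevE6.Idx K)) {a b : Kˣ}
    {g : GL chevE6.Idx K} (hg : g ∈ (adj chevE6 K).G)
    (h : ∀ f ∈ F, (δ b)⁻¹ * g * δ a * f * ((δ b)⁻¹ * g * δ a)⁻¹ ∈ F) : a = b := by
  set n := (δ b)⁻¹ * g * δ a with hn
  have hN : n ∈ Subgroup.normalizer (F : Set (GL chevE6.Idx K)) := Subgroup.mem_normalizer_fintype h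
  have h1 : (QuotientGroup.mk (F.normalizerMonoidHom ⟨n, hN⟩ ^ 2) : Out F) = 1 := by
    rw [QuotientGroup.mk_pow, ← hO, pow_card_eq_one']
  obtain ⟨f, hf⟩ := (QuotientGroup.eq_one_iff _).1 h1
  have h2 : ∀ x ∈ F, (f : GL chevE6.Idx K)⁻¹ * (n * n) * x = x * ((f : GL chevE6.Idx K)⁻¹ * (n * n)) := fun x hx => by
    have e : (f : GL chevE6.Idx K) * x * (f : GL chevE6.Idx K)⁻¹ = n * (n * x * n⁻¹) * n⁻¹ :=
      congrArg Subtype.val (congrArg (fun ψ : MulAut F => ψ ⟨x, hx⟩) (hf.trans (sq _)))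
    calc _ = (f : GL chevE6.Idx K)⁻¹ * (n * (n * x * n⁻¹) * n⁻¹) * (n * n) := by group
      _ = _ := by rw [← e]; group
  obtain ⟨s, hs⟩ := hC ((f : GL chevE6.Idx K)⁻¹ * (n * n)).val fun x hx => congrArg Units.val (h2 x hx)
  have e2 : (f : GL chevE6.Idx K)⁻¹ * (n * n) = (f : GL chevE6.Idx K)⁻¹ * (δ b⁻¹ * g * (δ b⁻¹)⁻¹) *
      (δ (b⁻¹ * a * b⁻¹) * g * (δ (b⁻¹ * a * b⁻¹))⁻¹) * δ (b⁻¹ * a * b⁻¹ * a) := by
    simp only [hn, map_mul, map_inv]; group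
  have := δ_eq_one h3 (e := b⁻¹ * a * b⁻¹ * a)
    (mul_mem (mul_mem (inv_mem (hF f.2)) (dg_conj_G (zp b⁻¹ Lf) hg)) (dg_conj_G (zp (b⁻¹ * a * b⁻¹) Lf) hg)) fun i =>
      ⟨_, ⟨1, one_mem _, (mul_one _).symm⟩, by
        rw [← δ_apply, ← δ_apply, ← e2, mul_inv_eq_iff_eq_mul]
        refine Units.ext ?_
        rw [Units.val_mul _ ((adj chevE6 K).x _ _), Units.val_mul ((adj chevE6 K).x _ _), hs, Matrix.smul_mul,
          Matrix.mul_smul, one_mul, mul_one]⟩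
  have h4 := h3 (b⁻¹ * a)
  rw [pow_succ', sq, ← mul_assoc (b⁻¹ * a) b⁻¹, this, mul_one, inv_mul_eq_one] at h4
  exact h4.symm

theorem three [Fintype K] (hK : Fintype.card K = 4) {A : Type*} [Group A] (hA : Nat.card (Out A) = 2)
    (j : A →* GL chevE6.Idx K) (hj : Function.Injective j) (hle : j.range ≤ twistedE6 K 2)
    (hC : ∀ Y : Matrix chevE6.Idx chevE6.Idx K, (∀ a, Y * (j a).val = (j a).val * Y) →
      ∃ s : K, Y = s • (1 : Matrix chevE6.Idx chevE6.Idx K)) :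
    ∃ H : Fin 3 → Subgroup (twistedE6 K 2), (∀ i, Nonempty ((H i) ≃* A)) ∧
      (∀ i j, i ≠ j → ∀ g : (twistedE6 K 2), (H i).map (MulAut.conj g).toMonoidHom ≠ H j) := by
  classical
  obtain ⟨α, h1, h2, -, -⟩ := exists_tE6 (K := K) (q := 2) Nat.prime_two.isPrimePow hK
  have hc : Fintype.card Kˣ = 3 := by rw [Fintype.card_units, hK]
  have h3 : ∀ a : Kˣ, a ^ 3 = 1 := fun a => by rw [← hc, pow_card_eq_one]
  have hG : twistedE6 K 2 ≤ (adj chevE6 K).G := group_eq (D := chevE6) (K := K) ▸ (TE6.real h1 h2).le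
  let e := (Fintype.equivFinOfCardEq hc).symm
  have hle' : ∀ a : Kˣ, j.range.map (MulAut.conj (δ a)).toMonoidHom ≤ twistedE6 K 2 := by
    rintro a _ ⟨f, hf, rfl⟩
    exact δ_conj h3 a (hle hf)
  refine ⟨fun i => (j.range.map (MulAut.conj (δ (e i))).toMonoidHom).subgroupOf _, fun i =>
    ⟨(Subgroup.subgroupOfEquivOfLe (hle' _)).trans (((MulAut.conj (δ (e i))).subgroupMap j.range).symm.trans
      (MonoidHom.ofInjective hj).symm)⟩, fun i i' hne g hg => hne (e.injective ?_)⟩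
  refine not_conj' h3 ((CGOut.card_out_congr (MonoidHom.ofInjective hj)).trans hA) (hle.trans hG)
    (fun Y hY => hC Y fun a => hY _ ⟨a, rfl⟩) (g := g) (hG g.2) fun f hf' => ?_
  have := hg.le (Subgroup.mem_map_of_mem _ (x := ⟨_, hle' (e i) ⟨f, hf', rfl⟩⟩) ⟨f, hf', rfl⟩)
  obtain ⟨f', hf'', e'⟩ := this
  have e'' : δ (e i') * f' * (δ (e i'))⁻¹ = g * (δ (e i) * f * (δ (e i))⁻¹) * (g : GL chevE6.Idx K)⁻¹ := e'
  rw [show (δ (e i'))⁻¹ * g * δ (e i) * f * ((δ (e i'))⁻¹ * g * δ (e i))⁻¹ = (δ (e i'))⁻¹ *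
    (g * (δ (e i) * f * (δ (e i))⁻¹) * (g : GL chevE6.Idx K)⁻¹) * δ (e i') by group, ← e'']
  simpa [mul_assoc] using hf''

end CA.E6F
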