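import Cfsg.Agent.Lib.Fi.E6Dat
import Cfsg.Agent.Lib.Fi.E6Cls
import Cfsg.Agent.Lib.Spor.FiO7
import Cfsg.Agent.Lib.Lin.CFormOBr

/-! `Fi₂₂` and `Ω₇(3)` as absolutely irreducible subgroups of `²E₆(2)`. -/

set_option autoImplicit false
set_option maxRecDepth 100000

namespace CA.E6F

open Cfsg Cfsg.Lie Cfsg.Lie.ChevalleyDatum CA.Chev CA.BM CA.CWord CA.CPres Cfsg.Spor

/-- the numbering of the basis -/
def cI : chevE6.Idx → ℕ := enc

theorem hc : Num cI 78 := ⟨enc_lt, enc_injective, by rw [Fintype.card_sum, Fintype.card_fin, Fintype.card_fin]; rfl, by decide⟩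

variable {K : Type*} [Field K] (h2 : (2 : K) = 0)
include h2

theorem cz_val (op : ℕ → SV) : cz K (D := chevE6) (matOf op) = val K cI (ofOp 78 op) :=
  Matrix.ext fun i j => (val_ofOp h2 hc op i j).symm

theorem x_val {r : ℕ} (hr : r < 72) (t : K) :
    chevE6.x K r t = 1 + t • val K cI (eb r) + t ^ 2 • val K cI (x2 r) + t ^ 3 • val K cI (x3 r) := by
  rw [show chevE6.x K r t = _ from x_eq (D := chevE6) ⟨r, hr⟩ t, xR, EM, X2, X3, tab_E6, cz_val h2, cz_val h2, cz_val h2]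
  rfl

variable {ω : K} (hω : ω * ω = ω + 1)

theorem x_y1 {r : ℕ} (hr : r < 72) : chevE6.x K r 1 = val2 cI ω (y1 r) := by
  simp only [x_val h2 hr, val2, y1, val_xor h2, val_one h2 hc hI, val_zero, one_pow, one_smul, smul_zero, add_zero]

include hω

theorem w3 : ω ^ 3 = 1 := by linear_combination (ω + 1) * hω + ω * h2

theorem x_yw {r : ℕ} (hr : r < 72) : chevE6.x K r ω = val2 cI ω (yw r) := by
  simp only [x_val h2 hr, val2, yw, val_xor h2, val_one h2 hc hI, w3 h2 hω, sq, hω, add_smul, smul_add, one_smul]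
  abel

theorem x_yv {r : ℕ} (hr : r < 72) : chevE6.x K r (ω ^ 2) = val2 cI ω (yv r) := by
  have e1 : (ω ^ 2) ^ 2 = ω := by linear_combination ω * w3 h2 hω
  have e2 : (ω ^ 2) ^ 3 = 1 := by rw [← pow_mul, mul_comm, pow_mul, w3 h2 hω, one_pow]
  rw [x_val h2 hr, e1, e2]
  simp only [val2, yv, val_xor h2, val_one h2 hc hI, sq, hω, add_smul, smul_add, one_smul]
  abel

omit hω h2 in
theorem val2_zero (A : ℕ) : val2 cI ω (A, 0) = val K cI A := by simp [val2, val_zero]

/-- the change of basis -/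
noncomputable def tU : GL chevE6.Idx K := ⟨val2 cI ω (tP, tQ), val2 cI ω (sP, sQ),
  by rw [← val2_mul h2 hc he hω, peq_eq hT1, val2_zero, val_one h2 hc hI],
  by rw [← val2_mul h2 hc he hω, peq_eq hT2, val2_zero, val_one h2 hc hI]⟩

omit h2 hω in
theorem z2 : (2 : ZMod 2) = 0 := rfl

omit h2 hω in
/-- the generators of the twisted group -/
noncomputable def uM : ℕ → GL chevE6.Idx (ZMod 2) := gl (F := gM) (sq_of z2 hc he hI hM)

omit h2 hω in
/-- the generators of the Fischer group -/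
noncomputable def uF : ℕ → GL chevE6.Idx (ZMod 2) := gl (F := gF) (sq_of z2 hc he hI hF)

/-- the embedding -/
noncomputable def ρ (β : ZMod 2 →+* K) : GL chevE6.Idx (ZMod 2) →* GL chevE6.Idx K :=
  (MulAut.conj (tU h2 hω)).toMonoidHom.comp (Matrix.GeneralLinearGroup.map β)

variable (β : ZMod 2 →+* K)

theorem ρ_inj : Function.Injective (ρ h2 hω β) := (MulAut.conj (tU h2 hω)).injective.comp fun a b h =>
  Units.ext (Matrix.ext fun i j => β.injective (by
    rw [← Matrix.GeneralLinearGroup.map_apply, ← Matrix.GeneralLinearGroup.map_apply, h]))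

theorem ρ_val {u : GL chevE6.Idx (ZMod 2)} {A : ℕ} (h : u.val = val (ZMod 2) cI A) :
    (ρ h2 hω β u).val = (tU h2 hω).val * val K cI A * (tU h2 hω)⁻¹.val := by
  rw [← map_val β, ← h]; rfl

theorem ρ_cj (i : ℕ) : (ρ h2 hω β (uM i)).val = val2 cI ω (cj (gM i)) := by
  rw [ρ_val h2 hω β (A := gM i) rfl, cj, val2_mul h2 hc he hω, val2_mul h2 hc he hω, val2_zero]; rfl

theorem ρ_mem (i : ℕ) : ρ h2 hω β (uM i) ∈ twistedE6 K 2 := by
  have k1 : ∀ p ∈ [(0, 46), (1, 25), (2, 39), (3, 32)], ρ h2 hω β (uM p.1) ∈ twistedE6 K 2 := fun p hp =>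
    Subgroup.subset_closure ⟨[(p.2, 1)], Or.inl ⟨1, one_pow _, p.2, by revert p; decide, rfl⟩, by
      rw [ρ_cj, peq_eq (g1 p hp), ← x_y1 h2 (by revert p; decide)]; simp [wordMat]⟩
  have k2 : ∀ p ∈ [(4, 56, 36), (6, 15, 35), (8, 42, 37), (10, 29, 34)], ρ h2 hω β (uM p.1) ∈ twistedE6 K 2 := fun p hp =>
    Subgroup.subset_closure ⟨_, Or.inr ⟨1, p.2, by revert p; decide, rfl⟩, by
      rw [ρ_cj, peq_eq (g2 p hp), val2_mul h2 hc he hω, ← x_y1 h2 (by revert p; decide), ← x_y1 h2 (by revert p; decide)]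
      simp [wordMat]⟩
  have k3 : ∀ p ∈ [(5, 56, 36), (7, 15, 35), (9, 42, 37), (11, 29, 34)], ρ h2 hω β (uM p.1) ∈ twistedE6 K 2 := fun p hp =>
    Subgroup.subset_closure ⟨_, Or.inr ⟨ω, p.2, by revert p; decide, rfl⟩, by
      rw [ρ_cj, peq_eq (g3 p hp), val2_mul h2 hc he hω, ← x_yw h2 hω (by revert p; decide),
        ← x_yv h2 hω (by revert p; decide)]
      simp [wordMat]⟩
  match i with
  | 0 => exact k1 (0, 46) (by simp)
  | 1 => exact k1 (1, 25) (by simp)
  | 2 => exact k1 (2, 39) (by simp)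
  | 3 => exact k1 (3, 32) (by simp)
  | 4 => exact k2 (4, 56, 36) (by simp)
  | 5 => exact k3 (5, 56, 36) (by simp)
  | 6 => exact k2 (6, 15, 35) (by simp)
  | 7 => exact k3 (7, 15, 35) (by simp)
  | 8 => exact k2 (8, 42, 37) (by simp)
  | 9 => exact k3 (9, 42, 37) (by simp)
  | 10 => exact k2 (10, 29, 34) (by simp)
  | 11 => exact k3 (11, 29, 34) (by simp)
  | i + 12 =>
    rw [show uM (i + 12) = 1 from Units.ext (val_one z2 hc hI), map_one]
    exact one_mem _

theorem ρ_memF {i : ℕ} (hi : i < 9) : ρ h2 hω β (uF i) ∈ twistedE6 K 2 := by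
  rw [show uF i = ev uM (nth wF [] i) from Units.ext
    ((congrArg (val (ZMod 2) cI) (hW i hi)).symm.trans (val_evw z2 hc he hI _ _)), map_ev]
  exact ev_mem (ρ_mem h2 hω β) _

theorem scal {Y : Matrix chevE6.Idx chevE6.Idx K}
    (hY : ∀ i < 8, Y * (ρ h2 hω β (uF (i + 1))).val = (ρ h2 hω β (uF (i + 1))).val * Y) :
    ∃ s : K, Y = s • (1 : Matrix chevE6.Idx chevE6.Idx K) := by
  set T := tU h2 hω
  have k1 : ∀ i, Commute (T⁻¹.val * Y * T.val) (val K cI (gO i)) := fun i => by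
    by_cases hi : i < 8
    · have := hY i hi
      rw [ρ_val h2 hω β (A := gO i) rfl] at this
      change Y * (T.val * _ * T⁻¹.val) = T.val * _ * T⁻¹.val * Y at this
      calc T⁻¹.val * Y * T.val * val K cI (gO i) = T⁻¹.val * (Y * (T.val * val K cI (gO i) * T⁻¹.val)) * T.val := by
            simp [mul_assoc]
        _ = _ := by rw [this]; simp [mul_assoc]
    · obtain ⟨k, rfl⟩ : ∃ k, i = k + 8 := ⟨i - 8, by omega⟩
      rw [show gO (k + 8) = iI from rfl, val_one h2 hc hI]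
      exact Commute.one_right _
  have k2 : ∀ w : Word, Commute (T⁻¹.val * Y * T.val) (val K cI (evw eE 78 iI gO w)) := fun w => by
    induction w with
    | nil => rw [show evw eE 78 iI gO [] = iI from rfl, val_one h2 hc hI]; exact Commute.one_right _
    | cons a w ih =>
      rw [show evw eE 78 iI gO (a :: w) = mulf eE 78 (gO (Nat.div a 2)) (evw eE 78 iI gO w) from rfl, val_mul h2 hc he]
      exact (k1 _).mul_right ih
  obtain ⟨s, hs⟩ := scalar h2 hc he hI (o := Sum.inr ⟨0, by decide⟩) rfl c1 c3 c4 c5 c6 c7 c8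
    (comm_evs h2 wA fun w _ => k2 w) (comm_evs h2 wZ fun w _ => k2 w)
  refine ⟨s, ?_⟩
  calc Y = T.val * (T⁻¹.val * Y * T.val) * T⁻¹.val := by simp [mul_assoc]
    _ = _ := by rw [hs]; simp

omit hω h2 β in
theorem val_ne {A : ℕ} (h : A.testBit 1024 = true) : val (ZMod 2) cI A ≠ 1 := fun h3 => by
  have h4 := congrFun (congrFun h3 (Sum.inr ⟨8, by decide⟩)) (Sum.inr ⟨0, by decide⟩)
  rw [Matrix.one_apply_ne (fun h => absurd (congrArg cI h) (by decide))] at h4
  have h5 : bt (ZMod 2) A 1024 = 0 := h4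
  rw [bt, if_pos h] at h5
  exact one_ne_zero h5

omit hω h2 β in
theorem uF_val (i : ℕ) : (uF i).val = val (ZMod 2) cI (gF i) := rfl

omit hω h2 β in
theorem uF_ne : uF 0 ≠ 1 := fun h3 => val_ne hne (by rw [← uF_val, h3, Units.val_one])

omit hω h2 β in
theorem exists_hom : ∃ φ : Fi22 →* GL chevE6.Idx (ZMod 2), Function.Injective φ ∧ ∀ i < 9, φ (Fi22Pres.g i) = uF i := by
  obtain ⟨φ, hφ⟩ := Fi22Rel.enc.hom _ uF (ev_eq_one z2 hc he hI (sq_of z2 hc he hI hF) hR)
  obtain ⟨e⟩ := Fi22Pres.equiv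
  have := Fi22Pres.simple
  have : IsSimpleGroup Fi22 := e.isSimpleGroup
  refine ⟨φ, (MonoidHom.ker_eq_bot_iff φ).1 ((φ.normal_ker.eq_bot_or_eq_top).resolve_right fun h => ?_), hφ⟩
  have h3 : φ (pg Fi22.edges Fi22.extra Fi22Rel.gen 0) = 1 := MonoidHom.mem_ker.1 (h ▸ Subgroup.mem_top _)
  rw [hφ 0 (by decide)] at h3
  exact uF_ne h3

omit hω h2 β in
theorem emb [Fintype K] (hK : Fintype.card K = 4) : ∃ j : Fi22 →* GL chevE6.Idx K, Function.Injective j ∧
    j.range ≤ twistedE6 K 2 ∧ ∀ Y : Matrix chevE6.Idx chevE6.Idx K,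
      (∀ i < 8, Y * (j (Fi22Pres.g (i + 1))).val = (j (Fi22Pres.g (i + 1))).val * Y) →
        ∃ s : K, Y = s • (1 : Matrix chevE6.Idx chevE6.Idx K) := by
  classical
  have h2 : (2 : K) = 0 := by
    have := FiniteField.cast_card_eq_zero K
    rw [hK] at this
    exact pow_eq_zero_iff two_ne_zero |>.1 (by rw [← this]; norm_num)
  have : CharP K 2 := (CharP.charP_iff_prime_eq_zero Nat.prime_two).2 h2
  obtain ⟨ω, hω⟩ : ∃ ω : K, ω * ω = ω + 1 := by
    obtain ⟨ω, -, h⟩ := Finset.exists_mem_notMem_of_card_lt_card (s := ({0, 1} : Finset K)) (t := Finset.univ)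
      (by rw [Finset.card_univ, hK]; exact Finset.card_le_two.trans_lt (by decide))
    simp only [Finset.mem_insert, Finset.mem_singleton, not_or] at h
    have h4 := FiniteField.pow_card ω
    rw [hK] at h4
    refine ⟨ω, mul_left_cancel₀ (mul_ne_zero h.1 (sub_ne_zero.2 h.2)) ?_⟩
    linear_combination h4 + (ω - ω ^ 3) * h2
  let β := ZMod.castHom (dvd_refl 2) K
  obtain ⟨φ, h1, h3⟩ := exists_hom
  refine ⟨(ρ h2 hω β).comp φ, (ρ_inj h2 hω β).comp h1, ?_, fun Y hY => scal h2 hω β fun i hi => ?_⟩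
  · rw [MonoidHom.range_eq_map, ← Fi22Pres.top, Subgroup.map_le_iff_le_comap, grp_le_iff]
    intro w hw
    obtain ⟨i, hi, rfl⟩ : ∃ i < 9, w = [2 * i] := by revert w; decide
    rw [ev_gen, Subgroup.mem_comap, MonoidHom.comp_apply, h3 i hi]
    exact ρ_memF h2 hω β hi
  · rw [← h3 (i + 1) (by omega)]
    exact hY i hi

omit hω h2 β in
open CA.CForm CA.CForm.Form in
theorem pOmega_equiv : Nonempty (POmega (ZMod 3) (quadFormOdd 3 (ZMod 3)) ≃* Omega (ZMod 3) (quadFormOdd 3 (ZMod 3))) := by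
  have hf := oddForm_nondeg (F := ZMod 3) (by decide) 3
  have hc := hf.card_center_omega (good_of_five_le (by rw [finrank_odd]; omega)) (by rw [finrank_odd]; omega)
  rw [if_neg (by rw [finrank_odd]; exact fun h => absurd h.2.1 (by decide)), Subgroup.card_eq_one] at hc
  have hc' : Subgroup.center (Omega (ZMod 3) (oddForm (ZMod 3) 3).Q) = ⊥ := eq_bot_iff.2 fun x hx => by
    have : omegaEquiv (oddForm (ZMod 3) 3) x ∈ Subgroup.center _ := (MulEquivClass.apply_mem_center_iff _).2 hx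
    rw [hc, Subgroup.mem_bot, map_eq_one_iff _ (omegaEquiv _).injective] at this
    exact this
  exact ⟨(QuotientGroup.quotientMulEquivOfEq hc').trans QuotientGroup.quotientBot⟩

omit hω h2 β in
theorem o7_equiv : Nonempty (grp Fi22Pres.g FiO7.gens ≃* POmega (ZMod 3) (quadFormOdd 3 (ZMod 3))) := by
  obtain ⟨φ, -, h1, h3⟩ := Fi22Pres.inj
  obtain ⟨f, -⟩ := equiv_of_inj φ h3 (Fi22Pres.top ▸ le_top) (h1 FiO7.gens (by decide))
  exact ⟨f.trans FiO7.iso.some⟩

end CA.E6F
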