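import Cfsg.Agent.Lib.Fi.Inst
import Cfsg.Agent.Lib.Fi.T22
import Cfsg.Agent.Lib.Fi.T23
import Cfsg.Agent.Lib.Fi.T24a
import Cfsg.Agent.Lib.Fi.T24c
import Cfsg.Agent.Lib.Fi.T24e
import Cfsg.Agent.Lib.Fi.T24g
import Cfsg.Agent.Lib.Fi.T24i
import Cfsg.Agent.Lib.Fi.T24k
import Cfsg.Agent.Lib.Fi.T24m

/-! Point lookups `f21 … f24` and bases `B21 … B24` of the four models. -/

set_option Elab.async false
set_option maxRecDepth 100000
set_option linter.unusedVariables false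

namespace CA.Fi
open CA.CNet CA.CWord CA.CLevel CA.H27Pres CA.CSimple CA.CPoint

noncomputable def f21 : ℕ → ℕ → ℕ := lk C21 64 10 [idc C21 64, idc C21 64, ent 4 t21c, ent 4 t21d, ent 4 t21e, ent 4 t21f, ent 4 t21g, ent 4 t21h, ent 4 t21i, idc C21 64, idc C21 64, idc C21 64, idc C21 64, ent 4 t21n]
theorem hs21_ : band (Nat.blt C21.k 64) (Nat.ble 2 64) = true := by decide +kernel
theorem good21 : GoodG C21.g f21 := good_lk (tbl_cons (tbl_id ok21 hs21_ rfl)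
    (tbl_cons (tbl_id ok21 hs21_ rfl)
    (tbl_cons (tbl_ent ok21 hs21_ t21c_ok (sq_of_sat cox21 2 (by decide +kernel)))
    (tbl_cons (tbl_ent ok21 hs21_ t21d_ok (sq_of_sat cox21 3 (by decide +kernel)))
    (tbl_cons (tbl_ent ok21 hs21_ t21e_ok (sq_of_sat cox21 4 (by decide +kernel)))
    (tbl_cons (tbl_ent ok21 hs21_ t21f_ok (sq_of_sat cox21 5 (by decide +kernel)))
    (tbl_cons (tbl_ent ok21 hs21_ t21g_ok (sq_of_sat cox21 6 (by decide +kernel)))
    (tbl_cons (tbl_ent ok21 hs21_ t21h_ok (sq_of_sat cox21 7 (by decide +kernel)))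
    (tbl_cons (tbl_ent ok21 hs21_ t21i_ok (sq_of_sat cox21 8 (by decide +kernel)))
    (tbl_cons (tbl_id ok21 hs21_ rfl)
    (tbl_cons (tbl_id ok21 hs21_ rfl)
    (tbl_cons (tbl_id ok21 hs21_ rfl)
    (tbl_cons (tbl_id ok21 hs21_ rfl)
    (tbl_cons (tbl_ent ok21 hs21_ t21n_ok (sq_of_sat cox21 13 (by decide +kernel)))
    (tbl_nil ok21 hs21_ (by decide +kernel))))))))))))))))
def B21 : List ℕ := [164,135,163,82,169,536]
theorem base21 : IsBase (X C21) B21 := by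
  obtain ⟨M⟩ := model21
  exact M.isBase good21 (ws := [[6,4,8,6], [14,6,4,16,14,6], [6,8,14,6], [6,4,16,26,10,8,6], [10,8,6,4,12,10,8,6], [4,8,6]]) (by decide +kernel) tabr21 (all_cons (pt21c M ▸ M.t_mem_H good21 0 [10,4,6,8,0,6,4,10,2,0,6,8,4,2,6] (by decide +kernel))
    (all_cons (pt21d M ▸ M.t_mem_H good21 0 [10] (by decide +kernel))
    (all_cons (pt21e M ▸ M.t_mem_H good21 0 [] (by decide +kernel))
    (all_cons (pt21f M ▸ M.t_mem_H good21 0 [4,6,0,10,8,6,4,0,10,6,8,2,4,6] (by decide +kernel))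
    (all_cons (pt21g M ▸ M.t_mem_H good21 4 [] (by decide +kernel))
    (all_cons (pt21h M ▸ M.t_mem_H good21 0 [10,6,8,0,6,4,10,6,2,4,6,8,2,6] (by decide +kernel))
    (all_cons (pt21i M ▸ M.t_mem_H good21 1 [] (by decide +kernel))
    (all_cons (pt21n M ▸ M.t_mem_H good21 2 [2,4,10,6,8,4,6,2,0,6,4,10,8,2,6] (by decide +kernel))
    all_nil))))))))
theorem satQ21 {R : Eqs} (h : lall R (eqI f21 B21) = true) : Sat C21.g R := good21.sat base21 (g_mem_X _) h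
theorem satS21 {gs : List Word} {R : Eqs} (h : lall R (eqI (sub2 f21 gs) B21) = true) : Sat (sw C21.g gs) R :=
  (good21.sub2 gs).sat base21 (sw_mem_X _ _) h

noncomputable def f22 : ℕ → ℕ → ℕ := lk C22 128 12 [ent 6 t22a, ent 6 t22b, ent 6 t22c, ent 6 t22d, ent 6 t22e, ent 6 t22f, ent 6 t22g, ent 6 t22h, ent 6 t22i, idc C22 128, idc C22 128, idc C22 128, idc C22 128, ent 6 t22n]
theorem hs22_ : band (Nat.blt C22.k 128) (Nat.ble 2 128) = true := by decide +kernel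
theorem good22 : GoodG C22.g f22 := good_lk (tbl_cons (tbl_ent ok22 hs22_ t22a_ok (sq_of_sat cox22 0 (by decide +kernel)))
    (tbl_cons (tbl_ent ok22 hs22_ t22b_ok (sq_of_sat cox22 1 (by decide +kernel)))
    (tbl_cons (tbl_ent ok22 hs22_ t22c_ok (sq_of_sat cox22 2 (by decide +kernel)))
    (tbl_cons (tbl_ent ok22 hs22_ t22d_ok (sq_of_sat cox22 3 (by decide +kernel)))
    (tbl_cons (tbl_ent ok22 hs22_ t22e_ok (sq_of_sat cox22 4 (by decide +kernel)))
    (tbl_cons (tbl_ent ok22 hs22_ t22f_ok (sq_of_sat cox22 5 (by decide +kernel)))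
    (tbl_cons (tbl_ent ok22 hs22_ t22g_ok (sq_of_sat cox22 6 (by decide +kernel)))
    (tbl_cons (tbl_ent ok22 hs22_ t22h_ok (sq_of_sat cox22 7 (by decide +kernel)))
    (tbl_cons (tbl_ent ok22 hs22_ t22i_ok (sq_of_sat cox22 8 (by decide +kernel)))
    (tbl_cons (tbl_id ok22 hs22_ rfl)
    (tbl_cons (tbl_id ok22 hs22_ rfl)
    (tbl_cons (tbl_id ok22 hs22_ rfl)
    (tbl_cons (tbl_id ok22 hs22_ rfl)
    (tbl_cons (tbl_ent ok22 hs22_ t22n_ok (sq_of_sat cox22 13 (by decide +kernel)))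
    (tbl_nil ok22 hs22_ (by decide +kernel))))))))))))))))
def B22 : List ℕ := [3288,166,143,316,558,76]
theorem base22 : IsBase (X C22) B22 := by
  obtain ⟨M⟩ := model22
  exact M.isBase good22 (ws := [[0,2], [6,4,2,0,14,6,4,2], [2,0,10,8,12,10,14,16,26,2], [4,2,8,14,26,10,16,26,2], [2,0,6,8,10,16,26,2], [2,0,12,10,26,2]]) (by decide +kernel) tabr22 (all_cons (pt22a M ▸ M.t_mem_H good22 0 [0,10,8,6,0,10,2,8,4] (by decide +kernel))
    (all_cons (pt22b M ▸ M.t_mem_H good22 0 [] (by decide +kernel))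
    (all_cons (pt22c M ▸ M.t_mem_H good22 2 [6,0,10,6,2,8,10,0,8] (by decide +kernel))
    (all_cons (pt22d M ▸ M.t_mem_H good22 0 [2,4,0,10,2,6,2,8,10,6] (by decide +kernel))
    (all_cons (pt22e M ▸ M.t_mem_H good22 0 [6,10,6,0,8,2,4,6,10,8] (by decide +kernel))
    (all_cons (pt22f M ▸ M.t_mem_H good22 1 [6,10,4,6,8] (by decide +kernel))
    (all_cons (pt22g M ▸ M.t_mem_H good22 0 [6,10,4,0,6,10,8,2,6,10] (by decide +kernel))
    (all_cons (pt22h M ▸ M.t_mem_H good22 1 [] (by decide +kernel))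
    (all_cons (pt22i M ▸ M.t_mem_H good22 0 [8,4,0,8,10,6,4,2,8] (by decide +kernel))
    (all_cons (pt22n M ▸ M.t_mem_H good22 0 [10,8,0,10,6,2,8,10,6] (by decide +kernel))
    all_nil))))))))))
theorem satQ22 {R : Eqs} (h : lall R (eqI f22 B22) = true) : Sat C22.g R := good22.sat base22 (g_mem_X _) h
theorem satS22 {gs : List Word} {R : Eqs} (h : lall R (eqI (sub2 f22 gs) B22) = true) : Sat (sw C22.g gs) R :=
  (good22.sub2 gs).sat base22 (sw_mem_X _ _) h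

noncomputable def f23 : ℕ → ℕ → ℕ := lk C23 512 15 [ent 8 t23a, ent 8 t23b, ent 8 t23c, ent 8 t23d, ent 8 t23e, ent 8 t23f, ent 8 t23g, ent 8 t23h, ent 8 t23i, ent 8 t23j, idc C23 512, idc C23 512, ent 8 t23m, ent 8 t23n]
theorem hs23_ : band (Nat.blt C23.k 512) (Nat.ble 2 512) = true := by decide +kernel
theorem good23 : GoodG C23.g f23 := good_lk (tbl_cons (tbl_ent ok23 hs23_ t23a_ok (sq_of_sat cox23 0 (by decide +kernel)))
    (tbl_cons (tbl_ent ok23 hs23_ t23b_ok (sq_of_sat cox23 1 (by decide +kernel)))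
    (tbl_cons (tbl_ent ok23 hs23_ t23c_ok (sq_of_sat cox23 2 (by decide +kernel)))
    (tbl_cons (tbl_ent ok23 hs23_ t23d_ok (sq_of_sat cox23 3 (by decide +kernel)))
    (tbl_cons (tbl_ent ok23 hs23_ t23e_ok (sq_of_sat cox23 4 (by decide +kernel)))
    (tbl_cons (tbl_ent ok23 hs23_ t23f_ok (sq_of_sat cox23 5 (by decide +kernel)))
    (tbl_cons (tbl_ent ok23 hs23_ t23g_ok (sq_of_sat cox23 6 (by decide +kernel)))
    (tbl_cons (tbl_ent ok23 hs23_ t23h_ok (sq_of_sat cox23 7 (by decide +kernel)))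
    (tbl_cons (tbl_ent ok23 hs23_ t23i_ok (sq_of_sat cox23 8 (by decide +kernel)))
    (tbl_cons (tbl_ent ok23 hs23_ t23j_ok (sq_of_sat cox23 9 (by decide +kernel)))
    (tbl_cons (tbl_id ok23 hs23_ rfl)
    (tbl_cons (tbl_id ok23 hs23_ rfl)
    (tbl_cons (tbl_ent ok23 hs23_ t23m_ok (sq_of_sat cox23 12 (by decide +kernel)))
    (tbl_cons (tbl_ent ok23 hs23_ t23n_ok (sq_of_sat cox23 13 (by decide +kernel)))
    (tbl_nil ok23 hs23_ (by decide +kernel))))))))))))))))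
def B23 : List ℕ := [2549,771,29290,749,1728,2470]
theorem base23 : IsBase (X C23) B23 := by
  obtain ⟨M⟩ := model23
  exact M.isBase good23 (ws := [[0,14,6,18,24,26,2,10,8,16,26,10,12,18], [2,6,14,6,8,16,18,24,26,10,12,18], [0,2,8,6,14,16,24,26,10,12,18], [0,4,8,12,14,18,24,26,2,16,26,10,12,18], [0,2,0,4,10,18,24,26,2,16,26,10,12,18], [0,14,6,8,18,24,26,2,16,26,10,12,18]]) (by decide +kernel) tabr23 (all_cons (pt23a M ▸ M.t_mem_H good23 0 [4,6,2,4,8,2,6,4,8,10] (by decide +kernel))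
    (all_cons (pt23b M ▸ M.t_mem_H good23 4 [0,8,6,4,0,8,6,2,4,10] (by decide +kernel))
    (all_cons (pt23c M ▸ M.t_mem_H good23 0 [8,10,6,8] (by decide +kernel))
    (all_cons (pt23d M ▸ M.t_mem_H good23 1 [2,6,4,10,2,0,8,4,6] (by decide +kernel))
    (all_cons (pt23e M ▸ M.t_mem_H good23 0 [8,2,10,4,0,8,10,6,4,8] (by decide +kernel))
    (all_cons (pt23f M ▸ M.t_mem_H good23 1 [10,4,0,8,0,10,4,8,6] (by decide +kernel))
    (all_cons (pt23g M ▸ M.t_mem_H good23 0 [2,4,8,0,10,2,6,4,10,8] (by decide +kernel))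
    (all_cons (pt23h M ▸ M.t_mem_H good23 1 [2,8,0,4,2,6,0,8,10,4] (by decide +kernel))
    (all_cons (pt23i M ▸ M.t_mem_H good23 0 [0,4,2,8,6,0,4,2,6,8,10] (by decide +kernel))
    (all_cons (pt23j M ▸ M.t_mem_H good23 0 [2,6,0,8,10,8,4,6,8,4] (by decide +kernel))
    (all_cons (pt23m M ▸ M.t_mem_H good23 0 [4,6,8,10,4,6,0,4,2,6,8,10] (by decide +kernel))
    (all_cons (pt23n M ▸ M.t_mem_H good23 1 [8,4,10,0,8,10,0,4,6] (by decide +kernel))
    all_nil))))))))))))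
theorem satQ23 {R : Eqs} (h : lall R (eqI f23 B23) = true) : Sat C23.g R := good23.sat base23 (g_mem_X _) h
theorem satS23 {gs : List Word} {R : Eqs} (h : lall R (eqI (sub2 f23 gs) B23) = true) : Sat (sw C23.g gs) R :=
  (good23.sub2 gs).sat base23 (sw_mem_X _ _) h

noncomputable def f24 : ℕ → ℕ → ℕ := lk C24 2048 19 [ent 12 t24a, ent 12 t24b, ent 12 t24c, ent 12 t24d, ent 12 t24e, ent 12 t24f, ent 12 t24g, ent 12 t24h, ent 12 t24i, ent 12 t24j, ent 12 t24k, ent 12 t24l, ent 12 t24m, ent 12 t24n]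
theorem hs24_ : band (Nat.blt C24.k 2048) (Nat.ble 2 2048) = true := by decide +kernel
theorem good24 : GoodG C24.g f24 := good_lk (tbl_cons (tbl_ent ok24 hs24_ t24a_ok (sq_of_sat cox24 0 (by decide +kernel)))
    (tbl_cons (tbl_ent ok24 hs24_ t24b_ok (sq_of_sat cox24 1 (by decide +kernel)))
    (tbl_cons (tbl_ent ok24 hs24_ t24c_ok (sq_of_sat cox24 2 (by decide +kernel)))
    (tbl_cons (tbl_ent ok24 hs24_ t24d_ok (sq_of_sat cox24 3 (by decide +kernel)))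
    (tbl_cons (tbl_ent ok24 hs24_ t24e_ok (sq_of_sat cox24 4 (by decide +kernel)))
    (tbl_cons (tbl_ent ok24 hs24_ t24f_ok (sq_of_sat cox24 5 (by decide +kernel)))
    (tbl_cons (tbl_ent ok24 hs24_ t24g_ok (sq_of_sat cox24 6 (by decide +kernel)))
    (tbl_cons (tbl_ent ok24 hs24_ t24h_ok (sq_of_sat cox24 7 (by decide +kernel)))
    (tbl_cons (tbl_ent ok24 hs24_ t24i_ok (sq_of_sat cox24 8 (by decide +kernel)))
    (tbl_cons (tbl_ent ok24 hs24_ t24j_ok (sq_of_sat cox24 9 (by decide +kernel)))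
    (tbl_cons (tbl_ent ok24 hs24_ t24k_ok (sq_of_sat cox24 10 (by decide +kernel)))
    (tbl_cons (tbl_ent ok24 hs24_ t24l_ok (sq_of_sat cox24 11 (by decide +kernel)))
    (tbl_cons (tbl_ent ok24 hs24_ t24m_ok (sq_of_sat cox24 12 (by decide +kernel)))
    (tbl_cons (tbl_ent ok24 hs24_ t24n_ok (sq_of_sat cox24 13 (by decide +kernel)))
    (tbl_nil ok24 hs24_ (by decide +kernel))))))))))))))))
def B24 : List ℕ := [150989,3899,20596,302797,302046]
theorem base24 : IsBase (X C24) B24 := by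
  obtain ⟨M⟩ := model24
  exact M.isBase good24 (ws := [[2,10,8,12,14,26,10,16,26,20], [8,6,10,18,12,10,8,20,26,10,16,26,20], [2,0,18,26,10,12,20,26,10,16,26,20], [14,22,24,18,12,10,8,26,10,16,26,20], [0,6,26,10,8,12,10,26,20]]) (by decide +kernel) tab24 (all_cons (pt24a M ▸ M.t_mem_H good24 1 [6,8,0,2,6,8,4,2,8,2,6,0,4] (by decide +kernel))
    (all_cons (pt24b M ▸ M.t_mem_H good24 0 [0,6,4,2,0,4,8,4,2,6,8,4,2] (by decide +kernel))
    (all_cons (pt24c M ▸ M.t_mem_H good24 0 [8,4,0,6,2,8,2,6,4,8,0,6,8,2] (by decide +kernel))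
    (all_cons (pt24d M ▸ M.t_mem_H good24 0 [6,8,6,2,4,0,8,0,2,6,8,4,2] (by decide +kernel))
    (all_cons (pt24e M ▸ M.t_mem_H good24 0 [4,0,2,8,4,0,6,4,2,8,4,2] (by decide +kernel))
    (all_cons (pt24f M ▸ M.t_mem_H good24 1 [2,0,6,0,2,8,4,0,8,6,4,0,8,4] (by decide +kernel))
    (all_cons (pt24g M ▸ M.t_mem_H good24 0 [4,8,0,6,0,8,4,2,0,4,2,6,2,8] (by decide +kernel))
    (all_cons (pt24h M ▸ M.t_mem_H good24 0 [2,8,4,0,2,6,8,4,0,8,6,4,2] (by decide +kernel))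
    (all_cons (pt24i M ▸ M.t_mem_H good24 3 [0,8,4,0,6,2,8,2,4,0,2,8] (by decide +kernel))
    (all_cons (pt24j M ▸ M.t_mem_H good24 0 [0,8,2,6,8,4,2,0,6,4,0,8,6,2] (by decide +kernel))
    (all_cons (pt24k M ▸ M.t_mem_H good24 2 [2,4,8,6,4,0,8,2,6,8,2,0,8] (by decide +kernel))
    (all_cons (pt24l M ▸ M.t_mem_H good24 0 [0,8,2,0,6,4,0,8,2,4,8,6,2,4] (by decide +kernel))
    (all_cons (pt24m M ▸ M.t_mem_H good24 2 [2,0,8,6,4,0,8,2,6,0,8] (by decide +kernel))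
    (all_cons (pt24n M ▸ M.t_mem_H good24 1 [2,8,2,6,4,0,2,8,0,2,4,8,6] (by decide +kernel))
    all_nil))))))))))))))
theorem satQ24 {R : Eqs} (h : lall R (eqI f24 B24) = true) : Sat C24.g R := good24.sat base24 (g_mem_X _) h
theorem satS24 {gs : List Word} {R : Eqs} (h : lall R (eqI (sub2 f24 gs) B24) = true) : Sat (sw C24.g gs) R :=
  (good24.sub2 gs).sat base24 (sw_mem_X _ _) h

end CA.Fi
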