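import Cfsg.Agent.Lib.Fi.JT

/-! A Sylow `2`-subgroup of a group of type `M(22)` and its Thompson subgroup. -/

set_option autoImplicit false
set_option linter.unusedVariables false
set_option maxRecDepth 100000
set_option Elab.async false

namespace CA.J22
open Cfsg Subgroup Equiv CA.Fi CA.CNet CA.CWord CA.CLevel CA.H27Pres CA.CSimple CA.CBack CA.CMat CA.UB CA.JT CA.CLow
  CA.OutI CA.LocG

def gT : List Word := [[0,4,14,6,4,8,14,6,14,8,10,16,26,16,8,14,6,14,8,4,6,10,12,26,10], [26,10,12,8,10,26], [2,0,4,2], [10,26,16,12,10,6,4,8,14,6,14,8,26,16,10,8,14,6,14,8,4,6,26,16,10,26,8,10], [10,12,8,10], [16,10,6,4,8,14,6,14,8,4,6,16,26,10,12,8,10,26,16,6,4,8,14,6,14,8,4,6,16,10], [6,4,8,14,6,14,8,4,6,26,10,12,8,10,6,4,8,14,6,14,8,4,6,26]]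
def gA : List Word := [[0], [4], [16], [8], [12], [26,2,4,16,26,2,0,2,26,16,4,2,26], [2,4,14,16,26,2,0,2,26,16,14,4,2], [10,8,12,10,26,2,4,16,26,2,0,2,26,16,4,2,26,10,12,8,10], [2,6,8,10,12,26,10,16,26,2,0,2,26,16,10,26,12,10,8,6,2], [2,0,10,8,12,10,14,16,26,2,0,2,26,16,14,10,12,8,10,0,2]]
def pA : List Word := [[], [2,0,4,2], [26,2,0,16,26,2], [6,4,2,0,8,6,4,2], [10,12,26,2,0,10,26,2], [26,2,4,16,26,2], [2,4,14,16,26,2], [10,8,12,10,26,2,4,16,26,2], [2,6,8,10,12,26,10,16,26,2], [2,0,10,8,12,10,14,16,26,2]]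
def pB : List Word := [[], [2,0,4,2], [26,2,0,16,26,2], [6,4,2,0,8,6,4,2], [10,12,26,2,0,10,26,2], [26,2,4,16,26,2], [2,4,14,16,26,2], [2,0,14,16,26,2], [10,8,12,10,26,2,4,16,26,2], [2,6,8,10,12,26,10,16,26,2], [2,0,10,8,12,10,14,16,26,2], [2,14,16,26,10,8,12,10,26,2], [2,4,10,8,12,10,14,16,26,2], [26,2,4,10,8,12,10,16,26,2], [2,0,4,6,8,10,12,26,10,16,26,2], [2,0,4,14,16,26,10,8,12,10,26,2], [26,2,0,4,16,26,10,8,12,10,26,2], [6,14,6,16,14,26,2,10,12,26,10,16,26,2], [2,6,8,10,8,6,12,10,8,26,10,16,26,2], [2,0,4,2,26,2,4,10,8,12,10,16,26,2], [2,0,26,16,14,6,8,10,12,26,10,16,26,2], [2,4,26,16,14,6,8,10,12,26,10,16,26,2]]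
def rel : List Word := [[0], [2], [4], [6], [8], [10], [12], [0,2,4,6,10,12], [14], [16], [18], [2,8,10,12,18], [0,2,4,8,14,18], [2,4,6,16,18], [0,2,4,8,10,16], [0,6,12,14,18], [0,2,6,8,12,16,18], [4,6,8,10,14], [4,8,12,14,16,18], [0,4,6,10,14,16,18], [2,6,10,12,14,16], [0,8,10,12,14,16]]
def us : List ℕ := [0,1,2,3,4,5,6]
def U : ℕ := nat_lit 0x3004226599999800000000000000000000000000000003
def Om : ℕ := nat_lit 0x3fffc000000000003fffc0003fffffffc00000000000000000003fffc0003fffc00000003fffc0000000000000003fffc0003fffc0000000000000000000000000003fffc000000000000000000000000000000000003fffc000000000000000000000000000000000003fffffffffffc00000003fffffffc0000000000000000000000000000000000000003fffffffffffffffffffffffc00000003fffffffffffffffffffffffffffffffc000000000000000000000003fffffffc00000000000000003c3c3c3fc3c3c3c3c3c3c3c03c3c3c3fc3c3c3c03c3c3c3fc3c3c3c03c3c3c3fc3c3c3c03c3c3c3c3c3c3c3fc3c3c3c3c3c3c3c03c3c3c3c3c3c3c3fc3c3c3c3c3c3c3c03c3c3c3c3c3c3c3fc3c3c3c3c3c3c3c03c3c3c3fc3c3c3c03c3c3c3c3c3c3c3fc3c3c3c03c3c3c3fc3c3c3c03c3c3c3fc3c3c3c3c3c3c3c03c3c3c3c00000000000000000000000000000000000000000000000000000000000000000000000000000000000000000000000000000000000000000000000000000000000000000000000000000000000000000000000000000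
def lowT_w1 : List Word := [[2,0,4,2]]
theorem lowT_1 : Low (C22.grp lowT_w1) 2 [694] :=
  low_orb ok22 good22 694 (by decide) [(694,0)] (m := 2) (grp_mono _ (by decide +kernel))
    (by decide +kernel) (by decide +kernel) (low_nil C22) (by decide)
theorem lowT : Low (C22.grp gT) 128 [808,694] :=
  low_orb ok22 good22 808 (by decide) [(808,0), (808,1), (808,2), (808,6), (808,7), (808,8), (808,10), (808,12), (2915,2), (2915,4), (2915,6), (2915,7), (2915,8), (2915,12), (2150,2), (2150,4), (2150,6), (2150,7), (2150,8), (2150,12), (878,0), (878,1), (878,4), (878,6), (878,7), (878,8), (878,10), (878,12), (2878,2), (2878,8), (2878,10), (1954,2), (1954,8), (1954,10), (1039,10), (1039,12), (1626,4), (2747,1), (2747,4), (2747,6), (2747,7), (2747,8), (1787,0), (1787,2), (1787,7), (1787,10), (1787,12), (2585,2), (2129,8), (2007,1), (2007,2), (2007,6), (2165,8), (3038,8), (1204,6), (1204,7), (1204,10), (1194,10), (1964,4), (1964,8), (1316,4), (2586,8), (2001,8)]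 (m := 64) (le_of_subst _ [[4]] (by decide +kernel))
    (by decide +kernel) (by decide +kernel) lowT_1 (by decide)
theorem lowA : Low (C22.grp gA) 1024 [2423] :=
  low_clo ok22 good22 2423 (by decide) [2,6,8,0,4,12,10,14,18,16] (m := 1024) (us := []) (grp_mono _ (by simp)) (by decide +kernel)
    (by decide +kernel) (low_nil _) rfl
theorem lowS : 2 ^ 17 ≤ Nat.card (C22.grp (lapp gA gT)) :=
  (low_clo ok22 good22 2423 (by decide) [2,6,8,0,4,12,10,14,18,16] (m := 1024) (grp_mono _ (by decide +kernel)) (by decide +kernel)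
    (by decide +kernel) lowT rfl).1
theorem pcT : Sat (sw C22.g gT) (pcE 2 us [[10], [], [], [12], [], [], []]
    [[], [[2,10,12]], [[4,6,8,12], [4,8,12]], [[6,10,12], [6,10], [6]], [[8,10], [8], [8], [8,12]], [[10], [10], [10,12], [10], [10]], [[12], [12], [12], [12], [12], [12]]]) := satS22 (by decide +kernel)

variable {G : Type*} [Group G] {D : Set G} (M : M22 G D)

theorem pc : PC (sw M.γ gT) 2 us :=
  have := M.finite
  pc_of _ _ (sat_sw M.inj M.hγ pcT) (by decide +kernel)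
theorem nn : NN (sw M.γ gT) us 0 = M.H gT := NN_sw _ (by decide +kernel)
theorem cardT : Nat.card (M.H gT) = 2 ^ 7 :=
  have := M.finite
  le_antisymm (nn M ▸ (pc M).card_le' (by decide) (Nat.zero_le _)) (lowT.1.trans (M.card_H _).ge)
theorem elA : IsElementaryAbelian 2 (M.H gA) := elem_of (M.sat (satQ22 (by decide +kernel)))
theorem cardA : Nat.card (M.H gA) = 2 ^ 10 :=
  have := M.finite
  le_antisymm (card_elem (by decide) (elA M)) (lowA.1.trans (M.card_H _).ge)

theorem memB {w : Word} (hw : w ∈ pB) : M.t (M.p w) ∈ M.H gA := by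
  obtain ⟨i, hi, rfl⟩ := exists_nth_of_mem [] hw
  rw [← M.e_trw, Model.e, sat_fun (u := fun i => trw 0 (nth pB [] i)) (v := fun i => subst gA (nth rel [] i))
    (M.sat (satQ22 (by decide +kernel))) (PLevel.mem_rng (show i < 22 from hi))]
  exact subst_mem_grp _ _ _
theorem sAB {w : Word} (hw : w ∈ pA) : w ∈ pB :=
  of_decide_eq_true (lall_iff.1 (show lall pA (fun w => decide (w ∈ pB)) = true by decide +kernel) w hw)
theorem memA {w : Word} (hw : w ∈ gA) : M.e w ∈ ts M U := by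
  obtain ⟨i, hi, rfl⟩ := exists_nth_of_mem [] hw
  rw [Model.e, sat_fun (u := fun i => nth gA [] i) (v := fun i => trw 0 (nth pA [] i))
    (M.sat (satQ22 (by decide +kernel))) (PLevel.mem_rng (show i < 10 from hi)), ← Model.e, M.e_trw]
  refine (ts_mkS good22 (ws := pB) (by decide +kernel) _).2 ⟨_, sAB ?_, rfl⟩
  rw [nth_eq_getD, List.getD_eq_getElem _ _ (show i < pA.length from hi)]; exact List.getElem_mem _
theorem AU : closure (ts M U) = M.H gA :=
  le_antisymm ((closure_le _).2 fun y hy => by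
    obtain ⟨w, hw, rfl⟩ := (ts_mkS good22 (ws := pB) (by decide +kernel) y).1 hy
    exact memB M hw) ((grp_le_iff _).2 fun w hw => subset_closure (memA M hw))
theorem nrm : M.H gT ≤ normalizer (M.H gA) := fun x hx =>
  AU M ▸ norm_ts M (Ctx.inv_spec ok22 (by decide +kernel) (M.mem_H.1 hx))
theorem pS : IsPGroup 2 (M.H gA ⊔ M.H gT : Subgroup G) :=
  (IsPGroup.of_card (cardA M)).to_sup_of_normal_left' (IsPGroup.of_card (cardT M)) (nrm M)

include M in
theorem syl (T : Sylow 2 G) : ∃ M' : M22 G D, (T : Subgroup G) = M'.H gA ⊔ M'.H gT := by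
  have := M.finite
  obtain ⟨g, hg⟩ := syl_conj (pS M) (m := 17) (lowS.trans ((M.card_H _).ge.trans (card_le_of_le ((grp_le_iff _).2
    (all_app (fun w hw => mem_sup_left (mem_grp _ hw)) fun w hw => mem_sup_right (mem_grp _ hw))))))
    (by rw [card22 M]; decide) T
  exact ⟨cj M g, by rw [H_cj, H_cj, ← Subgroup.map_sup, hg]⟩

theorem thom : thompsonSubgroupOf 2 (M.H gA ⊔ M.H gT) = M.H gA :=
  have := M.finite
  J_eq (elA M) le_sup_left fun B h1 h2 h3 => uniq M good22 (ω := P22 2423) (O := Om) (R := allW 2 us)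
    (elA M).1 (nrm M) (fun a ha h => M.inj ((lowA.2 ((M.card_H _).ge.trans (cardA M).le) _ (M.mem_H.1 ha) fun i hi =>
      (show i = P22 2423 from Fin.ext (List.mem_singleton.1 hi)) ▸ h).trans (map_one _).symm))
    (fun u hu => fix_of_mapsP good22 (by decide +kernel) _ (M.mem_H.1 hu))
    (fun a ha => (Ctx.inv_spec ok22 (by decide +kernel) (M.mem_H.1 ha) _).trans (by decide +kernel))
    (fun u hu => enum (pc M) (by decide) 7 0 rfl u ((nn M).ge hu))
    (lowT.2 ((M.card_H _).ge.trans (cardT M).le)) (by decide +kernel) (ths := [32,16,0]) (c := 64) (N := 1024)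
    (by decide +kernel) h1 h2 ((cardA M).ge.trans h3)

theorem trs : closure {x | x ∈ D ∧ x ∈ M.H gA ⊔ M.H gT} = M.H gA := by
  refine Eq.trans (congrArg _ (ts_eq M fun i => ⟨fun hi => ?_, fun hi => ?_⟩)) (AU M)
  · refine sub_spec (show sub (UB.capN C22 693 pA (full C22.n)) U = true by decide +kernel) (capN_mem M fun w hw => ?_)
    exact Tr3Block.commute_of_mul_mem_two M.prim.cls.1 (pS M) (M.t_mem _) (M.t_mem _) (mul_mem (mem_sup_left
      (memB M (sAB hw))) hi)
  · exact mem_sup_left ((AU M).le (subset_closure ((mem_ts M).2 hi)))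

end CA.J22
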