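import Cfsg.Agent.Lib.Fi.MZ4
import Cfsg.Agent.S2652

/-! Coordinates on the base groups of the transposition centralisers of `Fi₂₂` and `Fi₂₃`. -/

set_option autoImplicit false
set_option linter.unusedVariables false
set_option linter.unusedSectionVars false
set_option maxRecDepth 100000

namespace CA.FiZ
open Cfsg CA.Fi CA.CNet CA.CWord CA.CLevel CA.H27Pres CA.Tr3Basic CA.Tr3Block CA.Tr3Prim CA.Tr3Rank Subgroup

noncomputable def bw (r v : ℕ) : Word := Nat.rec [] (fun i ih => Bool.rec ih (Nat.mul 2 i :: ih) (tb v i)) r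
noncomputable def ln (ms : List ℕ) (r v : ℕ) : ℕ :=
  Nat.rec 0 (fun i ih => Bool.rec ih (Nat.xor (nth ms 0 i) ih) (tb v i)) r
noncomputable def clo1 (fs : List (List ℕ)) (r n S : ℕ) : ℕ :=
  Nat.rec S (fun v ih => force ih fun T => Bool.rec T
    (List.rec T (fun ms _ U => Nat.lor U (Nat.shiftLeft 1 (ln ms r v))) fs) (tb T v)) n
noncomputable def cloN (fs : List (List ℕ)) (r n k S : ℕ) : ℕ := Nat.rec S (fun _ ih => force ih (clo1 fs r n)) k

theorem clo1_spec {fs : List (List ℕ)} {r : ℕ} {Q : ℕ → Prop} (hQ : ∀ ms ∈ fs, ∀ v, Q v → Q (ln ms r v)) {S : ℕ}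
    (hS : ∀ v, S.testBit v = true → Q v) : ∀ n v, (clo1 fs r n S).testBit v = true → Q v
  | 0 => hS
  | n + 1 => by
    have ih := clo1_spec hQ hS n
    show ∀ v, (force (clo1 fs r n S) fun T => (Bool.rec T
      (List.rec T (fun ms _ U => Nat.lor U (Nat.shiftLeft 1 (ln ms r n))) fs) (tb T n) : ℕ)).testBit v = true → Q v
    rw [force_eq]
    generalize clo1 fs r n S = T at ih
    cases h : tb T n
    · exact ih
    · have hn := ih n (tb_eq T n ▸ h)
      induction fs with
      | nil => exact ih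
      | cons ms fs ih' =>
        intro v hv
        change ((_ : ℕ) ||| 1 <<< ln ms r n).testBit v = true at hv
        rw [Nat.testBit_or, Bool.or_eq_true, Nat.one_shiftLeft, Nat.testBit_two_pow, decide_eq_true_eq] at hv
        rcases hv with hv | rfl
        exacts [ih' (fun ms h => hQ ms (List.mem_cons_of_mem _ h)) v hv, hQ ms (by simp) n hn]

theorem cloN_spec {fs : List (List ℕ)} {r n : ℕ} {Q : ℕ → Prop} (hQ : ∀ ms ∈ fs, ∀ v, Q v → Q (ln ms r v)) {S : ℕ}
    (hS : ∀ v, S.testBit v = true → Q v) : ∀ k v, (cloN fs r n k S).testBit v = true → Q v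
  | 0 => hS
  | k + 1 => by
    show ∀ v, (force (cloN fs r n k S) (clo1 fs r n)).testBit v = true → Q v
    rw [force_eq]; exact clo1_spec hQ (cloN_spec hQ hS k) n

section
variable {G : Type*} [Group G] {g : ℕ → G}

theorem bw_succ (r v : ℕ) : ev g (bw (r + 1) v) = (if v.testBit r then g r else 1) * ev g (bw r v) := by
  show ev g (Bool.rec (bw r v) (Nat.mul 2 r :: bw r v) (tb v r)) = _
  rw [tb_eq]; cases v.testBit r <;> simp [lv_even]

theorem nu_comm {x : G} (v : ℕ) : ∀ r, (∀ i < r, Commute x (g i)) → Commute x (ev g (bw r v))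
  | 0, _ => Commute.one_right x
  | r + 1, h => by
    rw [bw_succ]
    refine Commute.mul_right ?_ (nu_comm v r fun i hi => h i (by omega))
    split_ifs; exacts [h r (by omega), Commute.one_right x]

theorem nu_xor (v w : ℕ) : ∀ r, (∀ i < r, ∀ j < r, Commute (g i) (g j)) → (∀ i < r, g i * g i = 1) →
    ev g (bw r (v ^^^ w)) = ev g (bw r v) * ev g (bw r w)
  | 0, _, _ => (one_mul _).symm
  | r + 1, hc, hs => by
    have c := (nu_comm v r fun i hi => hc r (by omega) i (by omega)).eq
    rw [bw_succ, bw_succ, bw_succ, nu_xor v w r (fun i hi j hj => hc i (by omega) j (by omega)) fun i hi => hs i (by omega),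
      Nat.testBit_xor]
    cases v.testBit r <;> cases w.testBit r <;> simp [mul_assoc]
    · rw [← mul_assoc, c, mul_assoc]
    · rw [← mul_assoc (ev g (bw r v)), ← c, mul_assoc, cancel_left (hs r (by omega))]

theorem nu_pow (i : ℕ) : ∀ r, ev g (bw r (2 ^ i)) = if i < r then g i else 1
  | 0 => rfl
  | r + 1 => by
    rw [bw_succ, nu_pow i r, Nat.testBit_two_pow]
    rcases lt_trichotomy i r with h | rfl | h
    · simp [h, h.ne, h.trans (Nat.lt_succ_self r)]
    · simp
    · simp [h.ne', h.le.not_gt, show ¬ i < r + 1 by omega]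

theorem nu_ln {R : ℕ} (hc : ∀ i < R, ∀ j < R, Commute (g i) (g j)) (hs : ∀ i < R, g i * g i = 1) {c : G} {ms : List ℕ}
    (v : ℕ) : ∀ r, (∀ i < r, c * g i * c⁻¹ = ev g (bw R (nth ms 0 i))) → c * ev g (bw r v) * c⁻¹ = ev g (bw R (ln ms r v))
  | 0, _ => by
    have := nu_xor (g := g) 0 0 R hc hs
    exact (by simp [bw] : _ = (1 : G)).trans (left_eq_mul.1 this).symm
  | r + 1, h => by
    rw [bw_succ, ← conj_mul, nu_ln hc hs v r fun i hi => h i (by omega)]
    show _ = ev g (bw R (Bool.rec (ln ms r v) (nth ms 0 r ^^^ ln ms r v) (tb v r)))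
    rw [tb_eq]
    cases v.testBit r
    · simp
    · simp only [if_true, h r (by omega)]; exact (nu_xor _ _ R hc hs).symm

theorem elem_closure {S : Set G} (h1 : ∀ x ∈ S, x * x = 1) (h2 : ∀ x ∈ S, ∀ y ∈ S, Commute x y) :
    IsElementaryAbelian 2 (closure S) :=
  ⟨isMulCommutative_closure h2, fun a ha => by rw [pow_two, sq_of_mem_closure h1 h2 ha]⟩

theorem JU.mem [Finite G] {r : ℕ} (h : JU G r) {P A : Subgroup G} (hP : IsPGroup 2 P) (hA : A ≤ P)
    (eA : IsElementaryAbelian 2 A) (cA : Nat.card A = 2 ^ r) {y : G} (h1 : y ∈ P) (h2 : y * y = 1)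
    (h3 : ∀ a ∈ A, Commute y a) : y ∈ A := by
  have le : A ≤ closure (insert y (A : Set G)) := fun a ha => subset_closure (Set.mem_insert_of_mem _ ha)
  refine h P hP A hA _ ((closure_le _).2 (Set.insert_subset_iff.2 ⟨h1, hA⟩)) eA (elem_closure
    (Set.forall_mem_insert.2 ⟨h2, fun a ha => pow_two a ▸ eA.2 a ha⟩) (Set.forall_mem_insert.2
      ⟨Set.forall_mem_insert.2 ⟨Commute.refl _, h3⟩, fun a ha => Set.forall_mem_insert.2 ⟨(h3 a ha).symm, fun b hb =>
        congrArg Subtype.val (eA.1.1.1 (⟨a, ha⟩ : A) ⟨b, hb⟩)⟩⟩)) cA (cA.ge.trans (card_le_of_le le))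
    (subset_closure (Set.mem_insert _ _))

end

noncomputable def bOK (f : ℕ → ℕ → ℕ) (B : List ℕ) (d r k : ℕ) (pA : List Word) (cs : List (Word × List ℕ)) (om : ℕ → ℕ)
    (s : Word) : Bool :=
  band (band (lall cs fun c => band (Nat.beq (im f c.1 0) 0) (lall (PLevel.rng r) fun i => eqI f B
      (lapp c.1 (lapp (nth (lmap (trw d) pA) [] i) (winv c.1)), subst (lmap (trw d) pA) (bw r (nth c.2 0 i)))))
    (band (Nat.beq (im f s 0) 0) (eqI f B (lapp s s, subst (lmap (trw d) pA) (bw r 6)))))
  (band (lall RR0 fun u => Nat.beq (cloN (lmap Prod.snd cs) r (Nat.pow 2 r) k (Nat.shiftLeft 1 u)) (om u))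
    (band (lall (PLevel.rng (Nat.pow 2 r)) (tb (mkm om RR0))) (tb (om 14) 15)))

theorem bd_of {H L : Type*} [Group H] [Group L] {D : Set H} {D' : Set L} {C : Ctx} {d k : ℕ} (M : Model H D C d k)
    {f : ℕ → ℕ → ℕ} (hf : GoodG C.g f) {B : List ℕ} (hB : CSimple.IsBase (X C) B) {p1 p2 p3 : Word} {pR : List Word}
    {r n : ℕ} {pA : List Word} (hA : pA = [] :: p1 :: p2 :: p3 :: pR) (hr : pA.length = r) (hpf : pfI f k (full C.n) pA = true)
    {cs : List (Word × List ℕ)} {om : ℕ → ℕ} {s : Word} (ok : bOK f B d r n pA cs om s = true)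
    (h0 : om 0 = 1) (hn : NR D 5) (hj : JU H r) {χ : centralizer {M.t M.o} →* L} (hL : Loc D {M.t M.o} D' χ) (hI : IP D')
    (hp : commutator (centralizer {M.t M.o}) = ⊤) :
    ∃ ν, BD {y : centralizer {M.t M.o} | y.1 ∈ D} ⟨_, cself _⟩ r ν om := by
  have := M.finite
  have pf := M.pf' hf M.msk_full hpf
  obtain ⟨g, hg0⟩ : ∃ g : ℕ → H, g = fun i => ev M.γ (nth (lmap (trw d) pA) [] i) := ⟨_, rfl⟩
  have hg : ∀ i < r, g i ∈ pA.map fun w => M.t (M.p w) := fun i hi => by
    refine List.mem_map.2 ⟨pA[i]'(hr ▸ hi), List.getElem_mem _, ?_⟩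
    rw [← M.e_trw, hg0]
    simp only [lmap_eq, nth_eq_getD]
    rw [List.getD_eq_getElem _ _ (by rw [List.length_map, hr]; exact hi), List.getElem_map]
  have r4 : 4 ≤ r := by rw [← hr]; simp [hA]
  have p0 : M.t (M.p []) = M.t M.o := rfl
  have g0 : g 0 = M.t M.o := by rw [hg0, hA]; exact M.e_trw []
  have gD : ∀ i < r, g i ∈ D := fun i hi => pf.2.2.1 _ (hg i hi)
  have hc : ∀ i < r, ∀ j < r, Commute (g i) (g j) := fun i hi j hj => pf.2.2.2.1 _ (hg i hi) _ (hg j hj)
  have hs : ∀ i < r, g i * g i = 1 := fun i hi => Tr3Basic.sq M.prim.set (gD i hi)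
  obtain ⟨ν, hν⟩ : ∃ ν : ℕ → centralizer {M.t M.o}, ∀ v, (ν v).1 = ev g (bw r v) :=
    ⟨fun v => ⟨ev g (bw r v), mem_centralizer_singleton_iff.2
      (nu_comm v r fun i hi => g0 ▸ hc 0 (by omega) i hi).symm⟩, fun _ => rfl⟩
  have xr : ∀ v w, ν (v ^^^ w) = ν v * ν w := fun v w => Subtype.ext (by rw [coe_mul, hν, hν, hν, nu_xor v w r hc hs])
  have np : ∀ i < r, (ν (2 ^ i)).1 = g i := fun i hi => by rw [hν, nu_pow, if_pos hi]
  have n1 : (ν 1).1 = M.t (M.p []) := (np 0 (by omega)).trans g0
  have n2 : (ν 2).1 = M.t (M.p p1) := (np 1 (by omega)).trans (by rw [hg0, hA]; exact M.e_trw p1)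
  have n4 : (ν 4).1 = M.t (M.p p2) := (np 2 (by omega)).trans (by rw [hg0, hA]; exact M.e_trw p2)
  have n8 : (ν 8).1 = M.t (M.p p3) := (np 3 (by omega)).trans (by rw [hg0, hA]; exact M.e_trw p3)
  have nd := pf.1
  have cm := pf.2.2.2.1
  simp only [hA, List.map_cons, List.nodup_cons, List.mem_cons, not_or, forall_eq_or_imp] at nd cm
  have k : ∀ {m : ℕ} {x : H} {l : List H}, PF D m x l → 2 ≤ m → m ≤ 3 → x ∉ D ∧ x ≠ 1 := fun {m x l} h a b =>
    ⟨fun e => by have := hn.len M.prim (k := 3) (by omega) (by omega) h (l' := [x]) (m' := 1)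
                    ⟨by simp, rfl, by simpa, by simp, by simp⟩ b (by omega); omega,
      fun e => by have := hn.len M.prim (k := 3) (by omega) (by omega) h (e ▸ pf_one) b (by omega); omega⟩
  have k3 : (ν 3).1 ∉ D ∧ (ν 3).1 ≠ 1 := by
    rw [show ν 3 = _ from xr 1 2, coe_mul, n1, n2]
    exact k (pf2 (M.t_mem _) (M.t_mem _) nd.1.1 cm.1.2.1) le_rfl (by omega)
  have k6 : (ν 6).1 ∉ D ∧ (ν 6).1 ≠ 1 := by
    rw [show ν 6 = _ from xr 2 4, coe_mul, n2, n4]
    exact k (pf2 (M.t_mem _) (M.t_mem _) nd.2.1.1 cm.2.1.2.2.1) le_rfl (by omega)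
  have k7 : (ν 7).1 ∉ D ∧ (ν 7).1 ≠ 1 := by
    rw [show ν 7 = _ from xr 3 4, show ν 3 = _ from xr 1 2, coe_mul, coe_mul, n1, n2, n4]
    exact k (pf3 (M.t_mem _) (M.t_mem _) (M.t_mem _) nd.1.1 nd.1.2.1 nd.2.1.1 cm.1.2.1 cm.1.2.2.1 cm.2.1.2.2.1)
      (by omega) le_rfl
  have k14 : (ν 14).1 ∉ D ∧ (ν 14).1 ≠ 1 := by
    rw [show ν 14 = _ from xr 6 8, show ν 6 = _ from xr 2 4, coe_mul, coe_mul, n2, n4, n8]
    exact k (pf3 (M.t_mem _) (M.t_mem _) (M.t_mem _) nd.2.1.1 nd.2.1.2.1 nd.2.2.1.1 cm.2.1.2.2.1 cm.2.1.2.2.2.1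
      cm.2.2.1.2.2.2.1) (by omega) le_rfl
  have k0 : (ν 0).1 ∉ D := by
    rw [show ν 0 = 1 from left_eq_mul.1 (xr 0 0)]; exact fun e => ne_one_of_orderOf (M.prim.set.1 _ e) rfl
  obtain ⟨o1, o2⟩ := band_iff.1 ok
  obtain ⟨o1, o3⟩ := band_iff.1 o1
  obtain ⟨o3, o4⟩ := band_iff.1 o3
  obtain ⟨o2, o5⟩ := band_iff.1 o2
  obtain ⟨o5, o6⟩ := band_iff.1 o5
  have fx : ∀ {w : Word}, Nat.beq (im f w 0) 0 = true → M.e w ∈ centralizer {M.t M.o} := fun {w} e =>
    mem_centralizer_singleton_iff.2 ((M.commute_iff _ _).2 (Fin.ext (by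
      rw [M.φ_im hf, M.ho]; exact Nat.eq_of_beq_eq_true e)))
  have eq : ∀ {u v : Word}, eqI f B (u, v) = true → M.e u = M.e v := fun e => M.e_eq (hf.eq_of_Q hB (g_mem_X C) e)
  have hb := dbl_of_loc hL (M.prim.set.1 _ (M.t_mem _)) hp
  have b0 : BD0 {y : centralizer {M.t M.o} | y.1 ∈ D} ⟨_, cself _⟩ r ν om :=
    { xor := xr
      one := Subtype.ext n1
      cen := hb.cen
      uni := fun u hu v hv => by
        rw [← Nat.eq_of_beq_eq_true (lall_iff.1 o2 u hu)] at hv
        refine cloN_spec (Q := fun v => IsConj (ν u) (ν v)) (fun ms hm v e => ?_) (fun v hv => ?_) n v hv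
        · rw [lmap_eq] at hm
          obtain ⟨c, hc', rfl⟩ := List.mem_map.1 hm
          obtain ⟨a, b⟩ := band_iff.1 (lall_iff.1 o1 c hc')
          refine e.trans (isConj_iff.2 ⟨⟨_, fx a⟩, Subtype.ext ?_⟩)
          rw [coe_mul, coe_mul, coe_inv, hν, hν]
          refine nu_ln hc hs v r fun i hi => ?_
          have := eq (lall_iff.1 b i (PLevel.mem_rng hi))
          rw [Model.e, Model.e, ev_lapp, ev_lapp, ev_winv, ev_subst, ← mul_assoc] at this
          rw [hg0]; exact this
        · change (1 <<< u).testBit v = true at hv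
          rw [Nat.one_shiftLeft, Nat.testBit_two_pow, decide_eq_true_eq] at hv
          rw [hv]
      cov := fun v hv => testBit_mk.1 ((tb_eq _ _).symm.trans (lall_iff.1 o5 v (PLevel.mem_rng hv)))
      r4 := r4
      m15 := (tb_eq _ _).symm.trans o6
      cj := fun x y c e => by obtain ⟨c, rfl⟩ := isConj_iff.1 c; exact M.prim.conj _ e
      e1 := M.t_mem _
      e2 := by show (ν 2).1 ∈ D; rw [n2]; exact M.t_mem _
      n2 := fun e => nd.1.1 ((congrArg Subtype.val e).symm.trans n2)
      ne := by simp [k0, k3.1, k6.1, k7.1, k14.1]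
      n1 := by
        simp only [List.forall_mem_cons, List.not_mem_nil, false_imp_iff, implies_true, and_true]
        exact ⟨fun e => k3.2 (congrArg Subtype.val e), fun e => k6.2 (congrArg Subtype.val e),
          fun e => k7.2 (congrArg Subtype.val e), fun e => k14.2 (congrArg Subtype.val e)⟩
      sq := ⟨⟨_, fx o3⟩, Subtype.ext (by
        have := eq o4
        rw [Model.e, Model.e, ev_lapp, ev_subst] at this
        rw [hν, hg0]; exact this)⟩
      sqE := fun x hx => Subtype.ext (Tr3Basic.sq M.prim.set hx)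
      ju := hj.of_inj _ (subtype_injective _) }
  refine ⟨ν, b0, fun x hx => ?_⟩
  obtain ⟨m, l, hl⟩ := hI (χ x) (by rw [← map_mul, hx, map_one])
  obtain ⟨t, rfl, ht⟩ := exists_lift fun z hz => hL.bij.surjOn (hl.2.2.1 z hz)
  let S : Set (centralizer {M.t M.o}) := insert ⟨_, cself _⟩ {y | y ∈ t}
  have s1 : ∀ y ∈ S, y.1 ∈ D := by rintro y (rfl | hy); exacts [M.t_mem _, (ht y hy).1]
  have s2 : ∀ y ∈ S, ∀ y' ∈ S, Commute y y' := by
    rintro y (rfl | hy) y' hy'
    · exact hb.cen _
    rcases hy' with rfl | hy'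
    · exact (hb.cen _).symm
    · exact Subtype.ext ((hL.comm_iff y (ht y' hy')).1
        (hl.2.2.2.1 _ (List.mem_map_of_mem hy) _ (List.mem_map_of_mem hy')))
  have s3 : x ∈ closure S := by
    have : t.prod ∈ closure S := Subgroup.list_prod_mem _ fun y hy => subset_closure (.inr hy)
    rcases hb.eq_or (hl.2.2.2.2.symm.trans (map_list_prod χ t).symm) with rfl | rfl
    exacts [this, mul_mem this (subset_closure (.inl rfl))]
  obtain ⟨P, hP⟩ := (elem_pg b0.elA).exists_le_sylow
  obtain ⟨c, hc'⟩ := exists_conj_le (elem_pg (elem_closure (fun y hy => b0.sqE y (s1 y hy)) s2)) P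
  have s4 : (closure S).map (MulAut.conj c).toMonoidHom ≤ b0.A := by
    rw [map_le_iff_le_comap, closure_le]
    intro y hy
    have y1 : c * y * c⁻¹ ∈ P := hc' (mem_map_of_mem _ (subset_closure hy))
    have y2 : (c * y * c⁻¹).1 ∈ D := M.prim.conj _ (s1 y hy)
    show c * y * c⁻¹ ∈ b0.A
    generalize c * y * c⁻¹ = y at y1 y2
    have y3 : ∀ a ∈ b0.A, Commute y a := by
      rintro _ ⟨v, hv, rfl⟩
      refine Subtype.ext ?_
      rw [coe_mul, coe_mul, hν]
      refine (nu_comm v r fun i hi => commute_of_mul_mem_two M.prim.set (P.2.map (Subgroup.subtype _)) y2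
        (gD i hi) ⟨y * ν (2 ^ i), mul_mem y1 (hP ⟨_, Nat.pow_lt_pow_right (by decide) hi, rfl⟩), ?_⟩)
      rw [← np i hi]; rfl
    exact b0.ju.mem P.2 hP b0.elA (b0.cardA h0) y1 (b0.sqE _ y2) y3
  obtain ⟨v, hv, e⟩ := s4 (mem_map_of_mem _ s3)
  exact ⟨v, hv, isConj_iff.2 ⟨c, e.symm⟩⟩

theorem ju22 {H : Type*} [Group H] {D : Set H} (M : M22 H D) : JU H 10 := fun P hP A hA B hB eA eB cA cB => by
  have := M.finite
  obtain ⟨T, hT⟩ := hP.exists_le_sylow
  obtain ⟨M, e⟩ := J22.syl M T
  have k := fun B h1 h2 => (Agent.S2652.of_thom (B := B) (J22.thom M) h1 h2).2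
  rw [J22.cardA, ← e] at k
  rw [eq_of_le_of_card_ge (k A (hA.trans hT) eA cA.ge) (by rw [cA, J22.cardA])]
  exact k B (hB.trans hT) eB cB

theorem ju23 {H : Type*} [Group H] {D : Set H} (M : M23 H D) : JU H 11 := fun P hP A hA B hB eA eB cA cB => by
  have := M.finite
  obtain ⟨T, hT⟩ := hP.exists_le_sylow
  obtain ⟨h1, E, -, h2⟩ := Agent.S2652.main M T
  rw [h2 A (hA.trans hT) eA cA, h2 B (hB.trans hT) eB (le_antisymm (h1 B (hB.trans hT) eB) cB)]

def oL22 : List ℕ := [1, 2, nat_lit 0x100000000020000000000000000000080000000000000000004000000000000000020000000000008000000004000000000000000000000000000100020400000000000000000000000000000000000000000000800000000000010000000000000000100000000000000100008000000000010000000100010114,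
  nat_lit 0x200000000010000000000000000000040000000000000000008000000000000000010000000000004000000008000000000000000000000000000200010800000000000000000000000000000000000000000000400000000000020000000000000000200000000000000200004000000000020000000200020228, 0, 0,
  nat_lit 0x4012248018410214280482210190600828040142821848200190600848021441810402180290680210822440842802810461900418040281420408212081411406284106801214801082244042040821108284100940200984280281208141141042842024080241491010091081811482042881402181141081811409141440,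
  nat_lit 0x8021184024820128140841120260900414080281412484100260900484012882420801240160940120411880481401420892600824080142810804121042822809148209402128402041188081080412204148200680100648140142104282282081481018040182862020062042422841081442801242282042422806282880, 0, 0, 0, 0, 0, 0,
  nat_lit 0x3fccc33fc30cfcc3c3f30cccfc0f0ff3c3f3fc3c30c333cffc0f0ff333fc033c3cf3fcc3fc0f00fccf3cc33f3303fc3cf3000ff3c3f3fc3c3cf3f3cccf3c3cc0f0c030f03fccc33fcf3cc33f3cf3f3cccf3c33cff03fcff03303fc3ccf3c3cc0cf3c33cfc3f3fc3c00cfcff0cf3c3cc03cf3033c3fcc3cc0cf3c3cc0f0c0c000]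
def oL23 : List ℕ := [1, 2, nat_lit 0x20000000000000000000400000000000000000000000000000000000000004000000000000000000000000000000000000020000000000000000000000000000000000800000000000000000000000040000000000000000020000000000000000000000000000000000000000000000000000000010000000400200000000000000000000000000000000000000000000000000000000000000000000000000000000000000000800000000000000000000000000100000000000000000000000000000000020000000000000000000000000000010000000040000000000000000000000100000000000000010000000100010114,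
  nat_lit 0x10000000000000000000800000000000000000000000000000000000000008000000000000000000000000000000000000010000000000000000000000000000000000400000000000000000000000080000000000000000010000000000000000000000000000000000000000000000000000000020000000800100000000000000000000000000000000000000000000000000000000000000000000000000000000000000000400000000000000000000000000200000000000000000000000000000000010000000000000000000000000000020000000080000000000000000000000200000000000000020000000200020228, 0, 0,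
  nat_lit 0x10000204042080000240280200080210048000104104040200014200240000800840002000011008401402402040040000028100240000402040000882202001800100200008014000084200188200080200400804102000402014400008400100202482420000200140002000088001100400200080080108004001200101140024044120820024800002040120400002008004042010001008002000400801010080044020020000421000080000818010288000088001040080012001011402001004402008000410008000082001284202000200008102004001800101144008002014404001200008014001011402008001400101140081011401141440,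
  nat_lit 0x20000108081040000180140100040120084000208208080100028100180000400480001000022004802801801080080000014200180000801080000441101002400200100004028000048100244100040100800408201000801028800004800200101841810000100280001000044002200800100040040204008002100202280018088210410018400001080210800001004008081020002004001000800402020040088010010000812000040000424020144000044002080040021002022801002008801004000820004000041002148101000100004201008002400202288004001028808002100004028002022801004002800202280042022802282880, 0, 0, 0, 0, 0, 0,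
  nat_lit 0xcffffcf3f3cf3ffffc3fc0fcfff3fccff33fffcf30f3f3fcfffc3cffc3ffff3ff33fffcffffccff33f03fc3fcf3ff3fffffc3cffc3ffff3fcf3ffff30ccfcffc3ffcffcffff3fc3ffff33cffc330fff3fcff3ff3f3cfcfff3fcf033ffff33ffcffcfc30c3cffffcffc3fffcffff33ffccff3ffcfff3ff3fcf3ff3ffccffcfcc0ffc3f330cf0cffc33ffffcf3fccf3ffffcff3ff3f3cfcfffcff3ffcfff3ff3fcfcff3ff33fcffcffff3ccffff3ffff3c3fcf033ffff33ffcf3ff3ffccffcfcc0fcffcff33fcff3fff3cfff3ffff3cffcc03cfcfffcffff3cfcff3ffc3ffcfcc03ff3ffcf033f3ffccffff3fc3ffcfcc0fcff3ffc3ffcfcc0ff3cfcc0fcc0c000]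
noncomputable def om22 : ℕ → ℕ := nth oL22 0
noncomputable def om23 : ℕ → ℕ := nth oL23 0
def pA22 : List Word := [[],[2,4,0,2],[26,16,2,26,0,2],[6,8,4,6,2,4,0,2],[10,26,12,10,2,26,0,2],[26,16,2,26,4,2],[14,16,2,26,4,2],[14,16,10,26,12,10,2,26,4,2],[26,16,10,26,12,10,2,26,4,2],[14,16,10,12,8,10,2,26,0,2]]
def pA23 : List Word := [[],[2,26,10,0,2,26,12,18,24,10,12,18],[6,8,10,12,18,24,4,6,8,10,12,18],[26,16,10,26,12,18,24,10,12,18],[10,12,18,24,8,10,12,18],[18,24,12,18],[26,10,12,18,24,16,6,14,4,6,8,10,12,18],[10,12,18,24,14,16,6,14,4,6,8,10,12,18],[14,16,10,26,18,24,6,14,4,6,8,10,12,18],[26,16,10,26,18,24,6,14,4,6,8,10,12,18],[14,16,10,26,18,24,8,10,12,18]]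
theorem bok22 : bOK f22 B22 0 10 10 pA22 [([6,4,14,6,16,14,4,6],[1,4,2,64,16,32,8,512,311,128]),([6,26,10,12,6,14,8,10],[1,2,111,16,8,256,782,64,941,4])] om22
    [2,26,6,4,2,0,2,4,6,26,2,4,2,26,6,4,2,0,2,4,6,26,2,16,2,26,6,4,2,0,2,4,6,26,2] = true := by decide +kernel
theorem bok23 : bOK f23 B23 12 11 7 pA23 [([6,4,14,6,16,14,4,6],[1,2,8,4,128,32,64,16,1024,623,256]),([6,26,10,12,6,14,8,10],[1,2,4,222,32,16,512,1565,128,1882,8]),([2,0,4,2],[1,4,2,8,16,32,64,222,256,623,1326])] om23
    [2,0,2,4,2] = true := by decide +kernel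
theorem chk22 : chkF om22 (2 ^ 10) = true := by decide +kernel
theorem chk23 : chkF om23 (2 ^ 11) = true := by decide +kernel
theorem chk22' : chk5 om22 (2 ^ 10) [5,189,627,712] = true := by decide +kernel
theorem cb22 : cb (tb (mkm om22 [1,2])) (2 ^ 10) = 22 := by decide +kernel
theorem cb23 : cb (tb (mkm om23 [1,2])) (2 ^ 11) = 23 := by decide +kernel

theorem bd22 {H : Type*} [Group H] {D : Set H} (M : M22 H D) :
    ∃ ν, BD {y : centralizer {M.t M.o} | y.1 ∈ D} ⟨_, cself _⟩ 10 ν om22 := by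
  obtain ⟨M'⟩ := model21
  obtain ⟨χ, h⟩ := lo22 M M' (M.t_mem M.o)
  exact bd_of M good22 base22 (pA := pA22) rfl rfl (by decide +kernel) bok22 rfl (top22 M).2.1 (ju22 M) h (ip21 M')
    (FiCover.cperf22 M)

theorem bd23 {H : Type*} [Group H] {D : Set H} (M : M23 H D) :
    ∃ ν, BD {y : centralizer {M.t M.o} | y.1 ∈ D} ⟨_, cself _⟩ 11 ν om23 := by
  obtain ⟨M'⟩ := model22
  obtain ⟨χ, h⟩ := lo23 M M' (M.t_mem M.o)
  exact bd_of M good23 base23 (pA := pA23) rfl rfl (by decide +kernel) bok23 rfl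
    (fun m l hm => (top23 M).2.1 m l (by omega)) (ju23 M) h (ip22 M') (FiCover.cperf23 M)

end CA.FiZ
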