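import Cfsg.Agent.Lib.Fi.Out24a

/-! The outer automorphism group of Fi24' has order 2. -/

set_option autoImplicit false
set_option linter.unusedVariables false
set_option Elab.async false
set_option maxRecDepth 100000

namespace CA.Out24
open Cfsg Subgroup Equiv CA.Fi CA.CNet CA.CWord CA.CLevel CA.H27Pres CA.CSimple CA.Tr3Basic CA.Tr3Prim CA.Tr3Iso

variable {G : Type*} [Group G] {D : Set G} (M : M24 G D)

theorem wm' {w : Word} (h : w ∈ ws) : M.e w ∈ _root_.commutator G := LocG2.even24 M _ (lall_iff.1 pe _ h)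

theorem wm (i : ℕ) : sw M.γ ws i ∈ _root_.commutator G := by
  rcases nth_mem_or ws [] i with h | h
  · exact wm' M h
  · show ev _ _ ∈ _; rw [h]; exact one_mem _

theorem cy {w : Word} (h : w ∈ ys) : Commute (M.e w) (M.t M.o) := by
  rw [M.commute_e]
  rcases List.mem_append.1 (show w ∈ y8 ++ [[18,24,12,18]] from h) with h | h
  · exact (fx8 _).2 (.inl M.ho) w h
  · rw [List.mem_singleton.1 h]
    exact Fin.ext ((good24.im_eq _ _).symm.trans (by rw [M.ho]; exact Nat.eq_of_beq_eq_true (band_iff.1 x01).1))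

theorem fy {i : Fin C24.n} (h : ∀ w ∈ ys, C24.ev w i = i) : i = M.o := by
  rcases (fx8 i).1 fun w hw => h w (List.mem_append_left [[18,24,12,18]] hw) with e | e
  · exact Fin.ext (e.trans M.ho.symm)
  · have := (band_iff.1 x01).2
    rw [← e, good24.im_eq, h _ (List.mem_append_right y8 (List.mem_singleton_self _)), Nat.beq_refl] at this
    cases this

theorem Yle : M.H ys ≤ _root_.commutator G := (grp_le_iff _).2 fun w hw => wm' M (List.mem_append_left [[22,24]] hw)

theorem Yc : ∀ y ∈ M.H ys, Commute y (M.t M.o) := fun y hy => mem_centralizer_singleton_iff.1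
  ((grp_le_iff _).2 (fun w hw => mem_centralizer_singleton_iff.2 (cy M hw)) hy)

theorem memY {y : G} (hy : y ∈ _root_.commutator G) (h : Commute y (M.t M.o)) : y ∈ M.H ys := by
  have l2 := sq M.prim.set (M.t_mem M.o)
  have : M.H (sing l23) ≤ M.H ys ⊔ zpowers (M.t M.o) := by
    rw [Model.H, grp_sing, closure_le]
    rintro _ ⟨i, hi, rfl⟩
    obtain ⟨j, hj, rfl⟩ := exists_nth_of_mem 0 hi
    have := JT.sat_fun (M.sat su) (i := j) (List.mem_range.2 hj)
    rw [ev_cons, show ev M.γ [22] = M.t M.o from (ev_gen _ 11).trans M.t0.symm,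
      show lv M.γ (Nat.mul 2 _) = _ from lv_even _ _] at this
    rw [← cancel_right l2 (M.γ _), ← this]
    exact mul_mem (mem_sup_left (subst_mem_grp _ _ _)) (mem_sup_right (mem_zpowers _))
  refine (mem_sup2 l2 (Yc M) (this (cent24 M ▸ mem_centralizer_singleton_iff.2 h))).resolve_right fun e =>
    LocG2.odd24 M M.o (by simpa using mul_mem (inv_mem hy) (Yle M e))

include M in
theorem sgn {x : G} (hx : x ∈ _root_.commutator G) {m : ℕ} {l : List G} (h : PF D m x l) : Even m := by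
  obtain ⟨s, hs⟩ := FiIdx.sign24 M
  have e : s x = (-1) ^ m := by
    rw [← h.2.2.2.2, map_list_prod, ← h.2.1, List.eq_replicate_iff.2 ⟨List.length_map s, fun b hb => by
      obtain ⟨a, ha, rfl⟩ := List.mem_map.1 hb; exact hs a (h.2.2.1 a ha)⟩, List.prod_replicate]
  rw [show s x = 1 from Abelianization.commutator_subset_ker s hx] at e
  exact (neg_one_pow_eq_one_iff_even (by decide)).1 e.symm

theorem cj9 (α : MulAut (_root_.commutator G)) {i : ℕ} (hi : i ∈ l8) :
    Commute (ap α (sw M.γ ws i)) (ap α (sw M.γ ws 9)) := by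
  have := JT.sat_fun (ap_sat α (wm M) (M.satS sj)) hi
  rwa [ev_cons, ev_cons, ev_cons, ev_cons, ev_nil, mul_one, mul_one, show lv _ (Nat.mul 2 _) = _ from lv_even _ _,
    lv_even _ 9] at this

theorem two (α : MulAut (_root_.commutator G)) : ∃ l, PF D 2 (ap α (M.e [22,24])) l := by
  have := M.finite
  have hj : M.e [22,24] ∈ _ := wm M 9
  have j2 := (pf24m M).sq M.prim.set
  obtain ⟨m, hm, l, h⟩ := inv24 M (ap α (M.e [22,24])) (by rw [← ap_mul α hj hj, j2, ap_eq α (one_mem _)]; exact congrArg _ (map_one α))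
  obtain ⟨n, rfl⟩ := sgn M (ap_mem α hj) h
  have o1 : ap α⁻¹ 1 = 1 := (ap_eq _ (one_mem _)).trans (congrArg _ (map_one _))
  obtain rfl | rfl | rfl : n = 0 ∨ n = 1 ∨ n = 2 := by omega
  · have e : ap α (M.e [22,24]) = 1 := by rw [← h.2.2.2.2, List.length_eq_zero_iff.1 h.2.1]; rfl
    have := ap_li α hj
    rw [e, o1] at this
    exact absurd this.symm (ne_one_of_orderOf ((top24 M).2.1.order M.prim (pf24m M) (by norm_num) (by norm_num)))
  · exact ⟨l, h⟩
  · exfalso
    obtain ⟨g, hg⟩ := isConj_iff.1 (((top24 M).2.2 4 (by norm_num)).isConj h (pf24c M))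
    let δ : ℕ → G := fun i => ap α (sw M.γ ws i)
    have hr : ev δ r ^ 13 = 1 := (ev_wpow _ _ _).symm.trans (ap_sat α (wm M) (M.satS sx) (wpow r 13, []) (by simp))
    have hn : ev δ r ≠ 1 := fun e => by
      have := ap_li α (ev_mem (wm M) r)
      rw [ap_ev α (wm M), show ev (fun i => ap α (sw M.γ ws i)) r = 1 from e, o1, ← ev_subst] at this
      exact LocG.ne_one (M := M) good24 (q := 150989) (by decide +kernel) this.symm
    have hc : Commute (ev δ r) (δ 9) := mem_centralizer_singleton_iff.1 ((show grp δ (sing l8) ≤ _ from by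
      rw [grp_sing, closure_le]
      rintro _ ⟨i, hi, rfl⟩
      exact mem_centralizer_singleton_iff.2 (cj9 M α hi)) (mem_of_wIn δ (by decide)))
    have h13 : orderOf (g * ev δ r * g⁻¹) = 13 := by
      have : Fact (Nat.Prime 13) := ⟨by norm_num⟩
      rw [← MulAut.conj_apply, MulEquiv.orderOf_eq, orderOf_eq_prime hr hn]
    have := orderOf_dvd_natCard (⟨g * ev δ r * g⁻¹, mem_centralizer_singleton_iff.2
      (hg ▸ (commute_conj_iff g _ _).2 hc)⟩ : centralizer {M.e Z24.z})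
    rw [← orderOf_coe, h13, (Z24.main M).2.2.1] at this
    norm_num at this

theorem K0 (α : MulAut (_root_.commutator G)) :
    ∃ u ∈ D, ∀ y ∈ _root_.commutator G, Commute y (M.t M.o) → Commute (ap α y) u := by
  have := M.finite
  obtain ⟨l, hl⟩ := two M α
  obtain ⟨l', hl'⟩ := two (LocG.cj M (M.e h)) α
  let δ : ℕ → G := fun i => ap α (sw M.γ ws i)
  have hx := ap_sat α (wm M) (M.satS sx)
  have h8 : ∀ a ∈ l, grp δ (sing l8) ≤ centralizer {a} := fun a ha => by
    rw [grp_sing, closure_le]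
    rintro _ ⟨i, hi, rfl⟩
    have h3 := JT.sat_fun (ap_sat α (wm M) (M.satS s3)) hi
    rw [ev_wpow, show ev _ [Nat.mul 2 i] = _ from ev_gen _ _] at h3
    exact mem_centralizer_singleton_iff.2 (fix3 M.prim (nr_four M.prim) (trL_two M.prim) hl h3 (cj9 M α hi) a ha)
  have e1 : δ 8 * δ 9 * (δ 8)⁻¹ = ev δ (nth us [] 6) := by
    rw [← hx ([16,18,17], nth us [] 6) (by simp)]; simp [ev_cons, ev_nil, lv, mul_assoc, δ]
  have e2 : δ 8 * δ 8 = 1 := by
    have := hx ([16,16], []) (by simp)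
    simpa [ev_cons, ev_nil, lv] using this
  obtain ⟨u, hu, e⟩ := share M.prim (top24 M).2.1 (j := δ 9) hl e2 (l' := l')
    (fun a ha => mem_centralizer_singleton_iff.1 (h8 a ha (e1 ▸ mem_of_wIn δ (by decide)))) (by
      have := M.sat sh _ (List.mem_singleton_self _)
      rw [ev_lapp, ev_lapp, ev_winv, ← mul_assoc, ev_subst] at this
      rw [LocG.e_cj, this, ap_ev α (wm M)] at hl'
      convert hl' using 1
      show δ 9 * _ = ev δ _
      simp [ev_cons, ev_nil, lv, mul_assoc])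
  refine ⟨u, hl.2.2.1 u hu, fun y hy hc => ?_⟩
  obtain ⟨w, rfl⟩ := exists_subst (memY M hy hc)
  have m : ∀ i, sw M.γ ys i ∈ _root_.commutator G := fun i => Yle M (nth_mem_grp _ _ _)
  rw [ev_subst, ap_ev α m]
  refine mem_centralizer_singleton_iff.1 (ev_mem (fun i => ?_) w)
  by_cases hi : i < 8
  · have := h8 u hu (mem_of_wIn δ (w := [2 * i]) (by interval_cases i <;> decide))
    rw [ev_gen] at this
    convert this using 1
    interval_cases i <;> rfl
  · obtain ⟨j, rfl⟩ := Nat.exists_eq_add_of_le' (not_lt.1 hi)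
    cases j with
    | zero => exact mem_centralizer_singleton_iff.2 e
    | succ j =>
      rw [show sw M.γ ys (j + 1 + 8) = 1 from rfl, ap_eq α (one_mem _)]
      exact (congrArg Subtype.val (map_one α)).symm ▸ one_mem _

include M

theorem uq {d v : G} (hd : d ∈ D) (hv : v ∈ D) (h : ∀ y ∈ _root_.commutator G, Commute y d → Commute y v) : v = d := by
  obtain ⟨M', rfl⟩ := M.recenter hd
  obtain ⟨i, rfl⟩ := M'.exists_t hv
  rw [fy M' fun w hw => (M'.commute_e w i).1 (h _ (Yle M' (mem_grp _ hw)) (cy M' hw))]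

theorem exF (α : MulAut (_root_.commutator G)) : ∃ F : G → G, ∀ d ∈ D, F d ∈ D ∧
    ∀ y ∈ _root_.commutator G, Commute y d ↔ Commute (ap α y) (F d) := by
  have K : ∀ α : MulAut (_root_.commutator G), ∀ d ∈ D, ∃ u ∈ D, ∀ y ∈ _root_.commutator G,
      Commute y d → Commute (ap α y) u := fun α d hd => by
    obtain ⟨M', rfl⟩ := M.recenter hd
    exact K0 M' α
  choose! F h1 h2 using K α
  refine ⟨F, fun d hd => ⟨h1 d hd, fun y hy => ⟨h2 d hd y hy, fun e => ?_⟩⟩⟩
  obtain ⟨v, hv, h3⟩ := K α⁻¹ _ (h1 d hd)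
  obtain rfl := uq M hd hv fun z hz e => ap_li α hz ▸ h3 _ (ap_mem α hz) (h2 _ hd z hz e)
  exact ap_li α hy ▸ h3 _ (ap_mem α hy) e

theorem rigid {d : G} (hd : d ∈ D) {τ : G → G} (h1 : ∀ x ∈ D, τ x ∈ D) (h2 : Set.InjOn τ D)
    (h3 : ∀ y ∈ _root_.commutator G, Commute y d → ∀ x ∈ D, τ (y * x * y⁻¹) = y * τ x * y⁻¹) :
    (∀ x ∈ D, τ x = x) ∨ ∀ x ∈ D, τ x = d * x * d⁻¹ := by
  obtain ⟨M, rfl⟩ := M.recenter hd
  choose σ hσ using fun i => M.exists_t (h1 _ (M.t_mem i))
  have fx : ∀ w i, M.e w ∈ _root_.commutator G → C24.ev w M.o = M.o → C24.ev w i = i → C24.ev w (σ i) = σ i :=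
    fun w i hw e1 e2 => M.tinj (by
      rw [← M.conj_t, hσ, ← h3 _ hw ((M.commute_e _ _).2 e1) _ (M.t_mem i), M.conj_t, e2])
  have si : ∀ i, σ i = σ M.o → i = M.o := fun i e =>
    M.tinj (h2 (M.t_mem _) (M.t_mem _) (by rw [← hσ, ← hσ, e]))
  have s0 : σ M.o = M.o := fy M fun w hw =>
    fx w _ (Yle M (mem_grp _ hw)) ((M.commute_e _ _).1 (cy M hw)) ((M.commute_e _ _).1 (cy M hw))
  have s1 : ∀ i : Fin C24.n, (i : ℕ) = 1 → (σ i : ℕ) = 1 := fun i hi =>
    ((fx8 _).1 fun w hw => fx w _ (Yle M (mem_grp _ (List.mem_append_left [[18,24,12,18]] hw)))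
      ((fx8 _).2 (.inl M.ho) w hw) ((fx8 _).2 (.inr hi) w hw)).resolve_left fun e => by
        have := si i (Fin.ext (by rw [e, s0, M.ho])); rw [this, M.ho] at hi; cases hi
  have sk : (σ (P24 306428) : ℕ) = 306424 ∨ (σ (P24 306428) : ℕ) = 306428 :=
    ((fxk _).1 fun w hw => fx w _ (LocG2.even24 M _ (lall_iff.1 pk _ hw))
      ((fxk _).2 (.inl M.ho) w hw) ((fxk _).2 (.inr (.inr rfl)) w hw)).resolve_left fun e => by
        have := congrArg Fin.val (si _ (Fin.ext (by rw [e, s0, M.ho]))); rw [M.ho] at this; cases this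
  have fin : ∀ g : G, (∀ y ∈ M.H ys, Commute y g) → (∀ i : Fin C24.n, (i : ℕ) = 0 ∨ (i : ℕ) = 1 ∨ (i : ℕ) = 306428 →
      σ i = M.φ g i) → ∀ x ∈ D, τ x = g * x * g⁻¹ := fun g hg h x hx => by
    obtain ⟨i, rfl⟩ := M.exists_t hx
    obtain ⟨x, hx, e⟩ := covs i
    obtain ⟨y, hy, rfl⟩ := M.exists_H hx
    have := h3 y (Yle M hy) (Yc M y hy) _ (M.t_mem i)
    rw [M.equi, ← hσ, h _ e, ← M.equi, ← M.equi, ← mul_assoc g, ← mul_assoc g, ← (hg y hy).eq, mul_assoc _ y⁻¹,
      ← mul_inv_rev, (hg y hy).symm.eq, mul_inv_rev] at this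
    exact conj_inj.1 (this.symm.trans (by group))
  obtain ⟨⟨l0, l1⟩, l2⟩ := (band_iff.1 lk).imp_left band_iff.1
  have el : ∀ i, (M.φ (M.t M.o) i : ℕ) = im f24 [22] i := fun i => by
    rw [← M.φ_im good24, show M.e [22] = M.t M.o from (ev_gen _ 11).trans M.t0.symm]
  rcases sk with sk | sk
  · refine .inr (fin _ (Yc M) fun i hi => Fin.ext ?_)
    rw [el]
    rcases hi with e | e | e
    · rw [show i = M.o from Fin.ext (e.trans M.ho.symm), s0, M.ho, Nat.eq_of_beq_eq_true l0]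
    · rw [s1 i e, e, Nat.eq_of_beq_eq_true l1]
    · rw [show i = P24 306428 from Fin.ext e, sk]; exact (Nat.eq_of_beq_eq_true l2).symm
  · refine .inl fun x hx => (fin 1 (fun y _ => Commute.one_right y) (fun i hi => Fin.ext ?_) x hx).trans (by simp)
    rw [map_one, Perm.one_apply]
    rcases hi with e | e | e
    · rw [show i = M.o from Fin.ext (e.trans M.ho.symm), s0]
    · rw [s1 i e, e]
    · rw [show i = P24 306428 from Fin.ext e, sk]; rfl

theorem equivF {α : MulAut (_root_.commutator G)} {F : G → G} (hF : ∀ d ∈ D, F d ∈ D ∧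
    ∀ y ∈ _root_.commutator G, Commute y d ↔ Commute (ap α y) (F d)) {y x : G} (hy : y ∈ _root_.commutator G)
    (hx : x ∈ D) : F (y * x * y⁻¹) = ap α y * F x * (ap α y)⁻¹ := by
  have h1 := M.prim.conj y hx
  refine (uq M (hF _ h1).1 (M.prim.conj _ (hF _ hx).1) fun z hz e => ?_).symm
  have hz' := ap_mem α⁻¹ hz
  rw [← ap_ri α hz, ← (hF _ h1).2 _ hz', ← commute_conj_iff y⁻¹, show y⁻¹ * (y * x * y⁻¹) * y⁻¹⁻¹ = x by group,
    (hF _ hx).2 _ (mul_mem (mul_mem (inv_mem hy) hz') (inv_mem (inv_mem hy))), ap_cj α (inv_mem hy) hz', ap_ri α hz,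
    ap_inv α hy, ← commute_conj_iff (ap α y)] at e
  convert e using 1; group

theorem ind (α : MulAut (_root_.commutator G)) : ∃ g : G, MulAut.conjNormal g = α := by
  have := M.finite
  obtain ⟨F, hF⟩ := exF M α
  obtain ⟨E, hE⟩ := exF M α⁻¹
  have EF : ∀ x ∈ D, E (F x) = x := fun x hx => uq M hx (hE _ (hF x hx).1).1 fun y hy e =>
    ap_li α hy ▸ ((hE _ (hF x hx).1).2 _ (ap_mem α hy)).1 (((hF x hx).2 y hy).1 e)
  have FE : ∀ x ∈ D, F (E x) = x := fun x hx => uq M hx (hF _ (hE x hx).1).1 fun y hy e =>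
    ap_ri α hy ▸ ((hF _ (hE x hx).1).2 _ (ap_mem α⁻¹ hy)).1 (((hE x hx).2 y hy).1 e)
  have iF : Set.InjOn F D := fun a ha b hb e => by rw [← EF a ha, e, EF b hb]
  have fi : FIso D D F := ⟨⟨fun x hx => (hF x hx).1, iF, fun x hx => ⟨_, (hE x hx).1, FE x hx⟩⟩,
    fun x hx y hy => M.prim.conj y hx, fun x hx e he => ?_, fun x hx => sq M.prim.set hx, fun x hx => sq M.prim.set hx⟩
  · obtain ⟨β, hβ⟩ := fi.exists_equiv M.prim.cls.2.2 M.prim.cls.2.2 M.center M.center
    obtain ⟨g, rfl⟩ : β ∈ Inn G := Subgroup.index_eq_one.1 (card_out M.center (caut24 M)) ▸ mem_top β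
    refine ⟨g, MulEquiv.ext fun y => Subtype.ext ?_⟩
    have : (g⁻¹ * (ap α y)⁻¹ * g * y : G) = 1 := M.eq_one fun x hx => (conj_eq_iff_commute _ _).1 (by
      have := equivF M hF y.2 hx
      rw [← hβ _ (M.prim.conj _ hx), ← hβ _ hx, MulAut.conj_apply, MulAut.conj_apply] at this
      calc _ = g⁻¹ * (ap α y)⁻¹ * (g * (y * x * (y : G)⁻¹) * g⁻¹) * ap α y * g := by group
        _ = x := by rw [this]; group)
    rw [MulAut.conjNormal_apply, ← ap_eq α y.2]
    calc _ = ap α y * g * (g⁻¹ * (ap α y)⁻¹ * g * y) * g⁻¹ := by group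
      _ = _ := by rw [this]; group
  · have c : ∀ z ∈ D, e * E z * e⁻¹ ∈ D := fun z hz => M.prim.conj e (hE z hz).1
    rcases rigid M (hF e he).1 (τ := fun z => F (e * E z * e⁻¹)) (fun z hz => (hF _ (c z hz)).1)
      (fun a ha b hb h => by rw [← FE a ha, conj_inj.1 (iF (c a ha) (c b hb) h), FE b hb]) (fun y hy h z hz => by
        have hy' := ap_mem α⁻¹ hy
        have := ((hF e he).2 _ hy').2 (by rwa [ap_ri α hy])
        rw [equivF M hE hy hz, ← ap_ri α hy, ← equivF M hF hy' (c z hz), ap_ri α hy]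
        congr 1
        calc _ = e * ap α⁻¹ y * E z * (e * ap α⁻¹ y)⁻¹ := by group
          _ = _ := by rw [← this.eq]; group) with h | h
    · refine absurd (M.eq_one fun z hz => (conj_eq_iff_commute _ _).1 (iF (M.prim.conj e hz) hz ?_)) (ne_one M.prim.set he)
      simpa only [EF z hz] using h _ (hF z hz).1
    · simpa only [EF x hx] using h _ (hF x hx).1

theorem cinj : Function.Injective (MulAut.conjNormal : G →* MulAut (_root_.commutator G)) :=
  (injective_iff_map_eq_one _).2 fun g hg => M.eq_one fun d hd => (conj_eq_iff_commute _ _).1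
    (uq M hd (M.prim.conj g hd) fun y hy e => by
      have : g * y * g⁻¹ = y := (MulAut.conjNormal_apply g ⟨y, hy⟩).symm.trans (by rw [hg]; rfl)
      exact this ▸ (commute_conj_iff g _ _).2 e)

theorem out24 : Nat.card (Out (_root_.commutator G)) = 2 := by
  have := M.finite
  refine card_out (eq_bot_iff.2 fun z hz => Subtype.ext (cinj M (MulEquiv.ext fun y => Subtype.ext ?_))) ?_
  · simpa using (conj_eq_iff_commute _ _).2 (congrArg Subtype.val (mem_center_iff.1 hz y)).symm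
  · rw [← Nat.card_congr (Equiv.ofBijective _ ⟨cinj M, ind M⟩), card24 M, FiIdx.card24' M]

end CA.Out24
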