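import Cfsg.Agent.Lib.Comp.CMat

/-! Matrices over a prime field with rows packed into numbers (digits in base 65536); kernel checks of
relators for involutory matrices. -/

set_option autoImplicit false
set_option linter.all false

namespace CA.PkM

open CA.CNet CA.CWord CA.CMat Matrix

/-- a digit -/
def dg : ℕ → ℕ → ℕ
  | 0, r => r % 65536
  | j + 1, r => dg j (r / 65536)

theorem dg_zero : ∀ j, dg j 0 = 0
  | 0 => rfl
  | j + 1 => dg_zero j

theorem dg_pow : ∀ i j, dg j (65536 ^ i) = if i = j then 1 else 0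
  | 0, 0 => rfl
  | 0, j + 1 => dg_zero j
  | i + 1, 0 => by rw [pow_succ, dg, Nat.mul_mod_left, if_neg (by omega)]
  | i + 1, j + 1 => by
    rw [pow_succ, dg, Nat.mul_div_cancel _ (by decide), dg_pow i j]; simp

theorem dg_axpy {c m k : ℕ} (h : c * m + k < 65536) : ∀ j y x : ℕ, (∀ i ≤ j, dg i y ≤ m) → (∀ i ≤ j, dg i x ≤ k) →
    dg j (c * y + x) = c * dg j y + dg j x := by
  have key : ∀ y x : ℕ, dg 0 y ≤ m → dg 0 x ≤ k → (c * y + x) % 65536 = c * (y % 65536) + x % 65536 ∧
      (c * y + x) / 65536 = c * (y / 65536) + x / 65536 := fun y x h1 h2 => by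
    have e : c * y = 65536 * (c * (y / 65536)) + c * (y % 65536) := by
      conv_lhs => rw [← Nat.div_add_mod y 65536]
      ring
    have h3 : c * (y % 65536) ≤ c * m := Nat.mul_le_mul_left c h1
    have h4 : x % 65536 ≤ k := h2
    omega
  intro j
  induction j with
  | zero => exact fun y x hy hx => (key y x (hy 0 le_rfl) (hx 0 le_rfl)).1
  | succ j ih =>
    intro y x hy hx
    rw [dg, (key y x (hy 0 (by omega)) (hx 0 (by omega))).2]
    exact ih _ _ (fun i hi => hy (i + 1) (by omega)) fun i hi => hx (i + 1) (by omega)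

/-- row times matrix, added to an accumulator -/
noncomputable def rm (p : ℕ) (B : List ℕ) : ℕ → ℕ → ℕ :=
  List.rec (motive := fun _ => ℕ → ℕ → ℕ) (fun _ acc => acc)
    (fun b _ ih r acc => force (Nat.add (Nat.mul (Nat.mod (Nat.mod r 65536) p) b) acc) fun a =>
      force (Nat.div r 65536) fun r' => ih r' a) B

theorem rm_spec {p n : ℕ} (hp : 0 < p) (B : List ℕ) : ∀ r acc k : ℕ, (∀ b ∈ B, ∀ i < n, dg i b ≤ p) →
    (∀ i < n, dg i acc ≤ k) → k + B.length * (p * p) < 65536 → ∀ j < n,
    dg j (rm p B r acc) = dg j acc + ∑ t ∈ Finset.range B.length, dg t r % p * dg j (nth B 0 t) := by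
  induction B with
  | nil => intro r acc k _ _ _ j _; simp [rm]
  | cons b B ih =>
    intro r acc k hB ha hk j hj
    have e : rm p (b :: B) r acc = rm p B (r / 65536) (dg 0 r % p * b + acc) := by
      show force _ (fun a => force _ fun r' => rm p B r' a) = _
      rw [force_eq, force_eq]; rfl
    have hc : dg 0 r % p * p ≤ p * p := Nat.mul_le_mul_right p (Nat.mod_lt _ hp).le
    rw [List.length_cons, Nat.succ_mul] at hk
    have ax : ∀ i < n, dg i (dg 0 r % p * b + acc) = dg 0 r % p * dg i b + dg i acc := fun i hi =>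
      dg_axpy (m := p) (k := k) (by omega) i _ _ (fun l hl => hB b (by simp) l (by omega)) fun l hl => ha l (by omega)
    rw [e, ih _ _ (k + p * p) (fun b' h => hB b' (by simp [h])) (fun i hi => by
      have := Nat.mul_le_mul_left (dg 0 r % p) (hB b (by simp) i hi)
      have := ha i hi
      rw [ax i hi]; omega) (by omega) j hj, ax j hj, List.length_cons, Finset.sum_range_succ']
    simp only [nth_succ, nth_zero, dg]; ring

/-- all digits are small -/
noncomputable def sm (p n : ℕ) : ℕ → Bool :=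
  Nat.rec (motive := fun _ => ℕ → Bool) (fun _ => true)
    (fun _ ih r => band (Nat.ble (Nat.mod r 65536) p) (force (Nat.div r 65536) ih)) n

theorem sm_spec {p : ℕ} : ∀ {n r : ℕ}, sm p n r = true → ∀ i < n, dg i r ≤ p
  | n + 1, r, h, 0, _ => Nat.le_of_ble_eq_true (band_iff.1 h).1
  | n + 1, r, h, i + 1, hi => sm_spec ((force_eq _ _).symm.trans (band_iff.1 h).2) i (by omega)

/-- digits agree modulo `p` -/
noncomputable def veq (p n : ℕ) : ℕ → ℕ → Bool :=
  Nat.rec (motive := fun _ => ℕ → ℕ → Bool) (fun _ _ => true)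
    (fun _ ih x y => band (Nat.beq (Nat.mod (Nat.mod x 65536) p) (Nat.mod (Nat.mod y 65536) p))
      (force (Nat.div x 65536) fun x' => force (Nat.div y 65536) fun y' => ih x' y')) n

theorem veq_spec {p : ℕ} : ∀ {n x y : ℕ}, veq p n x y = true → ∀ i < n, dg i x % p = dg i y % p
  | n + 1, x, y, h, 0, _ => Nat.eq_of_beq_eq_true (band_iff.1 h).1
  | n + 1, x, y, h, i + 1, hi => by
    have h1 : (force (x / 65536) fun x' => force (y / 65536) fun y' => veq p n x' y') = true := (band_iff.1 h).2
    rw [force_eq, force_eq] at h1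
    exact veq_spec h1 i (by omega)

/-- a well-formed matrix -/
noncomputable def ok (p n : ℕ) (B : List ℕ) : Bool := band (Nat.beq B.length n) (lall B (sm p n))

/-- apply a word -/
noncomputable def aw (p : ℕ) (F : ℕ → List ℕ) (w : Word) : ℕ → ℕ :=
  List.rec (motive := fun _ => ℕ → ℕ) (fun r => r) (fun a _ ih r => force (rm p (F (Nat.div a 2)) r 0) ih) w

noncomputable def rowOK (p n : ℕ) (F : ℕ → List ℕ) (w : Word) (i : ℕ) : Bool :=
  force (Nat.pow 65536 i) fun e => force (aw p F w e) fun x => veq p n x e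

noncomputable def relOK (p n : ℕ) (F : ℕ → List ℕ) (w : Word) : Bool := allR n (rowOK p n F w)

def vec (p n r : ℕ) : Fin n → ZMod p := fun j => (dg j r : ℕ)
noncomputable def val (p n : ℕ) (B : List ℕ) : Matrix (Fin n) (Fin n) (ZMod p) := of fun i => vec p n (nth B 0 i)
noncomputable def mev (p n : ℕ) (F : ℕ → List ℕ) (w : Word) : Matrix (Fin n) (Fin n) (ZMod p) :=
  (w.map fun a => val p n (F (a / 2))).prod

variable {p n : ℕ} (hp : 0 < p) (hn : n * (p * p) < 65536)
include hp hn

theorem vec_rm {B : List ℕ} (h : ok p n B = true) (r : ℕ) : vec p n (rm p B r 0) = vec p n r ᵥ* val p n B := by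
  have hl : B.length = n := Nat.eq_of_beq_eq_true (band_iff.1 h).1
  ext j
  have := rm_spec hp B r 0 0 (fun b hb => sm_spec (lall_iff.1 (band_iff.1 h).2 b hb)) (fun i _ => (dg_zero i).le)
    (by rw [hl]; omega) j j.2
  rw [vec, this, dg_zero, zero_add, hl, Finset.sum_range]
  simp [vecMul, dotProduct, val, vec]

variable {F : ℕ → List ℕ} {k : ℕ} (hF : ∀ i < k, ok p n (F i) = true)
include hF

theorem vec_aw (w : Word) (hw : ∀ a ∈ w, a < 2 * k) : ∀ r, vec p n (aw p F w r) = vec p n r ᵥ* mev p n F w := by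
  induction w with
  | nil => intro r; simp [aw, mev]
  | cons a w ih =>
    intro r
    have e : aw p F (a :: w) r = aw p F w (rm p (F (a / 2)) r 0) := force_eq _ _
    rw [e, ih fun b hb => hw b (by simp [hb]), vec_rm hp hn (hF _ (by have := hw a (by simp); omega)), vecMul_vecMul]
    simp [mev]

theorem mev_one {w : Word} (hw : ∀ a ∈ w, a < 2 * k) (h : ∀ i < n, rowOK p n F w i = true) : mev p n F w = 1 := by
  ext i j
  have h1 : veq p n (aw p F w (65536 ^ (i : ℕ))) (65536 ^ (i : ℕ)) = true := by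
    have := h i i.2
    unfold rowOK at this
    rwa [force_eq, force_eq] at this
  have h2 : vec p n (65536 ^ (i : ℕ)) = Pi.single i 1 := by
    ext l; rw [vec, dg_pow, Pi.single_apply]; simp [Fin.ext_iff, eq_comm]
  have h3 : vec p n (aw p F w (65536 ^ (i : ℕ))) j = vec p n (65536 ^ (i : ℕ)) j :=
    (ZMod.natCast_eq_natCast_iff' _ _ p).2 (veq_spec h1 j j.2)
  rw [vec_aw hp hn hF w hw, h2, single_one_vecMul] at h3
  rw [one_apply]
  exact h3.trans (by simp [Pi.single_apply, eq_comm])

theorem exists_gl {rels : List Word} (hw : ∀ w ∈ rels, ∀ a ∈ w, a < 2 * k) (hI : ∀ i < k, [2 * i, 2 * i] ∈ rels)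
    (h : ∀ w ∈ rels, relOK p n F w = true) : ∃ g : ℕ → GL (Fin n) (ZMod p),
      (∀ i < k, (g i : Matrix (Fin n) (Fin n) (ZMod p)) = val p n (F i)) ∧ ∀ w ∈ rels, ev g w = 1 := by
  classical
  have h1 : ∀ w ∈ rels, mev p n F w = 1 := fun w hr => mev_one hp hn hF (hw w hr) fun i hi => allR_spec (h w hr) hi
  have h2 : ∀ i < k, val p n (F i) * val p n (F i) = 1 := fun i hi => by simpa [mev] using h1 _ (hI i hi)
  let g : ℕ → GL (Fin n) (ZMod p) := fun i =>
    if h : val p n (F i) * val p n (F i) = 1 then ⟨val p n (F i), val p n (F i), h, h⟩ else 1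
  have h3 : ∀ a < 2 * k, ((lv g a : GL (Fin n) (ZMod p)) : Matrix (Fin n) (Fin n) (ZMod p)) = val p n (F (a / 2)) :=
    fun a ha => by
      unfold lv
      simp only [g, dif_pos (h2 (a / 2) (by omega))]
      split_ifs <;> rfl
  have h4 : ∀ w : Word, (∀ a ∈ w, a < 2 * k) →
      ((ev g w : GL (Fin n) (ZMod p)) : Matrix (Fin n) (Fin n) (ZMod p)) = mev p n F w := fun w => by
    induction w with
    | nil => intro _; rfl
    | cons a w ih =>
      intro hw
      rw [ev_cons, Units.val_mul, h3 a (hw a (by simp)), ih fun b hb => hw b (by simp [hb])]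
      simp [mev]
  exact ⟨g, fun i hi => by simp only [g, dif_pos (h2 i hi)], fun w hr => Units.ext ((h4 w (hw w hr)).trans (h1 w hr))⟩

end CA.PkM
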