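import Cfsg.Agent.Lib.Fi.Sat24

/-! The presentation certificate: checks in the small contexts, lower bounds, the chain of bounds. -/

set_option Elab.async false
set_option maxRecDepth 100000

namespace CA.Fi
open CA.CNet CA.CWord CA.CLevel CA.H27Pres

theorem low21 : 9196830720 ≤ Nat.card (C21.grp (sing [0,2,3,4,5,6,7,8,12,13])) :=
  (low_chain ok21 _ [[2], [18,14,6,8,12,18], [14,8,18,4,12,6,4,2,4,6,4,12,4,6,8,14], [14,18,4,12,10,8,6,4,2,4,6,8,10,12,4,18,14], [4,12,4,6,4,2,4,6,12,4,6,18], [8,18,4,12,10,8,6,4,2,4,6,8,10,12,4,18,8], [6,8,6], [6], [4]]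
    [(0, [16,0,2,6,2,8,14,2,16,10,2,4,6,16,12,2,14], [[0], [2], [4], [6], [8], [10], [12], [14]]), (1, [14,2,4,6,12,2,14,2,12,6,14,2,12], [[0], [2], [4], [6], [8], [10], [12]]), (4, [12,2,8,10,2,8,10,12], [[0], [2], [4], [6], [8], [10]]), (17, [8,10,2,2,8,10,2,8], [[0], [2], [4], [6]]), (2, [2,4,6,2,6,2], [[0]]), (181, [0], [])] (N := 9196830720) (by decide +kernel))

theorem Pd : Pres Rd [3] 2 := (Pres.nil.perm (l' := []) (by decide +kernel)).central 3 (by decide +kernel)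

theorem satc0 : Sat Cc.g [([6,6], []), ([4], [4]), ([4,4], []), ([4,6,4], [6,4,6])] := sat_of_eqP okc (by decide +kernel)
theorem satc : Sat Cc.g Rc := Sat.sub (satc0) (by decide +kernel)
theorem lowc1 : 1 ≤ Nat.card (C24.grp (lmap Prod.fst rc1.ls)) :=
  (res_le lt23 res23 (by decide +kernel) (res_le lt22 res22 (by decide +kernel) (low_chain ok22 _ []
    [] (N := 1) (by decide +kernel))))
theorem repc1 : Lc.RepOK Cc C24.g rc1 := Lc.repOK_of okc [0] (by decide +kernel) lowc1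
theorem covc : Lc.CovOK Cc cc := Lc.covOK_of okc [(0, 0), (1, 1), (2, 2)] [] (by decide +kernel) (by decide +kernel)
theorem Pc : Pres Rc [2,3] 6 :=
  Pres.step Lc (Pd.perm (by decide +kernel)) okc satc.left satc.right sat24d (by decide +kernel) (all_cons repc1 all_nil) (all_cons covc all_nil) (by decide +kernel)

theorem satb0 : Sat Cb.g [([6,6], []), ([4], [4]), ([4,4], []), ([4,6,4], [6,4,6]), ([6,2], [2,6]), ([2], [2]), ([2,2], []), ([2,4,2], [4,2,4])] := sat_of_eqP okb (by decide +kernel)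
theorem satb : Sat Cb.g Rb := Sat.sub (satb0) (by decide +kernel)
theorem lowb1 : 2 ≤ Nat.card (C24.grp (lmap Prod.fst rb1.ls)) :=
  (res_le lt23 res23 (by decide +kernel) (res_le lt22 res22 (by decide +kernel) (low_chain ok22 _ [[0]]
    [(1, [0], [])] (N := 2) (by decide +kernel))))
theorem repb1 : Lb.RepOK Cb C24.g rb1 := Lb.repOK_of okb [0,2] (by decide +kernel) lowb1
theorem covb : Lb.CovOK Cb cb := Lb.covOK_of okb [(0, 0), (1, 1), (2, 2)] [0] (by decide +kernel) (by decide +kernel)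
theorem Pb : Pres Rb [1,2,3] 24 :=
  Pres.step Lb (Pc.perm (by decide +kernel)) okb satb.left satb.right sat24c (by decide +kernel) (all_cons repb1 all_nil) (all_cons covb all_nil) (by decide +kernel)

theorem sate0 : Sat Ce.g [([6,6], []), ([4], [4]), ([4,4], []), ([4,6,4], [6,4,6]), ([6,2], [2,6]), ([2], [2]), ([2,2], []), ([2,4,2], [4,2,4]), ([2,8], [8,2]), ([4,8], [8,4]), ([8], [8]), ([8,8], []), ([8,6,8], [6,8,6])] := sat_of_eqP oke (by decide +kernel)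
theorem sate : Sat Ce.g Re := Sat.sub (sate0) (by decide +kernel)
theorem lowe1 : 6 ≤ Nat.card (C24.grp (lmap Prod.fst re1.ls)) :=
  (res_le lt23 res23 (by decide +kernel) (res_le lt22 res22 (by decide +kernel) (low_chain ok22 _ [[2,0], [2]]
    [(198, [0,2,0], [])] (N := 6) (by decide +kernel))))
theorem repe1 : Le.RepOK Ce C24.g re1 := Le.repOK_of oke [4,2,0] (by decide +kernel) lowe1
theorem cove : Le.CovOK Ce ce := Le.covOK_of oke [(0, 0), (1, 1), (2, 2)] [2,0] (by decide +kernel) (by decide +kernel)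
theorem Pe : Pres Re [4,1,2,3] 120 :=
  Pres.step Le (Pb.perm (by decide +kernel)) oke sate.left sate.right sat24b (by decide +kernel) (all_cons repe1 all_nil) (all_cons cove all_nil) (by decide +kernel)

theorem sath0 : Sat Ch.g [([6,6], []), ([4], [4]), ([4,4], []), ([4,6,4], [6,4,6]), ([6,2], [2,6]), ([2], [2]), ([2,2], []), ([2,4,2], [4,2,4]), ([2,8], [8,2]), ([4,8], [8,4]), ([8], [8]), ([8,8], []), ([8,6,8], [6,8,6]), ([2,14], [14,2]), ([4,14], [14,4]), ([8,14], [14,8]), ([4,14,6,4,8,6,14], [14,6,4,8,6,14,8]), ([6,14,6,4,8,6,14], [14,6,4,8,6,14,6]), ([8,14,6,4,8,6,14], [14,6,4,8,6,14,4]), ([14], [14]), ([14,14], []), ([14,6,14], [6,14,6]), ([14,6,4,8,6,14], [14,6,4,8,6,14]), ([14,14,6,4,8,6,14], [6,4,8,6,14]), ([14,6,4,2,14,6,4,8,6,14], [6,4,2,14,6,4,8,6,14,2])] := sat_of_eqP okh (by decide +kernel)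
theorem sath : Sat Ch.g Rh := Sat.sub (sath0) (by decide +kernel)
theorem lowh2 : 24 ≤ Nat.card (C24.grp (lmap Prod.fst rh2.ls)) :=
  (res_le lt23 res23 (by decide +kernel) (res_le lt22 res22 (by decide +kernel) (low_chain ok22 _ [[0,2], [4]]
    [(330, [0,2,0,2,0,0,2,0], [])] (N := 24) (by decide +kernel))))
theorem reph2 : Lh.RepOK Ch C24.g rh2 := Lh.repOK_of okh [0,2,4,6] (by decide +kernel) lowh2
theorem lowh1 : 12 ≤ Nat.card (C24.grp (lmap Prod.fst rh1.ls)) :=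
  (res_le lt23 res23 (by decide +kernel) (res_le lt22 res22 (by decide +kernel) (low_chain ok22 _ [[2,0], [2], [4]]
    [(198, [0,2,4,0], [])] (N := 12) (by decide +kernel))))
theorem reph1 : Lh.RepOK Ch C24.g rh1 := Lh.repOK_of okh [4,2,6,0,4,2] (by decide +kernel) lowh1
theorem covh : Lh.CovOK Ch ch := Lh.covOK_of okh [(0, 0), (1, 1), (2, 2), (3, 8), (4, 9), (5, 14)] [4,2,0,2] (by decide +kernel) (by decide +kernel)
theorem Ph : Pres Rh [7,1,2,3,4] 1920 :=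
  Pres.step Lh (Pe.perm (by decide +kernel)) okh sath.left sath.right sat24e (by decide +kernel) (all_cons reph1 (all_cons reph2 all_nil)) (all_cons covh all_nil) (by decide +kernel)

theorem satf0 : Sat Cf.g [([6,6], []), ([4], [4]), ([4,4], []), ([4,6,4], [6,4,6]), ([6,2], [2,6]), ([2], [2]), ([2,2], []), ([2,4,2], [4,2,4]), ([2,8], [8,2]), ([4,8], [8,4]), ([8], [8]), ([8,8], []), ([8,6,8], [6,8,6]), ([2,14], [14,2]), ([4,14], [14,4]), ([8,14], [14,8]), ([4,14,6,4,8,6,14], [14,6,4,8,6,14,8]), ([6,14,6,4,8,6,14], [14,6,4,8,6,14,6]), ([8,14,6,4,8,6,14], [14,6,4,8,6,14,4]), ([14], [14]), ([14,14], []), ([14,6,14], [6,14,6]), ([14,6,4,8,6,14], [14,6,4,8,6,14]), ([14,14,6,4,8,6,14], [6,4,8,6,14]), ([14,6,4,2,14,6,4,8,6,14], [6,4,2,14,6,4,8,6,14,2]), ([2,10], [10,2]), ([4,10], [10,4]), ([6,10], [10,6]), ([14,10], [10,14]), ([4,10,8,6,4,14,6,8,10], [10,8,6,4,14,6,8,10,14]),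 ([6,10,8,6,4,14,6,8,10], [10,8,6,4,14,6,8,10,6]), ([8,10,8,6,4,14,6,8,10], [10,8,6,4,14,6,8,10,8]), ([14,10,8,6,4,14,6,8,10], [10,8,6,4,14,6,8,10,4]), ([10], [10]), ([10,10], []), ([10,8,10], [8,10,8]), ([10,8,6,4,14,6,8,10], [10,8,6,4,14,6,8,10]), ([10,10,8,6,4,14,6,8,10], [8,6,4,14,6,8,10]), ([10,8,6,4,2,10,8,6,4,14,6,8,10], [8,6,4,2,10,8,6,4,14,6,8,10,2])] := sat_of_eqP okf (by decide +kernel)
theorem satf : Sat Cf.g Rf := Sat.sub (satf0) (by decide +kernel)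
theorem lowf2 : 192 ≤ Nat.card (C24.grp (lmap Prod.fst rf2.ls)) :=
  (res_le lt23 res23 (by decide +kernel) (res_le lt22 res22 (by decide +kernel) (low_chain ok22 _ [[0], [2,6,4,2,0,2,4,6,2], [4,2]]
    [(34, [4,0,2,4,0,2,4,0,4], [[0], [2]]), (182, [0,2], [])] (N := 192) (by decide +kernel))))
theorem repf2 : Lf.RepOK Cf C24.g rf2 := Lf.repOK_of okf [0,2,4,6,8,4,2,0] (by decide +kernel) lowf2
theorem lowf1 : 120 ≤ Nat.card (C24.grp (lmap Prod.fst rf1.ls)) :=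
  (res_le lt23 res23 (by decide +kernel) (res_le lt22 res22 (by decide +kernel) (low_chain ok22 _ [[2], [6,4], [0]]
    [(35, [2,4,0,2,0,4,2,0,2,0], [[0]]), (182, [0], [])] (N := 120) (by decide +kernel))))
theorem repf1 : Lf.RepOK Cf C24.g rf1 := Lf.repOK_of okf [6,4,2,8,0,4,6,2,4,8] (by decide +kernel) lowf1
theorem covf : Lf.CovOK Cf cf := Lf.covOK_of okf [(0, 0), (1, 1), (2, 2), (3, 10), (4, 15), (5, 21)] [6,0,2,4,6,2,0,4,2] (by decide +kernel) (by decide +kernel)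
theorem Pf : Pres Rf [5,1,2,3,4,7] 51840 :=
  Pres.step Lf (Ph.perm (by decide +kernel)) okf satf.left satf.right sat24h (by decide +kernel) (all_cons repf1 (all_cons repf2 all_nil)) (all_cons covf all_nil) (by decide +kernel)

theorem sati0 : Sat Ci.g [([6,6], []), ([4], [4]), ([4,4], []), ([4,6,4], [6,4,6]), ([6,2], [2,6]), ([2], [2]), ([2,2], []), ([2,4,2], [4,2,4]), ([2,8], [8,2]), ([4,8], [8,4]), ([8], [8]), ([8,8], []), ([8,6,8], [6,8,6]), ([2,14], [14,2]), ([4,14], [14,4]), ([8,14], [14,8]), ([4,14,6,4,8,6,14], [14,6,4,8,6,14,8]), ([6,14,6,4,8,6,14], [14,6,4,8,6,14,6]), ([8,14,6,4,8,6,14], [14,6,4,8,6,14,4]), ([14], [14]), ([14,14], []), ([14,6,14], [6,14,6]), ([14,6,4,8,6,14], [14,6,4,8,6,14]), ([14,14,6,4,8,6,14], [6,4,8,6,14]), ([14,6,4,2,14,6,4,8,6,14], [6,4,2,14,6,4,8,6,14,2]), ([2,10], [10,2]), ([4,10], [10,4]), ([6,10], [10,6]), ([14,10], [10,14]),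 ([4,10,8,6,4,14,6,8,10], [10,8,6,4,14,6,8,10,14]), ([6,10,8,6,4,14,6,8,10], [10,8,6,4,14,6,8,10,6]), ([8,10,8,6,4,14,6,8,10], [10,8,6,4,14,6,8,10,8]), ([14,10,8,6,4,14,6,8,10], [10,8,6,4,14,6,8,10,4]), ([10], [10]), ([10,10], []), ([10,8,10], [8,10,8]), ([10,8,6,4,14,6,8,10], [10,8,6,4,14,6,8,10]), ([10,10,8,6,4,14,6,8,10], [8,6,4,14,6,8,10]), ([10,8,6,4,2,10,8,6,4,14,6,8,10], [8,6,4,2,10,8,6,4,14,6,8,10,2]), ([2,16], [16,2]), ([4,16], [16,4]), ([6,16], [16,6]), ([8,16], [16,8]), ([10,16], [16,10]), ([6,2,16,14,6,4,8,6,14,16], [2,16,14,6,4,8,6,14,16,6]), ([8,2,16,14,6,4,8,6,14,16], [2,16,14,6,4,8,6,14,16,4]), ([14,2,16,14,6,4,8,6,14,16], [2,16,14,6,4,8,6,14,16,14]), ([4,6,14,8,10,6,8,4,6,4,2,4,14,6,8,10,2,16,14,6,4,8,6,14,16], [2,16,14,6,4,8,6,14,16,10,8,6,4,14,6,8,10,2,4,6,14,8,6,4,2]), ([4,6,4,14,16,14,6,4,2,8,10,14,6,4,8,6,14,16], [6,4,14,16,14,6,4,2,8,10,14,6,4,8,6,14,16,14]),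 ([10,6,4,14,16,14,6,4,2,8,10,14,6,4,8,6,14,16], [6,4,14,16,14,6,4,2,8,10,14,6,4,8,6,14,16,4]), ([14,6,4,14,16,14,6,4,2,8,10,14,6,4,8,6,14,16], [6,4,14,16,14,6,4,2,8,10,14,6,4,8,6,14,16,10]), ([6,8,10,4,6,4,2,8,6,4,14,16,14,6,4,2,8,10,14,6,4,8,6,14,16], [6,4,14,16,14,6,4,2,8,10,14,6,4,8,6,14,16,10,8,6,4,14,6,8,10,2,4,6,14,8,6,4,2]), ([16], [16]), ([16,16], []), ([16,14,16], [14,16,14]), ([16,14,6,4,8,6,14,16], [2,2,16,14,6,4,8,6,14,16]), ([16,2,2,16,14,6,4,8,6,14,16], [14,6,4,8,6,14,16]), ([16,14,6,4,2,8,10,14,6,4,8,6,14,16], [4,14,6,6,4,14,16,14,6,4,2,8,10,14,6,4,8,6,14,16]), ([16,14,6,4,2,16,14,6,4,8,6,14,16], [14,6,4,2,16,14,6,4,8,6,14,16,2]), ([16,4,14,6,6,4,14,16,14,6,4,2,8,10,14,6,4,8,6,14,16], [14,6,4,2,8,10,14,6,4,8,6,14,16]), ([16,14,6,4,8,10,2,16,14,6,4,8,6,14,16], [4,6,6,4,14,16,14,6,4,2,8,10,14,6,4,8,6,14,16]), ([16,4,6,6,4,14,16,14,6,4,2,8,10,14,6,4,8,6,14,16],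 [14,6,4,8,10,2,16,14,6,4,8,6,14,16]), ([16,14,6,8,6,4,14,16,14,6,4,2,8,10,14,6,4,8,6,14,16], [14,6,8,6,4,14,16,14,6,4,2,8,10,14,6,4,8,6,14,16,6]), ([16,14,6,4,2,8,6,4,10,8,14,6,4,2,8,10,14,6,4,8,6,14,16], [14,6,4,2,8,6,4,10,8,14,6,4,2,8,10,14,6,4,8,6,14,16,14,6,4,2,8,6,4,14,6,8,10,8,6,4,2,14,6,4,8,6,14])] := sat_of_eqP oki (by decide +kernel)
theorem sati : Sat Ci.g Ri := Sat.sub (sati0) (by decide +kernel)
theorem lowi3 : 648 ≤ Nat.card (C24.grp (lmap Prod.fst ri3.ls)) :=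
  (res_le lt23 res23 (by decide +kernel) (res_le lt22 res22 (by decide +kernel) (low_chain ok22 _ [[0], [7,4,6], [6,4,7], [4,2], [7]]
    [(35, [6,8,4,6,8,8,6,4,2], [[0], [2], [4]]), (182, [0,2,4,0], [])] (N := 648) (by decide +kernel))))
theorem repi3 : Li.RepOK Ci C24.g ri3 := Li.repOK_of oki [6,0,2,4,10,2,6,8,4,2,6,4] (by decide +kernel) lowi3
theorem lowi2 : 576 ≤ Nat.card (C24.grp (lmap Prod.fst ri2.ls)) :=
  (res_le lt23 res23 (by decide +kernel) (res_le lt22 res22 (by decide +kernel) (low_chain ok22 _ [[2,0], [4], [6]]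
    [(0, [4,2,4,0,4,0,2,4,0,2,4,4], [[0], [2]]), (34, [0,2,0,2,0,0,2,0], [])] (N := 576) (by decide +kernel))))
theorem repi2 : Li.RepOK Ci C24.g ri2 := Li.repOK_of oki [2,8,6,4,10,6,2,0,2,4,2,6,8] (by decide +kernel) lowi2
theorem lowi1 : 720 ≤ Nat.card (C24.grp (lmap Prod.fst ri1.ls)) :=
  (res_le lt23 res23 (by decide +kernel) (res_le lt22 res22 (by decide +kernel) (low_chain ok22 _ [[2,0], [2], [6,8,6], [4], [6]]
    [(4, [6,8,4,0,6,0,4,0,6,2], [[0], [2], [4]]), (198, [0,2,4,0], [])] (N := 720) (by decide +kernel))))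
theorem repi1 : Li.RepOK Ci C24.g ri1 := Li.repOK_of oki [10,4,2,6,0,8,4,10,2,6,4,2,6,10,0,8,4,2,6,4,10] (by decide +kernel) lowi1
theorem covi : Li.CovOK Ci ci := Li.covOK_of oki [(0, 0), (1, 1), (2, 2), (3, 12), (4, 30), (5, 61), (6, 49), (7, 94), (8, 82), (9, 98), (10, 196), (11, 232)] [6,2,8,4,6,2,0,2,4,2,6,8,0,6,4] (by decide +kernel) (by decide +kernel)
theorem Pi : Pres Ri [8,1,2,3,4,5,7] 12597120 :=
  Pres.step Li (Pf.perm (by decide +kernel)) oki sati.left sati.right sat24f (by decide +kernel) (all_cons repi1 (all_cons repi2 (all_cons repi3 all_nil))) (all_cons covi all_nil) (by decide +kernel)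

theorem Pl : Pres Rl [11,1,2,3,4,5,7,8] 25194240 := (Pi.perm (l' := [1,2,3,4,5,7,8]) (by decide +kernel)).central 11 (by decide +kernel)

theorem sata0 : Sat Ca.g [([6,6], []), ([4], [4]), ([4,4], []), ([4,6,4], [6,4,6]), ([6,2], [2,6]), ([2], [2]), ([2,2], []), ([2,4,2], [4,2,4]), ([2,8], [8,2]), ([4,8], [8,4]), ([8], [8]), ([8,8], []), ([8,6,8], [6,8,6]), ([2,14], [14,2]), ([4,14], [14,4]), ([8,14], [14,8]), ([4,14,6,4,8,6,14], [14,6,4,8,6,14,8]), ([6,14,6,4,8,6,14], [14,6,4,8,6,14,6]), ([8,14,6,4,8,6,14], [14,6,4,8,6,14,4]), ([14], [14]), ([14,14], []), ([14,6,14], [6,14,6]), ([14,6,4,8,6,14], [14,6,4,8,6,14]), ([14,14,6,4,8,6,14], [6,4,8,6,14]), ([14,6,4,2,14,6,4,8,6,14], [6,4,2,14,6,4,8,6,14,2]), ([2,10], [10,2]), ([4,10], [10,4]), ([6,10], [10,6]), ([14,10], [10,14]), ([4,10,8,6,4,14,6,8,10], [10,8,6,4,14,6,8,10,14]), ([6,10,8,6,4,14,6,8,10], [10,8,6,4,14,6,8,10,6]),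 ([8,10,8,6,4,14,6,8,10], [10,8,6,4,14,6,8,10,8]), ([14,10,8,6,4,14,6,8,10], [10,8,6,4,14,6,8,10,4]), ([10], [10]), ([10,10], []), ([10,8,10], [8,10,8]), ([10,8,6,4,14,6,8,10], [10,8,6,4,14,6,8,10]), ([10,10,8,6,4,14,6,8,10], [8,6,4,14,6,8,10]), ([10,8,6,4,2,10,8,6,4,14,6,8,10], [8,6,4,2,10,8,6,4,14,6,8,10,2]), ([2,16], [16,2]), ([4,16], [16,4]), ([6,16], [16,6]), ([8,16], [16,8]), ([10,16], [16,10]), ([6,2,16,14,6,4,8,6,14,16], [2,16,14,6,4,8,6,14,16,6]), ([8,2,16,14,6,4,8,6,14,16], [2,16,14,6,4,8,6,14,16,4]), ([14,2,16,14,6,4,8,6,14,16], [2,16,14,6,4,8,6,14,16,14]), ([4,6,14,8,10,6,8,4,6,4,2,4,14,6,8,10,2,16,14,6,4,8,6,14,16], [2,16,14,6,4,8,6,14,16,10,8,6,4,14,6,8,10,2,4,6,14,8,6,4,2]), ([4,6,4,14,16,14,6,4,2,8,10,14,6,4,8,6,14,16], [6,4,14,16,14,6,4,2,8,10,14,6,4,8,6,14,16,14]), ([10,6,4,14,16,14,6,4,2,8,10,14,6,4,8,6,14,16], [6,4,14,16,14,6,4,2,8,10,14,6,4,8,6,14,16,4]),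 ([14,6,4,14,16,14,6,4,2,8,10,14,6,4,8,6,14,16], [6,4,14,16,14,6,4,2,8,10,14,6,4,8,6,14,16,10]), ([6,8,10,4,6,4,2,8,6,4,14,16,14,6,4,2,8,10,14,6,4,8,6,14,16], [6,4,14,16,14,6,4,2,8,10,14,6,4,8,6,14,16,10,8,6,4,14,6,8,10,2,4,6,14,8,6,4,2]), ([16], [16]), ([16,16], []), ([16,14,16], [14,16,14]), ([16,14,6,4,8,6,14,16], [2,2,16,14,6,4,8,6,14,16]), ([16,2,2,16,14,6,4,8,6,14,16], [14,6,4,8,6,14,16]), ([16,14,6,4,2,8,10,14,6,4,8,6,14,16], [4,14,6,6,4,14,16,14,6,4,2,8,10,14,6,4,8,6,14,16]), ([16,14,6,4,2,16,14,6,4,8,6,14,16], [14,6,4,2,16,14,6,4,8,6,14,16,2]), ([16,4,14,6,6,4,14,16,14,6,4,2,8,10,14,6,4,8,6,14,16], [14,6,4,2,8,10,14,6,4,8,6,14,16]), ([16,14,6,4,8,10,2,16,14,6,4,8,6,14,16], [4,6,6,4,14,16,14,6,4,2,8,10,14,6,4,8,6,14,16]), ([16,4,6,6,4,14,16,14,6,4,2,8,10,14,6,4,8,6,14,16], [14,6,4,8,10,2,16,14,6,4,8,6,14,16]), ([16,14,6,8,6,4,14,16,14,6,4,2,8,10,14,6,4,8,6,14,16],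 [14,6,8,6,4,14,16,14,6,4,2,8,10,14,6,4,8,6,14,16,6]), ([16,14,6,4,2,8,6,4,10,8,14,6,4,2,8,10,14,6,4,8,6,14,16], [14,6,4,2,8,6,4,10,8,14,6,4,2,8,10,14,6,4,8,6,14,16,14,6,4,2,8,6,4,14,6,8,10,8,6,4,2,14,6,4,8,6,14]), ([22,22], []), ([22,2], [2,22]), ([22,4], [4,22]), ([22,6], [6,22]), ([22,8], [8,22]), ([22,10], [10,22]), ([22,14], [14,22]), ([22,16], [16,22]), ([4,0], [0,4]), ([6,0], [0,6]), ([8,0], [0,8]), ([10,0], [0,10]), ([14,0], [0,14]), ([16,0], [0,16]), ([22,0], [0,22]), ([2,0,2,4,6,8,10,8,6,4,14,6,8,16,14,6,4,2,0], [0,2,4,6,8,10,8,6,4,14,6,8,16,14,6,4,2,0,2]), ([6,0,2,4,6,8,10,8,6,4,14,6,8,16,14,6,4,2,0], [0,2,4,6,8,10,8,6,4,14,6,8,16,14,6,4,2,0,16]), ([8,0,2,4,6,8,10,8,6,4,14,6,8,16,14,6,4,2,0], [0,2,4,6,8,10,8,6,4,14,6,8,16,14,6,4,2,0,14]), ([16,0,2,4,6,8,10,8,6,4,14,6,8,16,14,6,4,2,0], [0,2,4,6,8,10,8,6,4,14,6,8,16,14,6,4,2,0,8]), ([22,0,2,4,6,8,10,8,6,4,14,6,8,16,14,6,4,2,0],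 [0,2,4,6,8,10,8,6,4,14,6,8,16,14,6,4,2,0,22]), ([10,4,6,2,4,0,2,4,6,8,10,8,6,4,14,6,8,16,14,6,4,2,0], [0,2,4,6,8,10,8,6,4,14,6,8,16,14,6,4,2,0,2,4,6,8,14,6,4,2,16,14,6,4,8,6,14,16,8,6,4,2,14,6,4,8,6,14,2,4,6,8,6,4,2,6,4,6,22]), ([14,16,10,8,4,6,8,14,6,4,0,2,4,6,8,10,8,6,4,14,6,8,16,14,6,4,2,0], [0,2,4,6,8,10,8,6,4,14,6,8,16,14,6,4,2,0,16,14,6,4,8,6,14,16,10,8,6,4,14,6,8,10]), ([0], [0]), ([0,0], []), ([0,2,0], [2,0,2]), ([0,2,4,6,8,14,6,4,2,0], [10,8,6,4,2,14,6,4,8,6,10,8,14,6,4,2,0,2,4,6,8,10,14,6,4,2,8,6,4,14,6,8,10,8,6,4,2,14,6,4,8,6,14,2,4,6,8,6,4,2,6,4,6,22]), ([0,2,4,6,4,8,10,14,6,8,16,14,6,4,2,0], [8,10,0,2,4,6,8,10,8,6,4,14,6,8,16,14,6,4,2,0]), ([0,8,10,0,2,4,6,8,10,8,6,4,14,6,8,16,14,6,4,2,0], [2,4,6,4,8,10,14,6,8,16,14,6,4,2,0]), ([0,2,4,6,14,0,2,4,6,8,10,8,6,4,14,6,8,16,14,6,4,2,0], [2,4,6,14,0,2,4,6,8,10,8,6,4,14,6,8,16,14,6,4,2,0,6])] := sat_of_eqP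 oka (by decide +kernel)
theorem sata : Sat Ca.g Ra := Sat.sub (sata0) (by decide +kernel)
theorem lowa2 : 209952 ≤ Nat.card (C24.grp (lmap Prod.fst ra2.ls)) :=
  (res_two lt23 res23 (by decide +kernel) [8] (Ctx.eq_of_eqW ok23 (v := []) (by decide +kernel)) (ne_one_of_maps ok24 306428 (by decide +kernel))
    (res_le lt22 res22 (by decide +kernel) (low_chain ok22 _ [[2], [4,6], [12,2,13], [13,2,12], [10,2,12,0], [0], [10]]
    [(132, [10,12,8,2,12,4,8,12], [[0], [2], [4], [6], [8]]), (0, [8,0,4,2,8,0,4,8,2,0,8], [[0], [2], [4], [6]]), (6, [2,4,6,0,2,4,0,2], [[0]]), (1, [0], [])] (N := 104976) (by decide +kernel))) (N := 209952) (by decide +kernel))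
theorem repa2 : La.RepOK Ca C24.g ra2 := La.repOK_of oka [2,10,8,6,4,6,2,10,12,0,10,4,2,6,4] (by decide +kernel) lowa2
theorem lowa1 : 103680 ≤ Nat.card (C24.grp (lmap Prod.fst ra1.ls)) :=
  (res_two lt23 res23 (by decide +kernel) [12] (Ctx.eq_of_eqW ok23 (v := []) (by decide +kernel)) (ne_one_of_maps ok24 306428 (by decide +kernel))
    (res_le lt22 res22 (by decide +kernel) (low_chain ok22 _ [[4,6], [4], [2,8,4,2,0,2,4,8,2], [10], [8], [0], [2]]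
    [(1, [12,0,8,10,0,6,12,4,0,0], [[0], [2], [4], [6], [8], [10]]), (254, [6,8,10,4,6,0,4,0,2,0], [[0], [2], [4]]), (214, [0,2,4,0,0,4], [])] (N := 51840) (by decide +kernel))) (N := 103680) (by decide +kernel))
theorem repa1 : La.RepOK Ca C24.g ra1 := La.repOK_of oka [0,2,4,6,10,8,12,4,2,6,10,0,4,2,6,10,8,12,4,6,0,10,2,4,2,6,8] (by decide +kernel) lowa1
theorem cova : La.CovOK Ca ca := La.covOK_of oka [(0, 0), (1, 1), (2, 4), (3, 2), (4, 180), (5, 188), (6, 80)] [0,4,8,2,10,8,4,0,6,4,2,0,4,8,10,8,2,4,8,6,0,10,2,4,8,2,0] (by decide +kernel) (by decide +kernel)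
theorem Pa : Pres Ra [0,1,2,3,4,5,7,8,11] 9170703360 :=
  Pres.step La (Pl.perm (by decide +kernel)) oka sata.left sata.right sat24l (by decide +kernel) (all_cons repa1 (all_cons repa2 all_nil)) (all_cons cova all_nil) (by decide +kernel)

theorem Pn : Pres Rn [13,0,1,2,3,4,5,7,8,11] 9170703360 := Pa.add 13 _ (by decide +kernel)

theorem Pm : Pres Rm [12,0,1,2,3,4,5,7,8,11,13] 18341406720 := (Pn.perm (l' := [0,1,2,3,4,5,7,8,11,13]) (by decide +kernel)).central 12 (by decide +kernel)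

theorem satg0 : Sat Cg.g [([6,6], []), ([4], [4]), ([4,4], []), ([4,6,4], [6,4,6]), ([6,2], [2,6]), ([2], [2]), ([2,2], []), ([2,4,2], [4,2,4]), ([2,8], [8,2]), ([4,8], [8,4]), ([8], [8]), ([8,8], []), ([8,6,8], [6,8,6]), ([2,14], [14,2]), ([4,14], [14,4]), ([8,14], [14,8]), ([4,14,6,4,8,6,14], [14,6,4,8,6,14,8]), ([6,14,6,4,8,6,14], [14,6,4,8,6,14,6]), ([8,14,6,4,8,6,14], [14,6,4,8,6,14,4]), ([14], [14]), ([14,14], []), ([14,6,14], [6,14,6]), ([14,6,4,8,6,14], [14,6,4,8,6,14]), ([14,14,6,4,8,6,14], [6,4,8,6,14]), ([14,6,4,2,14,6,4,8,6,14], [6,4,2,14,6,4,8,6,14,2]), ([2,10], [10,2])] := sat_of_eqP okg (by decide +kernel)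
theorem satg1 : Sat Cg.g [([4,10], [10,4]), ([6,10], [10,6]), ([14,10], [10,14]), ([4,10,8,6,4,14,6,8,10], [10,8,6,4,14,6,8,10,14]), ([6,10,8,6,4,14,6,8,10], [10,8,6,4,14,6,8,10,6]), ([8,10,8,6,4,14,6,8,10], [10,8,6,4,14,6,8,10,8]), ([14,10,8,6,4,14,6,8,10], [10,8,6,4,14,6,8,10,4]), ([10], [10]), ([10,10], []), ([10,8,10], [8,10,8]), ([10,8,6,4,14,6,8,10], [10,8,6,4,14,6,8,10]), ([10,10,8,6,4,14,6,8,10], [8,6,4,14,6,8,10])] := sat_of_eqP okg (by decide +kernel)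
theorem satg2 : Sat Cg.g [([10,8,6,4,2,10,8,6,4,14,6,8,10], [8,6,4,2,10,8,6,4,14,6,8,10,2]), ([2,16], [16,2]), ([4,16], [16,4]), ([6,16], [16,6]), ([8,16], [16,8]), ([10,16], [16,10]), ([6,2,16,14,6,4,8,6,14,16], [2,16,14,6,4,8,6,14,16,6]), ([8,2,16,14,6,4,8,6,14,16], [2,16,14,6,4,8,6,14,16,4]), ([14,2,16,14,6,4,8,6,14,16], [2,16,14,6,4,8,6,14,16,14])] := sat_of_eqP okg (by decide +kernel)
theorem satg3 : Sat Cg.g [([4,6,14,8,10,6,8,4,6,4,2,4,14,6,8,10,2,16,14,6,4,8,6,14,16], [2,16,14,6,4,8,6,14,16,10,8,6,4,14,6,8,10,2,4,6,14,8,6,4,2]), ([4,6,4,14,16,14,6,4,2,8,10,14,6,4,8,6,14,16], [6,4,14,16,14,6,4,2,8,10,14,6,4,8,6,14,16,14]), ([10,6,4,14,16,14,6,4,2,8,10,14,6,4,8,6,14,16], [6,4,14,16,14,6,4,2,8,10,14,6,4,8,6,14,16,4])] := sat_of_eqP okg (by decide +kernel)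
theorem satg4 : Sat Cg.g [([14,6,4,14,16,14,6,4,2,8,10,14,6,4,8,6,14,16], [6,4,14,16,14,6,4,2,8,10,14,6,4,8,6,14,16,10]), ([6,8,10,4,6,4,2,8,6,4,14,16,14,6,4,2,8,10,14,6,4,8,6,14,16], [6,4,14,16,14,6,4,2,8,10,14,6,4,8,6,14,16,10,8,6,4,14,6,8,10,2,4,6,14,8,6,4,2]), ([16], [16]), ([16,16], []), ([16,14,16], [14,16,14]), ([16,14,6,4,8,6,14,16], [2,2,16,14,6,4,8,6,14,16])] := sat_of_eqP okg (by decide +kernel)
theorem satg5 : Sat Cg.g [([16,2,2,16,14,6,4,8,6,14,16], [14,6,4,8,6,14,16]), ([16,14,6,4,2,8,10,14,6,4,8,6,14,16], [4,14,6,6,4,14,16,14,6,4,2,8,10,14,6,4,8,6,14,16]), ([16,14,6,4,2,16,14,6,4,8,6,14,16], [14,6,4,2,16,14,6,4,8,6,14,16,2]), ([16,4,14,6,6,4,14,16,14,6,4,2,8,10,14,6,4,8,6,14,16], [14,6,4,2,8,10,14,6,4,8,6,14,16])] := sat_of_eqP okg (by decide +kernel)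
theorem satg6 : Sat Cg.g [([16,14,6,4,8,10,2,16,14,6,4,8,6,14,16], [4,6,6,4,14,16,14,6,4,2,8,10,14,6,4,8,6,14,16]), ([16,4,6,6,4,14,16,14,6,4,2,8,10,14,6,4,8,6,14,16], [14,6,4,8,10,2,16,14,6,4,8,6,14,16]), ([16,14,6,8,6,4,14,16,14,6,4,2,8,10,14,6,4,8,6,14,16], [14,6,8,6,4,14,16,14,6,4,2,8,10,14,6,4,8,6,14,16,6])] := sat_of_eqP okg (by decide +kernel)
theorem satg7 : Sat Cg.g [([16,14,6,4,2,8,6,4,10,8,14,6,4,2,8,10,14,6,4,8,6,14,16], [14,6,4,2,8,6,4,10,8,14,6,4,2,8,10,14,6,4,8,6,14,16,14,6,4,2,8,6,4,14,6,8,10,8,6,4,2,14,6,4,8,6,14]), ([22,22], []), ([22,2], [2,22]), ([22,4], [4,22]), ([22,6], [6,22]), ([22,8], [8,22]), ([22,10], [10,22]), ([22,14], [14,22]), ([22,16], [16,22]), ([4,0], [0,4]), ([6,0], [0,6]), ([8,0], [0,8]), ([10,0], [0,10]), ([14,0], [0,14]), ([16,0], [0,16]), ([22,0], [0,22])] := sat_of_eqP okg (by decide +kernel)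
theorem satg8 : Sat Cg.g [([2,0,2,4,6,8,10,8,6,4,14,6,8,16,14,6,4,2,0], [0,2,4,6,8,10,8,6,4,14,6,8,16,14,6,4,2,0,2]), ([6,0,2,4,6,8,10,8,6,4,14,6,8,16,14,6,4,2,0], [0,2,4,6,8,10,8,6,4,14,6,8,16,14,6,4,2,0,16]), ([8,0,2,4,6,8,10,8,6,4,14,6,8,16,14,6,4,2,0], [0,2,4,6,8,10,8,6,4,14,6,8,16,14,6,4,2,0,14])] := sat_of_eqP okg (by decide +kernel)
theorem satg9 : Sat Cg.g [([16,0,2,4,6,8,10,8,6,4,14,6,8,16,14,6,4,2,0], [0,2,4,6,8,10,8,6,4,14,6,8,16,14,6,4,2,0,8]), ([22,0,2,4,6,8,10,8,6,4,14,6,8,16,14,6,4,2,0], [0,2,4,6,8,10,8,6,4,14,6,8,16,14,6,4,2,0,22])] := sat_of_eqP okg (by decide +kernel)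
theorem satg10 : Sat Cg.g [([10,4,6,2,4,0,2,4,6,8,10,8,6,4,14,6,8,16,14,6,4,2,0], [0,2,4,6,8,10,8,6,4,14,6,8,16,14,6,4,2,0,2,4,6,8,14,6,4,2,16,14,6,4,8,6,14,16,8,6,4,2,14,6,4,8,6,14,2,4,6,8,6,4,2,6,4,6,22])] := sat_of_eqP okg (by decide +kernel)
theorem satg11 : Sat Cg.g [([14,16,10,8,4,6,8,14,6,4,0,2,4,6,8,10,8,6,4,14,6,8,16,14,6,4,2,0], [0,2,4,6,8,10,8,6,4,14,6,8,16,14,6,4,2,0,16,14,6,4,8,6,14,16,10,8,6,4,14,6,8,10]), ([0], [0]), ([0,0], []), ([0,2,0], [2,0,2]), ([0,2,4,6,8,14,6,4,2,0], [10,8,6,4,2,14,6,4,8,6,10,8,14,6,4,2,0,2,4,6,8,10,14,6,4,2,8,6,4,14,6,8,10,8,6,4,2,14,6,4,8,6,14,2,4,6,8,6,4,2,6,4,6,22])] := sat_of_eqP okg (by decide +kernel)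
theorem satg12 : Sat Cg.g [([0,2,4,6,4,8,10,14,6,8,16,14,6,4,2,0], [8,10,0,2,4,6,8,10,8,6,4,14,6,8,16,14,6,4,2,0]), ([0,8,10,0,2,4,6,8,10,8,6,4,14,6,8,16,14,6,4,2,0], [2,4,6,4,8,10,14,6,8,16,14,6,4,2,0]), ([0,2,4,6,14,0,2,4,6,8,10,8,6,4,14,6,8,16,14,6,4,2,0], [2,4,6,14,0,2,4,6,8,10,8,6,4,14,6,8,16,14,6,4,2,0,6]), ([26], [2,4,6,8,14,6,4,2,0,2,4,6,14,8,6,4,2]), ([24,24], []), ([24,0], [0,24])] := sat_of_eqP okg (by decide +kernel)
theorem satg13 : Sat Cg.g [([24,2], [2,24]), ([24,4], [4,24]), ([24,6], [6,24]), ([24,8], [8,24]), ([24,10], [10,24]), ([24,14], [14,24]), ([24,16], [16,24]), ([24,22], [22,24]), ([24,26], [26,24]), ([0,12], [12,0]), ([2,12], [12,2]), ([4,12], [12,4]), ([6,12], [12,6]), ([8,12], [12,8]), ([14,12], [12,14]), ([16,12], [12,16]), ([22,12], [12,22]), ([24,12], [12,24]), ([26,12], [12,26]), ([0,12,10,8,6,14,16,26,10,12], [12,10,8,6,14,16,26,10,12,0]),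 ([8,12,10,8,6,14,16,26,10,12], [12,10,8,6,14,16,26,10,12,26]), ([10,12,10,8,6,14,16,26,10,12], [12,10,8,6,14,16,26,10,12,10]), ([14,12,10,8,6,14,16,26,10,12], [12,10,8,6,14,16,26,10,12,6])] := sat_of_eqP okg (by decide +kernel)
theorem satg14 : Sat Cg.g [([16,12,10,8,6,14,16,26,10,12], [12,10,8,6,14,16,26,10,12,14]), ([22,12,10,8,6,14,16,26,10,12], [12,10,8,6,14,16,26,10,12,22]), ([24,12,10,8,6,14,16,26,10,12], [12,10,8,6,14,16,26,10,12,24]), ([26,10,4,2,26,8,0,2,4,10,26,12,10,8,6,14,16,26,10,12], [12,10,8,6,14,16,26,10,12,24,8,6,4,2,0,16,4,6,8,10,2,4,6,8,6,4,2,6])] := sat_of_eqP okg (by decide +kernel)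
theorem satg15 : Sat Cg.g [([4,6,8,10,26,4,6,8,16,14,6,4,8,10,26,12,10,8,6,14,16,26,10,12], [12,10,8,6,14,16,26,10,12,8,6,4,14,6,8,4,10,8,6,14,4,6,8,16,14,6,8,10,4,6,8,26,16,10,26,24]), ([12], [12]), ([12,12], []), ([12,10,12], [10,12,10]), ([12,10,8,26,10,12], [6,8,10,14,6,8,26,10,12,24,4,6,8,10,26,14,6,8,10,4,6,14,8,6,4,22]), ([12,10,8,6,14,16,26,10,12], [12,10,8,6,14,16,26,10,12]), ([12,12,10,8,6,14,16,26,10,12], [10,8,6,14,16,26,10,12])] := sat_of_eqP okg (by decide +kernel)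
theorem satg16 : Sat Cg.g [([12,10,26,12,10,8,6,14,16,26,10,12], [10,26,12,10,8,6,14,16,26,10,12,16]), ([12,6,8,10,8,14,6,4,26,12,10,8,6,14,16,26,10,12], [8,14,26,10,8,6,4,26,12,10,8,6,14,16,26,10,12,24,0,26,10,16,26,16,10,6,4,6])] := sat_of_eqP okg (by decide +kernel)
theorem satg : Sat Cg.g Rg := Sat.sub (satg16.lapp (satg15.lapp (satg14.lapp (satg13.lapp (satg12.lapp (satg11.lapp (satg10.lapp (satg9.lapp (satg8.lapp (satg7.lapp (satg6.lapp (satg5.lapp (satg4.lapp (satg3.lapp (satg2.lapp (satg1.lapp (satg0))))))))))))))))) (by decide +kernel)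
theorem lowg2 : 1679616 ≤ Nat.card (C24.grp (lmap Prod.fst rg2.ls)) :=
  (res_two lt23 res23 (by decide +kernel) [10] (Ctx.eq_of_eqW ok23 (v := []) (by decide +kernel)) (ne_one_of_maps ok24 306428 (by decide +kernel))
    (res_two lt22 res22 (by decide +kernel) [12] (Ctx.eq_of_eqW ok22 (v := []) (by decide +kernel)) (ne_one_of_maps ok23 31652 (by decide +kernel))
    (low_chain ok22 _ [[6,8], [6], [0], [4], [14,8,14], [17,6,8,17], [14,17,6,8,17,14], [2], [16], [14]]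
    [(0, [18,14,16,10,12,18,16,18], [[0], [2], [4], [6], [8], [10], [12], [14], [16]]), (78, [14,16,10,12,6,2], [[0], [2], [4], [6], [8], [10], [12]]), (1, [8,10,12,0,10,8,10], [[0], [2], [4], [6]]), (790, [0,2,4,6,0], [])] (N := 419904) (by decide +kernel)) (N := 839808) (by decide +kernel)) (N := 1679616) (by decide +kernel))
theorem repg2 : Lg.RepOK Cg C24.g rg2 := Lg.repOK_of okg [4,20,6,4,8,12,2,0,4,20,10,8,20,14,12,20,6,8,12,4,14,20,12,6,12] (by decide +kernel) lowg2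
theorem lowg1 : 5806080 ≤ Nat.card (C24.grp (lmap Prod.fst rg1.ls)) :=
  (res_two lt23 res23 (by decide +kernel) [14] (Ctx.eq_of_eqW ok23 (v := []) (by decide +kernel)) (ne_one_of_maps ok24 306428 (by decide +kernel))
    (res_two lt22 res22 (by decide +kernel) [16] (Ctx.eq_of_eqW ok22 (v := []) (by decide +kernel)) (ne_one_of_maps ok23 31652 (by decide +kernel))
    (low_chain ok22 _ [[4], [10,12,10], [6,10,4,6,8,4,0,6,4,10,6,8,18], [10,6], [8], [2]]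
    [(0, [10,0,6,2,8,6,4,6,2,10,4,8,6,6,0,2,4], [[0], [2], [4], [6], [8]]), (2518, [8,6,0,2,6,4,8,2,6,4,2,6,8], [[0], [2], [4], [6]]), (3, [6,0,2,6,4,6,2,4,6,2], [[0], [2], [4]]), (198, [0,2,4,2], [])] (N := 1451520) (by decide +kernel)) (N := 2903040) (by decide +kernel)) (N := 5806080) (by decide +kernel))
theorem repg1 : Lg.RepOK Cg C24.g rg1 := Lg.repOK_of okg [10,8,20,2,4,0,14,12,20,10,6,8,20,4,12,14,12,2,20,4,10,20,14,12,8,6,4,8,12] (by decide +kernel) lowg1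
theorem covg : Lg.CovOK Cg cg := Lg.covOK_of okg [(0, 0), (1, 1), (2, 2), (3, 26), (4, 416), (5, 418), (6, 2148), (7, 6524)] [4,18,8,6,10,4,8,2,4,0,18,12,10,18,6,8,4,10,2,4,12,18,0,6,10,2] (by decide +kernel) (by decide +kernel)
theorem Pg : Pres Rg [6,0,1,2,3,4,5,7,8,11,12,13] 258247006617600 :=
  Pres.step Lg (Pm.perm (by decide +kernel)) okg satg.left satg.right sat24m (by decide +kernel) (all_cons repg1 (all_cons repg2 all_nil)) (all_cons covg all_nil) (by decide +kernel)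

theorem lowj2 : 9170703360 ≤ Nat.card (C24.grp (lmap Prod.fst rj2.ls)) :=
  (res_two lt23 res23 (by decide +kernel) [16] (Ctx.eq_of_eqW ok23 (v := []) (by decide +kernel)) (ne_one_of_maps ok24 306428 (by decide +kernel))
    (res_le lt22 res22 (by decide +kernel) (low_chain ok22 _ [[0], [12,14,12], [18,6,12,10,8,6,4,6,8,10,12,6,18], [14,6,12,10,8,6,4,6,8,10,12,6,14], [8,10,8], [4], [18,14,8,10,12,18], [8], [6], [2]]
    [(0, [18,0,6,10,12,16,14,4,18,12,2,12,16,4,12,14], [[0], [2], [4], [6], [8], [10], [12], [14], [16]]), (1, [16,2,4,10,6,12,14,12,16,12,8,4,14], [[0], [2], [4], [6], [8], [10], [12], [14]]), (2, [14,4,6,12,8,4,2,14,12], [[0], [2], [4], [6], [8], [10], [12]]), (188, [8,10,12,4,12,6,2,8,12], [[0], [2], [4], [6]]), (708, [0,2,4,6,2,4,2], [])] (N := 4585351680) (by decide +kernel))) (N := 9170703360) (by decide +kernel))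
theorem repj2 : Lj.RepOK C23 C24.g rj2 := Lj.repOK_of ok23 [12,20,10,8,22,2,4,0,16,14,22,10,12,8,22,6,8,4,14,2,4,22,0,10,16,22,8,12,14,6,4,14,8,16,14,2,0] (by decide +kernel) lowj2
theorem lowj1 : 73574645760 ≤ Nat.card (C24.grp (lmap Prod.fst rj1.ls)) :=
  (res_two lt23 res23 (by decide +kernel) [16] (Ctx.eq_of_eqW ok23 (v := []) (by decide +kernel)) (ne_one_of_maps ok24 306428 (by decide +kernel))
    (res_two lt22 res22 (by decide +kernel) [18] (Ctx.eq_of_eqW ok22 (v := []) (by decide +kernel)) (ne_one_of_maps ok23 31652 (by decide +kernel))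
    (low_chain ok22 _ [[22,20,8,6,12,14,4,6,12,22,6,4,14,22,6,8], [4], [0], [14,6,12,4,6,22,6,4,12,6,14], [8], [12,14,12], [12], [6], [2]]
    [(0, [16,0,2,4,0,6,8,10,12,14,0,16,6,0,10,0,6,12], [[0], [2], [4], [6], [8], [10], [12], [14]]), (1, [14,0,2,6,8,10,12,14,0,0,14,12], [[0], [2], [4], [6], [8], [10], [12]]), (130, [12,0,6,10,0,0,6,12,0,6], [[0], [2], [4], [6], [8], [10]]), (4, [8,10,0,0,8,10,0,8], [[0], [2], [4], [6]]), (796, [2,4,6,0,0,6,0,6], [[0]]), (2, [0,0], [])] (N := 18393661440) (by decide +kernel)) (N := 36787322880) (by decide +kernel)) (N := 73574645760) (by decide +kernel))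
theorem repj1 : Lj.RepOK C23 C24.g rj1 := Lj.repOK_of ok23 [10,8,12,22,2,4,0,16,14,22,6,10,8,14,4,22,12,2,4,0,22,16,22,10,12,22,8,14,6,8] (by decide +kernel) lowj1
theorem covj : Lj.CovOK C23 cj := Lj.covOK_of ok23 [(0, 0), (1, 79), (2, 171), (3, 31651), (4, 31653), (5, 20415), (6, 31652), (7, 31654)] [8,18,4,12,2,4,0,18,10,6,8,12,4,18,14,18,12,2,4,0,18,10,8,18,2,0,4,18,6,4,8,12,14,12,10,18,8,6,8,4] (by decide +kernel) (by decide +kernel)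
theorem Pj : Pres Rj [9,0,1,2,3,4,5,6,7,8,11,12,13] 8178940946586009600 :=
  Pres.step Lj (Pg.perm (by decide +kernel)) ok23 sat23.left sat23.right sat24g (by decide +kernel) (all_cons repj1 (all_cons repj2 all_nil)) (all_cons covj all_nil) (by decide +kernel)

theorem lowk2a : 9170703360 ≤ Nat.card (C23.grp (sing [1,2,3,4,5,6,7,8,12])) :=
  (res_two lt22 res22 (by decide +kernel) [16] (Ctx.eq_of_eqW ok22 (v := []) (by decide +kernel)) (ne_one_of_maps ok23 31652 (by decide +kernel))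
    (low_chain ok22 _ [[2], [4,12,6,4,2,4,6,12,4], [14,12,8,6,4,2,0,2,4,6,8,12,14], [8,6,4,12,10,8,6,4,2,4,6,8,10,12,4,6,8], [14,4,12,8,6,4,2,4,6,8,12,4,14], [12,14,4,12,10,8,6,4,2,4,6,8,10,12,4,14,12], [8,4,6,0,2,4,12,14,8,6,2,4,0,2,0,4,8,6,4,12,4,2,0,14,12,4], [6,8,6], [6], [4]]
    [(1, [18,0,2,4,8,2,6,10,14,16,18,12,14,12,4], [[0], [2], [4], [6], [8], [10], [12], [14], [16]]), (18, [16,8,10,12,12,6,16,14,12,10,12,2,14,6], [[0], [2], [4], [6], [8], [10], [12], [14]]), (21, [14,2,4,12,10,14,12,6,2,4], [[0], [2], [4], [6], [8], [10], [12]]), (19, [8,10,12,12,6,4,12,10,12], [[0], [2], [4], [6]]), (282, [0,2,4,6,2,4,2], [])] (N := 4585351680) (by decide +kernel)) (N := 9170703360) (by decide +kernel))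
theorem lowk2 : 29713078886400 ≤ Nat.card (C24.grp (lmap Prod.fst rk2.ls)) :=
  (res_le lt23 res23 (by decide +kernel) (low_step ok23 _ [[0], [2], [4], [6], [8], [10], [12], [14], [18]] 0 [16,10,18,8,6,16,10,4,2,12,0,14,4,6,2,12,8,10,4,6,2,12,8,10,0,14,16,18,4,2,20,2,10,12] (o := 3240) (N := 29713078886400) (by decide +kernel) lowk2a))
theorem repk2 : Lk.RepOK C24 C24.g rk2 := Lk.repOK_of ok24 [0,24,20,2,4,10,8,12,16,14,24,6,4,8,14,10,8,12,24,18,22,12,2,0,4,16,24,14,10,8,24,12,6,14,8,4,16,14,2,24,4,10,8] (by decide +kernel) lowk2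
theorem lowk1a : 36787322880 ≤ Nat.card (C23.grp (sing [0,2,3,4,5,6,7,8,12,13])) :=
  (res_two lt22 res22 (by decide +kernel) [16] (Ctx.eq_of_eqW ok22 (v := []) (by decide +kernel)) (ne_one_of_maps ok23 31652 (by decide +kernel))
    (res_two lt21 res21 (by decide +kernel) [0] (Ctx.eq_of_eqW ok21 (v := []) (by decide +kernel)) (ne_one_of_maps ok22 3288 (by decide +kernel))
    low21 (N := 18393661440) (by decide +kernel)) (N := 36787322880) (by decide +kernel))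
theorem lowk1 : 258247006617600 ≤ Nat.card (C24.grp (lmap Prod.fst rk1.ls)) :=
  (res_two lt23 res23 (by decide +kernel) [18] (Ctx.eq_of_eqW ok23 (v := []) (by decide +kernel)) (ne_one_of_maps ok24 306428 (by decide +kernel))
    (low_step ok23 _ [[0], [2], [4], [6], [8], [10], [12], [14], [20], [22]] 0 [16,10,20,8,6,22,16,10,4,2,12,14,12,8,22,6,4,6,2,12,8,10,6,22,14,16,20,8,22,10,12,6,8] (o := 3510) (N := 129123503308800) (by decide +kernel) lowk1a) (N := 258247006617600) (by decide +kernel))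
theorem repk1 : Lk.RepOK C24 C24.g rk1 := Lk.repOK_of ok24 [2,4,0,24,6,8,10,12,8,16,14,24,2,4,24,10,8,12,24,18,22,12,0,6,4,8,14,16,14,10,8,24,12,6,4,14,8,16,14,2,18] (by decide +kernel) lowk1
theorem covk : Lk.CovOK C24 ck := Lk.covOK_of ok24 [(0, 0), (1, 3290), (2, 2), (3, 306425), (4, 306429), (5, 271121), (6, 306424), (7, 306428)] [0,2,6,12,10,4,8,6,2,12,10,16,18,10,14,12,4,12,2,0,6,2,8,6,14,4,6,2,12,8,10,16,4,6,2,12,18,8,10,4,2,12,6,0,2,4,12,2,14,12,8,6,4,6,12,2,0,2,4,6,2,8,10,6,0,4,12,2,20,2,6,16] (by decide +kernel) (by decide +kernel)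
theorem Pk : Pres Rk [10,0,1,2,3,4,5,6,7,8,9,11,12,13] 2510411418381323442585600 :=
  Pres.step Lk (Pj.perm (by decide +kernel)) ok24 sat24.left sat24.right sat24j (by decide +kernel) (all_cons repk1 (all_cons repk2 all_nil)) (all_cons covk all_nil) (by decide +kernel)

end CA.Fi
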