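import Cfsg.Agent.Lib.Fi.Ctx
import Cfsg.Agent.Lib.Comp.H27Pres

set_option Elab.async false
set_option maxRecDepth 100000

namespace CA.Fi
open CA.CNet CA.CWord CA.CLevel CA.H27Pres

noncomputable def E1 : Eqs := [([14,14], []), ([14,6,14], [6,14,6]), ([14,6,4,8,6,14], [14,6,4,8,6,14]), ([14,14,6,4,8,6,14], [6,4,8,6,14]), ([14,6,4,2,14,6,4,8,6,14], [6,4,2,14,6,4,8,6,14,2]), ([2,10], [10,2]), ([4,10], [10,4]), ([6,10], [10,6]), ([14,10], [10,14])]
theorem E1_0 : satSl C24 E1 0 = true := by decide +kernel
theorem E1_1 : satSl C24 E1 1 = true := by decide +kernel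
theorem E1_2 : satSl C24 E1 2 = true := by decide +kernel
theorem E1_3 : satSl C24 E1 3 = true := by decide +kernel
theorem E1_4 : satSl C24 E1 4 = true := by decide +kernel
theorem E1_5 : satSl C24 E1 5 = true := by decide +kernel
theorem E1_6 : satSl C24 E1 6 = true := by decide +kernel
theorem E1_7 : satSl C24 E1 7 = true := by decide +kernel
theorem E1_8 : satSl C24 E1 8 = true := by decide +kernel
theorem E1_9 : satSl C24 E1 9 = true := by decide +kernel
theorem E1_10 : satSl C24 E1 10 = true := by decide +kernel
theorem E1_11 : satSl C24 E1 11 = true := by decide +kernel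
theorem E1_12 : satSl C24 E1 12 = true := by decide +kernel
theorem E1_13 : satSl C24 E1 13 = true := by decide +kernel
theorem E1_14 : satSl C24 E1 14 = true := by decide +kernel
theorem E1_15 : satSl C24 E1 15 = true := by decide +kernel
theorem E1_16 : satSl C24 E1 16 = true := by decide +kernel
theorem E1_17 : satSl C24 E1 17 = true := by decide +kernel
theorem E1_18 : satSl C24 E1 18 = true := by decide +kernel
theorem sE1 : Sat C24.g E1 := sat_of_sl ok24 (show ∀ j < 19, satSl C24 E1 j = true from
  (forall_lt_succ (forall_lt_succ (forall_lt_succ (forall_lt_succ (forall_lt_succ (forall_lt_succ (forall_lt_succ (forall_lt_succ (forall_lt_succ (forall_lt_succ (forall_lt_succ (forall_lt_succ (forall_lt_succ (forall_lt_succ (forall_lt_succ (forall_lt_succ (forall_lt_succ (forall_lt_succ (forall_lt_succ forall_lt_zero E1_0) E1_1) E1_2) E1_3) E1_4) E1_5) E1_6) E1_7) E1_8) E1_9) E1_10) E1_11) E1_12) E1_13) E1_14) E1_15) E1_16) E1_17) E1_18))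

noncomputable def E5 : Eqs := [([14,2,16,14,6,4,8,6,14,16], [2,16,14,6,4,8,6,14,16,14]), ([4,6,14,8,10,6,8,4,6,4,2,4,14,6,8,10,2,16,14,6,4,8,6,14,16], [2,16,14,6,4,8,6,14,16,10,8,6,4,14,6,8,10,2,4,6,14,8,6,4,2])]
theorem E5_0 : satSl C24 E5 0 = true := by decide +kernel
theorem E5_1 : satSl C24 E5 1 = true := by decide +kernel
theorem E5_2 : satSl C24 E5 2 = true := by decide +kernel
theorem E5_3 : satSl C24 E5 3 = true := by decide +kernel
theorem E5_4 : satSl C24 E5 4 = true := by decide +kernel
theorem E5_5 : satSl C24 E5 5 = true := by decide +kernel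
theorem E5_6 : satSl C24 E5 6 = true := by decide +kernel
theorem E5_7 : satSl C24 E5 7 = true := by decide +kernel
theorem E5_8 : satSl C24 E5 8 = true := by decide +kernel
theorem E5_9 : satSl C24 E5 9 = true := by decide +kernel
theorem E5_10 : satSl C24 E5 10 = true := by decide +kernel
theorem E5_11 : satSl C24 E5 11 = true := by decide +kernel
theorem E5_12 : satSl C24 E5 12 = true := by decide +kernel
theorem E5_13 : satSl C24 E5 13 = true := by decide +kernel
theorem E5_14 : satSl C24 E5 14 = true := by decide +kernel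
theorem E5_15 : satSl C24 E5 15 = true := by decide +kernel
theorem E5_16 : satSl C24 E5 16 = true := by decide +kernel
theorem E5_17 : satSl C24 E5 17 = true := by decide +kernel
theorem E5_18 : satSl C24 E5 18 = true := by decide +kernel
theorem sE5 : Sat C24.g E5 := sat_of_sl ok24 (show ∀ j < 19, satSl C24 E5 j = true from
  (forall_lt_succ (forall_lt_succ (forall_lt_succ (forall_lt_succ (forall_lt_succ (forall_lt_succ (forall_lt_succ (forall_lt_succ (forall_lt_succ (forall_lt_succ (forall_lt_succ (forall_lt_succ (forall_lt_succ (forall_lt_succ (forall_lt_succ (forall_lt_succ (forall_lt_succ (forall_lt_succ (forall_lt_succ forall_lt_zero E5_0) E5_1) E5_2) E5_3) E5_4) E5_5) E5_6) E5_7) E5_8) E5_9) E5_10) E5_11) E5_12) E5_13) E5_14) E5_15) E5_16) E5_17) E5_18))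

noncomputable def E9 : Eqs := [([16,14,6,4,8,6,14,16], [2,2,16,14,6,4,8,6,14,16]), ([16,2,2,16,14,6,4,8,6,14,16], [14,6,4,8,6,14,16]), ([16,14,6,4,2,8,10,14,6,4,8,6,14,16], [4,14,6,6,4,14,16,14,6,4,2,8,10,14,6,4,8,6,14,16])]
theorem E9_0 : satSl C24 E9 0 = true := by decide +kernel
theorem E9_1 : satSl C24 E9 1 = true := by decide +kernel
theorem E9_2 : satSl C24 E9 2 = true := by decide +kernel
theorem E9_3 : satSl C24 E9 3 = true := by decide +kernel
theorem E9_4 : satSl C24 E9 4 = true := by decide +kernel
theorem E9_5 : satSl C24 E9 5 = true := by decide +kernel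
theorem E9_6 : satSl C24 E9 6 = true := by decide +kernel
theorem E9_7 : satSl C24 E9 7 = true := by decide +kernel
theorem E9_8 : satSl C24 E9 8 = true := by decide +kernel
theorem E9_9 : satSl C24 E9 9 = true := by decide +kernel
theorem E9_10 : satSl C24 E9 10 = true := by decide +kernel
theorem E9_11 : satSl C24 E9 11 = true := by decide +kernel
theorem E9_12 : satSl C24 E9 12 = true := by decide +kernel
theorem E9_13 : satSl C24 E9 13 = true := by decide +kernel
theorem E9_14 : satSl C24 E9 14 = true := by decide +kernel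
theorem E9_15 : satSl C24 E9 15 = true := by decide +kernel
theorem E9_16 : satSl C24 E9 16 = true := by decide +kernel
theorem E9_17 : satSl C24 E9 17 = true := by decide +kernel
theorem E9_18 : satSl C24 E9 18 = true := by decide +kernel
theorem sE9 : Sat C24.g E9 := sat_of_sl ok24 (show ∀ j < 19, satSl C24 E9 j = true from
  (forall_lt_succ (forall_lt_succ (forall_lt_succ (forall_lt_succ (forall_lt_succ (forall_lt_succ (forall_lt_succ (forall_lt_succ (forall_lt_succ (forall_lt_succ (forall_lt_succ (forall_lt_succ (forall_lt_succ (forall_lt_succ (forall_lt_succ (forall_lt_succ (forall_lt_succ (forall_lt_succ (forall_lt_succ forall_lt_zero E9_0) E9_1) E9_2) E9_3) E9_4) E9_5) E9_6) E9_7) E9_8) E9_9) E9_10) E9_11) E9_12) E9_13) E9_14) E9_15) E9_16) E9_17) E9_18))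

noncomputable def E13 : Eqs := [([16,14,6,4,2,8,6,4,10,8,14,6,4,2,8,10,14,6,4,8,6,14,16], [14,6,4,2,8,6,4,10,8,14,6,4,2,8,10,14,6,4,8,6,14,16,14,6,4,2,8,6,4,14,6,8,10,8,6,4,2,14,6,4,8,6,14]), ([22,22], []), ([22,2], [2,22]), ([22,4], [4,22]), ([22,6], [6,22]), ([22,8], [8,22]), ([22,10], [10,22])]
theorem E13_0 : satSl C24 E13 0 = true := by decide +kernel
theorem E13_1 : satSl C24 E13 1 = true := by decide +kernel
theorem E13_2 : satSl C24 E13 2 = true := by decide +kernel
theorem E13_3 : satSl C24 E13 3 = true := by decide +kernel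
theorem E13_4 : satSl C24 E13 4 = true := by decide +kernel
theorem E13_5 : satSl C24 E13 5 = true := by decide +kernel
theorem E13_6 : satSl C24 E13 6 = true := by decide +kernel
theorem E13_7 : satSl C24 E13 7 = true := by decide +kernel
theorem E13_8 : satSl C24 E13 8 = true := by decide +kernel
theorem E13_9 : satSl C24 E13 9 = true := by decide +kernel
theorem E13_10 : satSl C24 E13 10 = true := by decide +kernel
theorem E13_11 : satSl C24 E13 11 = true := by decide +kernel
theorem E13_12 : satSl C24 E13 12 = true := by decide +kernel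
theorem E13_13 : satSl C24 E13 13 = true := by decide +kernel
theorem E13_14 : satSl C24 E13 14 = true := by decide +kernel
theorem E13_15 : satSl C24 E13 15 = true := by decide +kernel
theorem E13_16 : satSl C24 E13 16 = true := by decide +kernel
theorem E13_17 : satSl C24 E13 17 = true := by decide +kernel
theorem E13_18 : satSl C24 E13 18 = true := by decide +kernel
theorem sE13 : Sat C24.g E13 := sat_of_sl ok24 (show ∀ j < 19, satSl C24 E13 j = true from
  (forall_lt_succ (forall_lt_succ (forall_lt_succ (forall_lt_succ (forall_lt_succ (forall_lt_succ (forall_lt_succ (forall_lt_succ (forall_lt_succ (forall_lt_succ (forall_lt_succ (forall_lt_succ (forall_lt_succ (forall_lt_succ (forall_lt_succ (forall_lt_succ (forall_lt_succ (forall_lt_succ (forall_lt_succ forall_lt_zero E13_0) E13_1) E13_2) E13_3) E13_4) E13_5) E13_6) E13_7) E13_8) E13_9) E13_10) E13_11) E13_12) E13_13) E13_14) E13_15) E13_16) E13_17) E13_18))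

noncomputable def E17 : Eqs := [([10,4,6,2,4,0,2,4,6,8,10,8,6,4,14,6,8,16,14,6,4,2,0], [0,2,4,6,8,10,8,6,4,14,6,8,16,14,6,4,2,0,2,4,6,8,14,6,4,2,16,14,6,4,8,6,14,16,8,6,4,2,14,6,4,8,6,14,2,4,6,8,6,4,2,6,4,6,22])]
theorem E17_0 : satSl C24 E17 0 = true := by decide +kernel
theorem E17_1 : satSl C24 E17 1 = true := by decide +kernel
theorem E17_2 : satSl C24 E17 2 = true := by decide +kernel
theorem E17_3 : satSl C24 E17 3 = true := by decide +kernel
theorem E17_4 : satSl C24 E17 4 = true := by decide +kernel
theorem E17_5 : satSl C24 E17 5 = true := by decide +kernel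
theorem E17_6 : satSl C24 E17 6 = true := by decide +kernel
theorem E17_7 : satSl C24 E17 7 = true := by decide +kernel
theorem E17_8 : satSl C24 E17 8 = true := by decide +kernel
theorem E17_9 : satSl C24 E17 9 = true := by decide +kernel
theorem E17_10 : satSl C24 E17 10 = true := by decide +kernel
theorem E17_11 : satSl C24 E17 11 = true := by decide +kernel
theorem E17_12 : satSl C24 E17 12 = true := by decide +kernel
theorem E17_13 : satSl C24 E17 13 = true := by decide +kernel
theorem E17_14 : satSl C24 E17 14 = true := by decide +kernel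
theorem E17_15 : satSl C24 E17 15 = true := by decide +kernel
theorem E17_16 : satSl C24 E17 16 = true := by decide +kernel
theorem E17_17 : satSl C24 E17 17 = true := by decide +kernel
theorem E17_18 : satSl C24 E17 18 = true := by decide +kernel
theorem sE17 : Sat C24.g E17 := sat_of_sl ok24 (show ∀ j < 19, satSl C24 E17 j = true from
  (forall_lt_succ (forall_lt_succ (forall_lt_succ (forall_lt_succ (forall_lt_succ (forall_lt_succ (forall_lt_succ (forall_lt_succ (forall_lt_succ (forall_lt_succ (forall_lt_succ (forall_lt_succ (forall_lt_succ (forall_lt_succ (forall_lt_succ (forall_lt_succ (forall_lt_succ (forall_lt_succ (forall_lt_succ forall_lt_zero E17_0) E17_1) E17_2) E17_3) E17_4) E17_5) E17_6) E17_7) E17_8) E17_9) E17_10) E17_11) E17_12) E17_13) E17_14) E17_15) E17_16) E17_17) E17_18))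

noncomputable def E21 : Eqs := [([0,2,4,6,14,0,2,4,6,8,10,8,6,4,14,6,8,16,14,6,4,2,0], [2,4,6,14,0,2,4,6,8,10,8,6,4,14,6,8,16,14,6,4,2,0,6]), ([26], [2,4,6,8,14,6,4,2,0,2,4,6,14,8,6,4,2]), ([24,24], []), ([24,0], [0,24]), ([24,2], [2,24]), ([24,4], [4,24]), ([24,6], [6,24]), ([24,8], [8,24]), ([24,10], [10,24])]
theorem E21_0 : satSl C24 E21 0 = true := by decide +kernel
theorem E21_1 : satSl C24 E21 1 = true := by decide +kernel
theorem E21_2 : satSl C24 E21 2 = true := by decide +kernel
theorem E21_3 : satSl C24 E21 3 = true := by decide +kernel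
theorem E21_4 : satSl C24 E21 4 = true := by decide +kernel
theorem E21_5 : satSl C24 E21 5 = true := by decide +kernel
theorem E21_6 : satSl C24 E21 6 = true := by decide +kernel
theorem E21_7 : satSl C24 E21 7 = true := by decide +kernel
theorem E21_8 : satSl C24 E21 8 = true := by decide +kernel
theorem E21_9 : satSl C24 E21 9 = true := by decide +kernel
theorem E21_10 : satSl C24 E21 10 = true := by decide +kernel
theorem E21_11 : satSl C24 E21 11 = true := by decide +kernel
theorem E21_12 : satSl C24 E21 12 = true := by decide +kernel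
theorem E21_13 : satSl C24 E21 13 = true := by decide +kernel
theorem E21_14 : satSl C24 E21 14 = true := by decide +kernel
theorem E21_15 : satSl C24 E21 15 = true := by decide +kernel
theorem E21_16 : satSl C24 E21 16 = true := by decide +kernel
theorem E21_17 : satSl C24 E21 17 = true := by decide +kernel
theorem E21_18 : satSl C24 E21 18 = true := by decide +kernel
theorem sE21 : Sat C24.g E21 := sat_of_sl ok24 (show ∀ j < 19, satSl C24 E21 j = true from
  (forall_lt_succ (forall_lt_succ (forall_lt_succ (forall_lt_succ (forall_lt_succ (forall_lt_succ (forall_lt_succ (forall_lt_succ (forall_lt_succ (forall_lt_succ (forall_lt_succ (forall_lt_succ (forall_lt_succ (forall_lt_succ (forall_lt_succ (forall_lt_succ (forall_lt_succ (forall_lt_succ (forall_lt_succ forall_lt_zero E21_0) E21_1) E21_2) E21_3) E21_4) E21_5) E21_6) E21_7) E21_8) E21_9) E21_10) E21_11) E21_12) E21_13) E21_14) E21_15) E21_16) E21_17) E21_18))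

noncomputable def E25 : Eqs := [([4,6,8,10,26,4,6,8,16,14,6,4,8,10,26,12,10,8,6,14,16,26,10,12], [12,10,8,6,14,16,26,10,12,8,6,4,14,6,8,4,10,8,6,14,4,6,8,16,14,6,8,10,4,6,8,26,16,10,26,24]), ([12], [12]), ([12,12], []), ([12,10,12], [10,12,10])]
theorem E25_0 : satSl C24 E25 0 = true := by decide +kernel
theorem E25_1 : satSl C24 E25 1 = true := by decide +kernel
theorem E25_2 : satSl C24 E25 2 = true := by decide +kernel
theorem E25_3 : satSl C24 E25 3 = true := by decide +kernel
theorem E25_4 : satSl C24 E25 4 = true := by decide +kernel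
theorem E25_5 : satSl C24 E25 5 = true := by decide +kernel
theorem E25_6 : satSl C24 E25 6 = true := by decide +kernel
theorem E25_7 : satSl C24 E25 7 = true := by decide +kernel
theorem E25_8 : satSl C24 E25 8 = true := by decide +kernel
theorem E25_9 : satSl C24 E25 9 = true := by decide +kernel
theorem E25_10 : satSl C24 E25 10 = true := by decide +kernel
theorem E25_11 : satSl C24 E25 11 = true := by decide +kernel
theorem E25_12 : satSl C24 E25 12 = true := by decide +kernel
theorem E25_13 : satSl C24 E25 13 = true := by decide +kernel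
theorem E25_14 : satSl C24 E25 14 = true := by decide +kernel
theorem E25_15 : satSl C24 E25 15 = true := by decide +kernel
theorem E25_16 : satSl C24 E25 16 = true := by decide +kernel
theorem E25_17 : satSl C24 E25 17 = true := by decide +kernel
theorem E25_18 : satSl C24 E25 18 = true := by decide +kernel
theorem sE25 : Sat C24.g E25 := sat_of_sl ok24 (show ∀ j < 19, satSl C24 E25 j = true from
  (forall_lt_succ (forall_lt_succ (forall_lt_succ (forall_lt_succ (forall_lt_succ (forall_lt_succ (forall_lt_succ (forall_lt_succ (forall_lt_succ (forall_lt_succ (forall_lt_succ (forall_lt_succ (forall_lt_succ (forall_lt_succ (forall_lt_succ (forall_lt_succ (forall_lt_succ (forall_lt_succ (forall_lt_succ forall_lt_zero E25_0) E25_1) E25_2) E25_3) E25_4) E25_5) E25_6) E25_7) E25_8) E25_9) E25_10) E25_11) E25_12) E25_13) E25_14) E25_15) E25_16) E25_17) E25_18))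

noncomputable def E29 : Eqs := [([22,18,24,12,18], [18,24,12,18,22]), ([24,18,24,12,18], [18,24,12,18,12]), ([26,18,24,12,18], [18,24,12,18,26]), ([10,8,12,26,10,26,12,8,10,18,24,12,18], [18,24,12,18,12,10,8,26,10,12,24,0,8,10,26,8,10,14,8]), ([0,18], [18,0]), ([2,18], [18,2]), ([4,18], [18,4]), ([6,18], [18,6])]
theorem E29_0 : satSl C24 E29 0 = true := by decide +kernel
theorem E29_1 : satSl C24 E29 1 = true := by decide +kernel
theorem E29_2 : satSl C24 E29 2 = true := by decide +kernel
theorem E29_3 : satSl C24 E29 3 = true := by decide +kernel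
theorem E29_4 : satSl C24 E29 4 = true := by decide +kernel
theorem E29_5 : satSl C24 E29 5 = true := by decide +kernel
theorem E29_6 : satSl C24 E29 6 = true := by decide +kernel
theorem E29_7 : satSl C24 E29 7 = true := by decide +kernel
theorem E29_8 : satSl C24 E29 8 = true := by decide +kernel
theorem E29_9 : satSl C24 E29 9 = true := by decide +kernel
theorem E29_10 : satSl C24 E29 10 = true := by decide +kernel
theorem E29_11 : satSl C24 E29 11 = true := by decide +kernel
theorem E29_12 : satSl C24 E29 12 = true := by decide +kernel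
theorem E29_13 : satSl C24 E29 13 = true := by decide +kernel
theorem E29_14 : satSl C24 E29 14 = true := by decide +kernel
theorem E29_15 : satSl C24 E29 15 = true := by decide +kernel
theorem E29_16 : satSl C24 E29 16 = true := by decide +kernel
theorem E29_17 : satSl C24 E29 17 = true := by decide +kernel
theorem E29_18 : satSl C24 E29 18 = true := by decide +kernel
theorem sE29 : Sat C24.g E29 := sat_of_sl ok24 (show ∀ j < 19, satSl C24 E29 j = true from
  (forall_lt_succ (forall_lt_succ (forall_lt_succ (forall_lt_succ (forall_lt_succ (forall_lt_succ (forall_lt_succ (forall_lt_succ (forall_lt_succ (forall_lt_succ (forall_lt_succ (forall_lt_succ (forall_lt_succ (forall_lt_succ (forall_lt_succ (forall_lt_succ (forall_lt_succ (forall_lt_succ (forall_lt_succ forall_lt_zero E29_0) E29_1) E29_2) E29_3) E29_4) E29_5) E29_6) E29_7) E29_8) E29_9) E29_10) E29_11) E29_12) E29_13) E29_14) E29_15) E29_16) E29_17) E29_18))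

noncomputable def E33 : Eqs := [([18,20,22,0,20], [20,22,0,20,18]), ([22,20,22,0,20], [20,22,0,20,0]), ([24,20,22,0,20], [20,22,0,20,24]), ([26,20,22,0,20], [20,22,0,20,0,26,14,6,4,8,6,14,4,6,8,6,4,6,22]), ([2,20], [20,2]), ([4,20], [20,4]), ([6,20], [20,6]), ([8,20], [20,8])]
theorem E33_0 : satSl C24 E33 0 = true := by decide +kernel
theorem E33_1 : satSl C24 E33 1 = true := by decide +kernel
theorem E33_2 : satSl C24 E33 2 = true := by decide +kernel
theorem E33_3 : satSl C24 E33 3 = true := by decide +kernel
theorem E33_4 : satSl C24 E33 4 = true := by decide +kernel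
theorem E33_5 : satSl C24 E33 5 = true := by decide +kernel
theorem E33_6 : satSl C24 E33 6 = true := by decide +kernel
theorem E33_7 : satSl C24 E33 7 = true := by decide +kernel
theorem E33_8 : satSl C24 E33 8 = true := by decide +kernel
theorem E33_9 : satSl C24 E33 9 = true := by decide +kernel
theorem E33_10 : satSl C24 E33 10 = true := by decide +kernel
theorem E33_11 : satSl C24 E33 11 = true := by decide +kernel
theorem E33_12 : satSl C24 E33 12 = true := by decide +kernel
theorem E33_13 : satSl C24 E33 13 = true := by decide +kernel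
theorem E33_14 : satSl C24 E33 14 = true := by decide +kernel
theorem E33_15 : satSl C24 E33 15 = true := by decide +kernel
theorem E33_16 : satSl C24 E33 16 = true := by decide +kernel
theorem E33_17 : satSl C24 E33 17 = true := by decide +kernel
theorem E33_18 : satSl C24 E33 18 = true := by decide +kernel
theorem sE33 : Sat C24.g E33 := sat_of_sl ok24 (show ∀ j < 19, satSl C24 E33 j = true from
  (forall_lt_succ (forall_lt_succ (forall_lt_succ (forall_lt_succ (forall_lt_succ (forall_lt_succ (forall_lt_succ (forall_lt_succ (forall_lt_succ (forall_lt_succ (forall_lt_succ (forall_lt_succ (forall_lt_succ (forall_lt_succ (forall_lt_succ (forall_lt_succ (forall_lt_succ (forall_lt_succ (forall_lt_succ forall_lt_zero E33_0) E33_1) E33_2) E33_3) E33_4) E33_5) E33_6) E33_7) E33_8) E33_9) E33_10) E33_11) E33_12) E33_13) E33_14) E33_15) E33_16) E33_17) E33_18))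

noncomputable def E37 : Eqs := [([20,8,6,8,14,26,2,26,10,16,26,20], [0,14,26,10,16,26,20,6,4,6,8,6,4,14,6,8,4,6,14,10,8,16,14,6,4,2,26,16,10,2,26,14,8,4,2,4]), ([20,20], []), ([20,22,20], [22,20,22])]
theorem E37_0 : satSl C24 E37 0 = true := by decide +kernel
theorem E37_1 : satSl C24 E37 1 = true := by decide +kernel
theorem E37_2 : satSl C24 E37 2 = true := by decide +kernel
theorem E37_3 : satSl C24 E37 3 = true := by decide +kernel
theorem E37_4 : satSl C24 E37 4 = true := by decide +kernel
theorem E37_5 : satSl C24 E37 5 = true := by decide +kernel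
theorem E37_6 : satSl C24 E37 6 = true := by decide +kernel
theorem E37_7 : satSl C24 E37 7 = true := by decide +kernel
theorem E37_8 : satSl C24 E37 8 = true := by decide +kernel
theorem E37_9 : satSl C24 E37 9 = true := by decide +kernel
theorem E37_10 : satSl C24 E37 10 = true := by decide +kernel
theorem E37_11 : satSl C24 E37 11 = true := by decide +kernel
theorem E37_12 : satSl C24 E37 12 = true := by decide +kernel
theorem E37_13 : satSl C24 E37 13 = true := by decide +kernel
theorem E37_14 : satSl C24 E37 14 = true := by decide +kernel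
theorem E37_15 : satSl C24 E37 15 = true := by decide +kernel
theorem E37_16 : satSl C24 E37 16 = true := by decide +kernel
theorem E37_17 : satSl C24 E37 17 = true := by decide +kernel
theorem E37_18 : satSl C24 E37 18 = true := by decide +kernel
theorem sE37 : Sat C24.g E37 := sat_of_sl ok24 (show ∀ j < 19, satSl C24 E37 j = true from
  (forall_lt_succ (forall_lt_succ (forall_lt_succ (forall_lt_succ (forall_lt_succ (forall_lt_succ (forall_lt_succ (forall_lt_succ (forall_lt_succ (forall_lt_succ (forall_lt_succ (forall_lt_succ (forall_lt_succ (forall_lt_succ (forall_lt_succ (forall_lt_succ (forall_lt_succ (forall_lt_succ (forall_lt_succ forall_lt_zero E37_0) E37_1) E37_2) E37_3) E37_4) E37_5) E37_6) E37_7) E37_8) E37_9) E37_10) E37_11) E37_12) E37_13) E37_14) E37_15) E37_16) E37_17) E37_18))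

end CA.Fi
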