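import Cfsg.Agent.Lib.Fi.Ctx
import Cfsg.Agent.Lib.Comp.H27Pres

set_option Elab.async false
set_option maxRecDepth 100000

namespace CA.Fi
open CA.CNet CA.CWord CA.CLevel CA.H27Pres

noncomputable def E2 : Eqs := [([4,10,8,6,4,14,6,8,10], [10,8,6,4,14,6,8,10,14]), ([6,10,8,6,4,14,6,8,10], [10,8,6,4,14,6,8,10,6]), ([8,10,8,6,4,14,6,8,10], [10,8,6,4,14,6,8,10,8]), ([14,10,8,6,4,14,6,8,10], [10,8,6,4,14,6,8,10,4]), ([10], [10]), ([10,10], [])]
theorem E2_0 : satSl C24 E2 0 = true := by decide +kernel
theorem E2_1 : satSl C24 E2 1 = true := by decide +kernel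
theorem E2_2 : satSl C24 E2 2 = true := by decide +kernel
theorem E2_3 : satSl C24 E2 3 = true := by decide +kernel
theorem E2_4 : satSl C24 E2 4 = true := by decide +kernel
theorem E2_5 : satSl C24 E2 5 = true := by decide +kernel
theorem E2_6 : satSl C24 E2 6 = true := by decide +kernel
theorem E2_7 : satSl C24 E2 7 = true := by decide +kernel
theorem E2_8 : satSl C24 E2 8 = true := by decide +kernel
theorem E2_9 : satSl C24 E2 9 = true := by decide +kernel
theorem E2_10 : satSl C24 E2 10 = true := by decide +kernel
theorem E2_11 : satSl C24 E2 11 = true := by decide +kernel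
theorem E2_12 : satSl C24 E2 12 = true := by decide +kernel
theorem E2_13 : satSl C24 E2 13 = true := by decide +kernel
theorem E2_14 : satSl C24 E2 14 = true := by decide +kernel
theorem E2_15 : satSl C24 E2 15 = true := by decide +kernel
theorem E2_16 : satSl C24 E2 16 = true := by decide +kernel
theorem E2_17 : satSl C24 E2 17 = true := by decide +kernel
theorem E2_18 : satSl C24 E2 18 = true := by decide +kernel
theorem sE2 : Sat C24.g E2 := sat_of_sl ok24 (show ∀ j < 19, satSl C24 E2 j = true from
  (forall_lt_succ (forall_lt_succ (forall_lt_succ (forall_lt_succ (forall_lt_succ (forall_lt_succ (forall_lt_succ (forall_lt_succ (forall_lt_succ (forall_lt_succ (forall_lt_succ (forall_lt_succ (forall_lt_succ (forall_lt_succ (forall_lt_succ (forall_lt_succ (forall_lt_succ (forall_lt_succ (forall_lt_succ forall_lt_zero E2_0) E2_1) E2_2) E2_3) E2_4) E2_5) E2_6) E2_7) E2_8) E2_9) E2_10) E2_11) E2_12) E2_13) E2_14) E2_15) E2_16) E2_17) E2_18))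

noncomputable def E6 : Eqs := [([4,6,4,14,16,14,6,4,2,8,10,14,6,4,8,6,14,16], [6,4,14,16,14,6,4,2,8,10,14,6,4,8,6,14,16,14]), ([10,6,4,14,16,14,6,4,2,8,10,14,6,4,8,6,14,16], [6,4,14,16,14,6,4,2,8,10,14,6,4,8,6,14,16,4])]
theorem E6_0 : satSl C24 E6 0 = true := by decide +kernel
theorem E6_1 : satSl C24 E6 1 = true := by decide +kernel
theorem E6_2 : satSl C24 E6 2 = true := by decide +kernel
theorem E6_3 : satSl C24 E6 3 = true := by decide +kernel
theorem E6_4 : satSl C24 E6 4 = true := by decide +kernel
theorem E6_5 : satSl C24 E6 5 = true := by decide +kernel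
theorem E6_6 : satSl C24 E6 6 = true := by decide +kernel
theorem E6_7 : satSl C24 E6 7 = true := by decide +kernel
theorem E6_8 : satSl C24 E6 8 = true := by decide +kernel
theorem E6_9 : satSl C24 E6 9 = true := by decide +kernel
theorem E6_10 : satSl C24 E6 10 = true := by decide +kernel
theorem E6_11 : satSl C24 E6 11 = true := by decide +kernel
theorem E6_12 : satSl C24 E6 12 = true := by decide +kernel
theorem E6_13 : satSl C24 E6 13 = true := by decide +kernel
theorem E6_14 : satSl C24 E6 14 = true := by decide +kernel
theorem E6_15 : satSl C24 E6 15 = true := by decide +kernel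
theorem E6_16 : satSl C24 E6 16 = true := by decide +kernel
theorem E6_17 : satSl C24 E6 17 = true := by decide +kernel
theorem E6_18 : satSl C24 E6 18 = true := by decide +kernel
theorem sE6 : Sat C24.g E6 := sat_of_sl ok24 (show ∀ j < 19, satSl C24 E6 j = true from
  (forall_lt_succ (forall_lt_succ (forall_lt_succ (forall_lt_succ (forall_lt_succ (forall_lt_succ (forall_lt_succ (forall_lt_succ (forall_lt_succ (forall_lt_succ (forall_lt_succ (forall_lt_succ (forall_lt_succ (forall_lt_succ (forall_lt_succ (forall_lt_succ (forall_lt_succ (forall_lt_succ (forall_lt_succ forall_lt_zero E6_0) E6_1) E6_2) E6_3) E6_4) E6_5) E6_6) E6_7) E6_8) E6_9) E6_10) E6_11) E6_12) E6_13) E6_14) E6_15) E6_16) E6_17) E6_18))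

noncomputable def E10 : Eqs := [([16,14,6,4,2,16,14,6,4,8,6,14,16], [14,6,4,2,16,14,6,4,8,6,14,16,2]), ([16,4,14,6,6,4,14,16,14,6,4,2,8,10,14,6,4,8,6,14,16], [14,6,4,2,8,10,14,6,4,8,6,14,16])]
theorem E10_0 : satSl C24 E10 0 = true := by decide +kernel
theorem E10_1 : satSl C24 E10 1 = true := by decide +kernel
theorem E10_2 : satSl C24 E10 2 = true := by decide +kernel
theorem E10_3 : satSl C24 E10 3 = true := by decide +kernel
theorem E10_4 : satSl C24 E10 4 = true := by decide +kernel
theorem E10_5 : satSl C24 E10 5 = true := by decide +kernel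
theorem E10_6 : satSl C24 E10 6 = true := by decide +kernel
theorem E10_7 : satSl C24 E10 7 = true := by decide +kernel
theorem E10_8 : satSl C24 E10 8 = true := by decide +kernel
theorem E10_9 : satSl C24 E10 9 = true := by decide +kernel
theorem E10_10 : satSl C24 E10 10 = true := by decide +kernel
theorem E10_11 : satSl C24 E10 11 = true := by decide +kernel
theorem E10_12 : satSl C24 E10 12 = true := by decide +kernel
theorem E10_13 : satSl C24 E10 13 = true := by decide +kernel
theorem E10_14 : satSl C24 E10 14 = true := by decide +kernel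
theorem E10_15 : satSl C24 E10 15 = true := by decide +kernel
theorem E10_16 : satSl C24 E10 16 = true := by decide +kernel
theorem E10_17 : satSl C24 E10 17 = true := by decide +kernel
theorem E10_18 : satSl C24 E10 18 = true := by decide +kernel
theorem sE10 : Sat C24.g E10 := sat_of_sl ok24 (show ∀ j < 19, satSl C24 E10 j = true from
  (forall_lt_succ (forall_lt_succ (forall_lt_succ (forall_lt_succ (forall_lt_succ (forall_lt_succ (forall_lt_succ (forall_lt_succ (forall_lt_succ (forall_lt_succ (forall_lt_succ (forall_lt_succ (forall_lt_succ (forall_lt_succ (forall_lt_succ (forall_lt_succ (forall_lt_succ (forall_lt_succ (forall_lt_succ forall_lt_zero E10_0) E10_1) E10_2) E10_3) E10_4) E10_5) E10_6) E10_7) E10_8) E10_9) E10_10) E10_11) E10_12) E10_13) E10_14) E10_15) E10_16) E10_17) E10_18))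

noncomputable def E14 : Eqs := [([22,14], [14,22]), ([22,16], [16,22]), ([4,0], [0,4]), ([6,0], [0,6]), ([8,0], [0,8]), ([10,0], [0,10]), ([14,0], [0,14]), ([16,0], [0,16]), ([22,0], [0,22]), ([2,0,2,4,6,8,10,8,6,4,14,6,8,16,14,6,4,2,0], [0,2,4,6,8,10,8,6,4,14,6,8,16,14,6,4,2,0,2])]
theorem E14_0 : satSl C24 E14 0 = true := by decide +kernel
theorem E14_1 : satSl C24 E14 1 = true := by decide +kernel
theorem E14_2 : satSl C24 E14 2 = true := by decide +kernel
theorem E14_3 : satSl C24 E14 3 = true := by decide +kernel
theorem E14_4 : satSl C24 E14 4 = true := by decide +kernel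
theorem E14_5 : satSl C24 E14 5 = true := by decide +kernel
theorem E14_6 : satSl C24 E14 6 = true := by decide +kernel
theorem E14_7 : satSl C24 E14 7 = true := by decide +kernel
theorem E14_8 : satSl C24 E14 8 = true := by decide +kernel
theorem E14_9 : satSl C24 E14 9 = true := by decide +kernel
theorem E14_10 : satSl C24 E14 10 = true := by decide +kernel
theorem E14_11 : satSl C24 E14 11 = true := by decide +kernel
theorem E14_12 : satSl C24 E14 12 = true := by decide +kernel
theorem E14_13 : satSl C24 E14 13 = true := by decide +kernel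
theorem E14_14 : satSl C24 E14 14 = true := by decide +kernel
theorem E14_15 : satSl C24 E14 15 = true := by decide +kernel
theorem E14_16 : satSl C24 E14 16 = true := by decide +kernel
theorem E14_17 : satSl C24 E14 17 = true := by decide +kernel
theorem E14_18 : satSl C24 E14 18 = true := by decide +kernel
theorem sE14 : Sat C24.g E14 := sat_of_sl ok24 (show ∀ j < 19, satSl C24 E14 j = true from
  (forall_lt_succ (forall_lt_succ (forall_lt_succ (forall_lt_succ (forall_lt_succ (forall_lt_succ (forall_lt_succ (forall_lt_succ (forall_lt_succ (forall_lt_succ (forall_lt_succ (forall_lt_succ (forall_lt_succ (forall_lt_succ (forall_lt_succ (forall_lt_succ (forall_lt_succ (forall_lt_succ (forall_lt_succ forall_lt_zero E14_0) E14_1) E14_2) E14_3) E14_4) E14_5) E14_6) E14_7) E14_8) E14_9) E14_10) E14_11) E14_12) E14_13) E14_14) E14_15) E14_16) E14_17) E14_18))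

noncomputable def E18 : Eqs := [([14,16,10,8,4,6,8,14,6,4,0,2,4,6,8,10,8,6,4,14,6,8,16,14,6,4,2,0], [0,2,4,6,8,10,8,6,4,14,6,8,16,14,6,4,2,0,16,14,6,4,8,6,14,16,10,8,6,4,14,6,8,10]), ([0], [0]), ([0,0], []), ([0,2,0], [2,0,2])]
theorem E18_0 : satSl C24 E18 0 = true := by decide +kernel
theorem E18_1 : satSl C24 E18 1 = true := by decide +kernel
theorem E18_2 : satSl C24 E18 2 = true := by decide +kernel
theorem E18_3 : satSl C24 E18 3 = true := by decide +kernel
theorem E18_4 : satSl C24 E18 4 = true := by decide +kernel
theorem E18_5 : satSl C24 E18 5 = true := by decide +kernel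
theorem E18_6 : satSl C24 E18 6 = true := by decide +kernel
theorem E18_7 : satSl C24 E18 7 = true := by decide +kernel
theorem E18_8 : satSl C24 E18 8 = true := by decide +kernel
theorem E18_9 : satSl C24 E18 9 = true := by decide +kernel
theorem E18_10 : satSl C24 E18 10 = true := by decide +kernel
theorem E18_11 : satSl C24 E18 11 = true := by decide +kernel
theorem E18_12 : satSl C24 E18 12 = true := by decide +kernel
theorem E18_13 : satSl C24 E18 13 = true := by decide +kernel
theorem E18_14 : satSl C24 E18 14 = true := by decide +kernel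
theorem E18_15 : satSl C24 E18 15 = true := by decide +kernel
theorem E18_16 : satSl C24 E18 16 = true := by decide +kernel
theorem E18_17 : satSl C24 E18 17 = true := by decide +kernel
theorem E18_18 : satSl C24 E18 18 = true := by decide +kernel
theorem sE18 : Sat C24.g E18 := sat_of_sl ok24 (show ∀ j < 19, satSl C24 E18 j = true from
  (forall_lt_succ (forall_lt_succ (forall_lt_succ (forall_lt_succ (forall_lt_succ (forall_lt_succ (forall_lt_succ (forall_lt_succ (forall_lt_succ (forall_lt_succ (forall_lt_succ (forall_lt_succ (forall_lt_succ (forall_lt_succ (forall_lt_succ (forall_lt_succ (forall_lt_succ (forall_lt_succ (forall_lt_succ forall_lt_zero E18_0) E18_1) E18_2) E18_3) E18_4) E18_5) E18_6) E18_7) E18_8) E18_9) E18_10) E18_11) E18_12) E18_13) E18_14) E18_15) E18_16) E18_17) E18_18))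

noncomputable def E22 : Eqs := [([24,14], [14,24]), ([24,16], [16,24]), ([24,22], [22,24]), ([24,26], [26,24]), ([0,12], [12,0]), ([2,12], [12,2]), ([4,12], [12,4]), ([6,12], [12,6]), ([8,12], [12,8]), ([14,12], [12,14]), ([16,12], [12,16]), ([22,12], [12,22]), ([24,12], [12,24]), ([26,12], [12,26]), ([0,12,10,8,6,14,16,26,10,12], [12,10,8,6,14,16,26,10,12,0]), ([8,12,10,8,6,14,16,26,10,12], [12,10,8,6,14,16,26,10,12,26])]
theorem E22_0 : satSl C24 E22 0 = true := by decide +kernel
theorem E22_1 : satSl C24 E22 1 = true := by decide +kernel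
theorem E22_2 : satSl C24 E22 2 = true := by decide +kernel
theorem E22_3 : satSl C24 E22 3 = true := by decide +kernel
theorem E22_4 : satSl C24 E22 4 = true := by decide +kernel
theorem E22_5 : satSl C24 E22 5 = true := by decide +kernel
theorem E22_6 : satSl C24 E22 6 = true := by decide +kernel
theorem E22_7 : satSl C24 E22 7 = true := by decide +kernel
theorem E22_8 : satSl C24 E22 8 = true := by decide +kernel
theorem E22_9 : satSl C24 E22 9 = true := by decide +kernel
theorem E22_10 : satSl C24 E22 10 = true := by decide +kernel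
theorem E22_11 : satSl C24 E22 11 = true := by decide +kernel
theorem E22_12 : satSl C24 E22 12 = true := by decide +kernel
theorem E22_13 : satSl C24 E22 13 = true := by decide +kernel
theorem E22_14 : satSl C24 E22 14 = true := by decide +kernel
theorem E22_15 : satSl C24 E22 15 = true := by decide +kernel
theorem E22_16 : satSl C24 E22 16 = true := by decide +kernel
theorem E22_17 : satSl C24 E22 17 = true := by decide +kernel
theorem E22_18 : satSl C24 E22 18 = true := by decide +kernel
theorem sE22 : Sat C24.g E22 := sat_of_sl ok24 (show ∀ j < 19, satSl C24 E22 j = true from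
  (forall_lt_succ (forall_lt_succ (forall_lt_succ (forall_lt_succ (forall_lt_succ (forall_lt_succ (forall_lt_succ (forall_lt_succ (forall_lt_succ (forall_lt_succ (forall_lt_succ (forall_lt_succ (forall_lt_succ (forall_lt_succ (forall_lt_succ (forall_lt_succ (forall_lt_succ (forall_lt_succ (forall_lt_succ forall_lt_zero E22_0) E22_1) E22_2) E22_3) E22_4) E22_5) E22_6) E22_7) E22_8) E22_9) E22_10) E22_11) E22_12) E22_13) E22_14) E22_15) E22_16) E22_17) E22_18))

noncomputable def E26 : Eqs := [([12,10,8,26,10,12], [6,8,10,14,6,8,26,10,12,24,4,6,8,10,26,14,6,8,10,4,6,14,8,6,4,22]), ([12,10,8,6,14,16,26,10,12], [12,10,8,6,14,16,26,10,12]), ([12,12,10,8,6,14,16,26,10,12], [10,8,6,14,16,26,10,12])]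
theorem E26_0 : satSl C24 E26 0 = true := by decide +kernel
theorem E26_1 : satSl C24 E26 1 = true := by decide +kernel
theorem E26_2 : satSl C24 E26 2 = true := by decide +kernel
theorem E26_3 : satSl C24 E26 3 = true := by decide +kernel
theorem E26_4 : satSl C24 E26 4 = true := by decide +kernel
theorem E26_5 : satSl C24 E26 5 = true := by decide +kernel
theorem E26_6 : satSl C24 E26 6 = true := by decide +kernel
theorem E26_7 : satSl C24 E26 7 = true := by decide +kernel
theorem E26_8 : satSl C24 E26 8 = true := by decide +kernel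
theorem E26_9 : satSl C24 E26 9 = true := by decide +kernel
theorem E26_10 : satSl C24 E26 10 = true := by decide +kernel
theorem E26_11 : satSl C24 E26 11 = true := by decide +kernel
theorem E26_12 : satSl C24 E26 12 = true := by decide +kernel
theorem E26_13 : satSl C24 E26 13 = true := by decide +kernel
theorem E26_14 : satSl C24 E26 14 = true := by decide +kernel
theorem E26_15 : satSl C24 E26 15 = true := by decide +kernel
theorem E26_16 : satSl C24 E26 16 = true := by decide +kernel
theorem E26_17 : satSl C24 E26 17 = true := by decide +kernel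
theorem E26_18 : satSl C24 E26 18 = true := by decide +kernel
theorem sE26 : Sat C24.g E26 := sat_of_sl ok24 (show ∀ j < 19, satSl C24 E26 j = true from
  (forall_lt_succ (forall_lt_succ (forall_lt_succ (forall_lt_succ (forall_lt_succ (forall_lt_succ (forall_lt_succ (forall_lt_succ (forall_lt_succ (forall_lt_succ (forall_lt_succ (forall_lt_succ (forall_lt_succ (forall_lt_succ (forall_lt_succ (forall_lt_succ (forall_lt_succ (forall_lt_succ (forall_lt_succ forall_lt_zero E26_0) E26_1) E26_2) E26_3) E26_4) E26_5) E26_6) E26_7) E26_8) E26_9) E26_10) E26_11) E26_12) E26_13) E26_14) E26_15) E26_16) E26_17) E26_18))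

noncomputable def E30 : Eqs := [([8,18], [18,8]), ([10,18], [18,10]), ([14,18], [18,14]), ([16,18], [18,16]), ([22,18], [18,22]), ([26,18], [18,26]), ([18], [18]), ([18,12,10,18,24,12,18], [12,10,18,24,12,18,10]), ([18,18,24,12,18], [12,24,18]), ([18,12,24,18], [18,24,12,18]), ([18,12,18], [12,18,12])]
theorem E30_0 : satSl C24 E30 0 = true := by decide +kernel
theorem E30_1 : satSl C24 E30 1 = true := by decide +kernel
theorem E30_2 : satSl C24 E30 2 = true := by decide +kernel
theorem E30_3 : satSl C24 E30 3 = true := by decide +kernel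
theorem E30_4 : satSl C24 E30 4 = true := by decide +kernel
theorem E30_5 : satSl C24 E30 5 = true := by decide +kernel
theorem E30_6 : satSl C24 E30 6 = true := by decide +kernel
theorem E30_7 : satSl C24 E30 7 = true := by decide +kernel
theorem E30_8 : satSl C24 E30 8 = true := by decide +kernel
theorem E30_9 : satSl C24 E30 9 = true := by decide +kernel
theorem E30_10 : satSl C24 E30 10 = true := by decide +kernel
theorem E30_11 : satSl C24 E30 11 = true := by decide +kernel
theorem E30_12 : satSl C24 E30 12 = true := by decide +kernel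
theorem E30_13 : satSl C24 E30 13 = true := by decide +kernel
theorem E30_14 : satSl C24 E30 14 = true := by decide +kernel
theorem E30_15 : satSl C24 E30 15 = true := by decide +kernel
theorem E30_16 : satSl C24 E30 16 = true := by decide +kernel
theorem E30_17 : satSl C24 E30 17 = true := by decide +kernel
theorem E30_18 : satSl C24 E30 18 = true := by decide +kernel
theorem sE30 : Sat C24.g E30 := sat_of_sl ok24 (show ∀ j < 19, satSl C24 E30 j = true from
  (forall_lt_succ (forall_lt_succ (forall_lt_succ (forall_lt_succ (forall_lt_succ (forall_lt_succ (forall_lt_succ (forall_lt_succ (forall_lt_succ (forall_lt_succ (forall_lt_succ (forall_lt_succ (forall_lt_succ (forall_lt_succ (forall_lt_succ (forall_lt_succ (forall_lt_succ (forall_lt_succ (forall_lt_succ forall_lt_zero E30_0) E30_1) E30_2) E30_3) E30_4) E30_5) E30_6) E30_7) E30_8) E30_9) E30_10) E30_11) E30_12) E30_13) E30_14) E30_15) E30_16) E30_17) E30_18))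

noncomputable def E34 : Eqs := [([10,20], [20,10]), ([12,20], [20,12]), ([14,20], [20,14]), ([16,20], [20,16]), ([18,20], [20,18]), ([24,20], [20,24])]
theorem E34_0 : satSl C24 E34 0 = true := by decide +kernel
theorem E34_1 : satSl C24 E34 1 = true := by decide +kernel
theorem E34_2 : satSl C24 E34 2 = true := by decide +kernel
theorem E34_3 : satSl C24 E34 3 = true := by decide +kernel
theorem E34_4 : satSl C24 E34 4 = true := by decide +kernel
theorem E34_5 : satSl C24 E34 5 = true := by decide +kernel
theorem E34_6 : satSl C24 E34 6 = true := by decide +kernel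
theorem E34_7 : satSl C24 E34 7 = true := by decide +kernel
theorem E34_8 : satSl C24 E34 8 = true := by decide +kernel
theorem E34_9 : satSl C24 E34 9 = true := by decide +kernel
theorem E34_10 : satSl C24 E34 10 = true := by decide +kernel
theorem E34_11 : satSl C24 E34 11 = true := by decide +kernel
theorem E34_12 : satSl C24 E34 12 = true := by decide +kernel
theorem E34_13 : satSl C24 E34 13 = true := by decide +kernel
theorem E34_14 : satSl C24 E34 14 = true := by decide +kernel
theorem E34_15 : satSl C24 E34 15 = true := by decide +kernel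
theorem E34_16 : satSl C24 E34 16 = true := by decide +kernel
theorem E34_17 : satSl C24 E34 17 = true := by decide +kernel
theorem E34_18 : satSl C24 E34 18 = true := by decide +kernel
theorem sE34 : Sat C24.g E34 := sat_of_sl ok24 (show ∀ j < 19, satSl C24 E34 j = true from
  (forall_lt_succ (forall_lt_succ (forall_lt_succ (forall_lt_succ (forall_lt_succ (forall_lt_succ (forall_lt_succ (forall_lt_succ (forall_lt_succ (forall_lt_succ (forall_lt_succ (forall_lt_succ (forall_lt_succ (forall_lt_succ (forall_lt_succ (forall_lt_succ (forall_lt_succ (forall_lt_succ (forall_lt_succ forall_lt_zero E34_0) E34_1) E34_2) E34_3) E34_4) E34_5) E34_6) E34_7) E34_8) E34_9) E34_10) E34_11) E34_12) E34_13) E34_14) E34_15) E34_16) E34_17) E34_18))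

end CA.Fi
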