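import Cfsg.Agent.Lib.Fi.Ctx
import Cfsg.Agent.Lib.Comp.H27Pres

set_option Elab.async false
set_option maxRecDepth 100000

namespace CA.Fi
open CA.CNet CA.CWord CA.CLevel CA.H27Pres

noncomputable def E3 : Eqs := [([10,8,10], [8,10,8]), ([10,8,6,4,14,6,8,10], [10,8,6,4,14,6,8,10]), ([10,10,8,6,4,14,6,8,10], [8,6,4,14,6,8,10]), ([10,8,6,4,2,10,8,6,4,14,6,8,10], [8,6,4,2,10,8,6,4,14,6,8,10,2]), ([2,16], [16,2]), ([4,16], [16,4])]
theorem E3_0 : satSl C24 E3 0 = true := by decide +kernel
theorem E3_1 : satSl C24 E3 1 = true := by decide +kernel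
theorem E3_2 : satSl C24 E3 2 = true := by decide +kernel
theorem E3_3 : satSl C24 E3 3 = true := by decide +kernel
theorem E3_4 : satSl C24 E3 4 = true := by decide +kernel
theorem E3_5 : satSl C24 E3 5 = true := by decide +kernel
theorem E3_6 : satSl C24 E3 6 = true := by decide +kernel
theorem E3_7 : satSl C24 E3 7 = true := by decide +kernel
theorem E3_8 : satSl C24 E3 8 = true := by decide +kernel
theorem E3_9 : satSl C24 E3 9 = true := by decide +kernel
theorem E3_10 : satSl C24 E3 10 = true := by decide +kernel
theorem E3_11 : satSl C24 E3 11 = true := by decide +kernel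
theorem E3_12 : satSl C24 E3 12 = true := by decide +kernel
theorem E3_13 : satSl C24 E3 13 = true := by decide +kernel
theorem E3_14 : satSl C24 E3 14 = true := by decide +kernel
theorem E3_15 : satSl C24 E3 15 = true := by decide +kernel
theorem E3_16 : satSl C24 E3 16 = true := by decide +kernel
theorem E3_17 : satSl C24 E3 17 = true := by decide +kernel
theorem E3_18 : satSl C24 E3 18 = true := by decide +kernel
theorem sE3 : Sat C24.g E3 := sat_of_sl ok24 (show ∀ j < 19, satSl C24 E3 j = true from
  (forall_lt_succ (forall_lt_succ (forall_lt_succ (forall_lt_succ (forall_lt_succ (forall_lt_succ (forall_lt_succ (forall_lt_succ (forall_lt_succ (forall_lt_succ (forall_lt_succ (forall_lt_succ (forall_lt_succ (forall_lt_succ (forall_lt_succ (forall_lt_succ (forall_lt_succ (forall_lt_succ (forall_lt_succ forall_lt_zero E3_0) E3_1) E3_2) E3_3) E3_4) E3_5) E3_6) E3_7) E3_8) E3_9) E3_10) E3_11) E3_12) E3_13) E3_14) E3_15) E3_16) E3_17) E3_18))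

noncomputable def E7 : Eqs := [([14,6,4,14,16,14,6,4,2,8,10,14,6,4,8,6,14,16], [6,4,14,16,14,6,4,2,8,10,14,6,4,8,6,14,16,10])]
theorem E7_0 : satSl C24 E7 0 = true := by decide +kernel
theorem E7_1 : satSl C24 E7 1 = true := by decide +kernel
theorem E7_2 : satSl C24 E7 2 = true := by decide +kernel
theorem E7_3 : satSl C24 E7 3 = true := by decide +kernel
theorem E7_4 : satSl C24 E7 4 = true := by decide +kernel
theorem E7_5 : satSl C24 E7 5 = true := by decide +kernel
theorem E7_6 : satSl C24 E7 6 = true := by decide +kernel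
theorem E7_7 : satSl C24 E7 7 = true := by decide +kernel
theorem E7_8 : satSl C24 E7 8 = true := by decide +kernel
theorem E7_9 : satSl C24 E7 9 = true := by decide +kernel
theorem E7_10 : satSl C24 E7 10 = true := by decide +kernel
theorem E7_11 : satSl C24 E7 11 = true := by decide +kernel
theorem E7_12 : satSl C24 E7 12 = true := by decide +kernel
theorem E7_13 : satSl C24 E7 13 = true := by decide +kernel
theorem E7_14 : satSl C24 E7 14 = true := by decide +kernel
theorem E7_15 : satSl C24 E7 15 = true := by decide +kernel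
theorem E7_16 : satSl C24 E7 16 = true := by decide +kernel
theorem E7_17 : satSl C24 E7 17 = true := by decide +kernel
theorem E7_18 : satSl C24 E7 18 = true := by decide +kernel
theorem sE7 : Sat C24.g E7 := sat_of_sl ok24 (show ∀ j < 19, satSl C24 E7 j = true from
  (forall_lt_succ (forall_lt_succ (forall_lt_succ (forall_lt_succ (forall_lt_succ (forall_lt_succ (forall_lt_succ (forall_lt_succ (forall_lt_succ (forall_lt_succ (forall_lt_succ (forall_lt_succ (forall_lt_succ (forall_lt_succ (forall_lt_succ (forall_lt_succ (forall_lt_succ (forall_lt_succ (forall_lt_succ forall_lt_zero E7_0) E7_1) E7_2) E7_3) E7_4) E7_5) E7_6) E7_7) E7_8) E7_9) E7_10) E7_11) E7_12) E7_13) E7_14) E7_15) E7_16) E7_17) E7_18))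

noncomputable def E11 : Eqs := [([16,14,6,4,8,10,2,16,14,6,4,8,6,14,16], [4,6,6,4,14,16,14,6,4,2,8,10,14,6,4,8,6,14,16]), ([16,4,6,6,4,14,16,14,6,4,2,8,10,14,6,4,8,6,14,16], [14,6,4,8,10,2,16,14,6,4,8,6,14,16])]
theorem E11_0 : satSl C24 E11 0 = true := by decide +kernel
theorem E11_1 : satSl C24 E11 1 = true := by decide +kernel
theorem E11_2 : satSl C24 E11 2 = true := by decide +kernel
theorem E11_3 : satSl C24 E11 3 = true := by decide +kernel
theorem E11_4 : satSl C24 E11 4 = true := by decide +kernel
theorem E11_5 : satSl C24 E11 5 = true := by decide +kernel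
theorem E11_6 : satSl C24 E11 6 = true := by decide +kernel
theorem E11_7 : satSl C24 E11 7 = true := by decide +kernel
theorem E11_8 : satSl C24 E11 8 = true := by decide +kernel
theorem E11_9 : satSl C24 E11 9 = true := by decide +kernel
theorem E11_10 : satSl C24 E11 10 = true := by decide +kernel
theorem E11_11 : satSl C24 E11 11 = true := by decide +kernel
theorem E11_12 : satSl C24 E11 12 = true := by decide +kernel
theorem E11_13 : satSl C24 E11 13 = true := by decide +kernel
theorem E11_14 : satSl C24 E11 14 = true := by decide +kernel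
theorem E11_15 : satSl C24 E11 15 = true := by decide +kernel
theorem E11_16 : satSl C24 E11 16 = true := by decide +kernel
theorem E11_17 : satSl C24 E11 17 = true := by decide +kernel
theorem E11_18 : satSl C24 E11 18 = true := by decide +kernel
theorem sE11 : Sat C24.g E11 := sat_of_sl ok24 (show ∀ j < 19, satSl C24 E11 j = true from
  (forall_lt_succ (forall_lt_succ (forall_lt_succ (forall_lt_succ (forall_lt_succ (forall_lt_succ (forall_lt_succ (forall_lt_succ (forall_lt_succ (forall_lt_succ (forall_lt_succ (forall_lt_succ (forall_lt_succ (forall_lt_succ (forall_lt_succ (forall_lt_succ (forall_lt_succ (forall_lt_succ (forall_lt_succ forall_lt_zero E11_0) E11_1) E11_2) E11_3) E11_4) E11_5) E11_6) E11_7) E11_8) E11_9) E11_10) E11_11) E11_12) E11_13) E11_14) E11_15) E11_16) E11_17) E11_18))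

noncomputable def E15 : Eqs := [([6,0,2,4,6,8,10,8,6,4,14,6,8,16,14,6,4,2,0], [0,2,4,6,8,10,8,6,4,14,6,8,16,14,6,4,2,0,16]), ([8,0,2,4,6,8,10,8,6,4,14,6,8,16,14,6,4,2,0], [0,2,4,6,8,10,8,6,4,14,6,8,16,14,6,4,2,0,14])]
theorem E15_0 : satSl C24 E15 0 = true := by decide +kernel
theorem E15_1 : satSl C24 E15 1 = true := by decide +kernel
theorem E15_2 : satSl C24 E15 2 = true := by decide +kernel
theorem E15_3 : satSl C24 E15 3 = true := by decide +kernel
theorem E15_4 : satSl C24 E15 4 = true := by decide +kernel
theorem E15_5 : satSl C24 E15 5 = true := by decide +kernel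
theorem E15_6 : satSl C24 E15 6 = true := by decide +kernel
theorem E15_7 : satSl C24 E15 7 = true := by decide +kernel
theorem E15_8 : satSl C24 E15 8 = true := by decide +kernel
theorem E15_9 : satSl C24 E15 9 = true := by decide +kernel
theorem E15_10 : satSl C24 E15 10 = true := by decide +kernel
theorem E15_11 : satSl C24 E15 11 = true := by decide +kernel
theorem E15_12 : satSl C24 E15 12 = true := by decide +kernel
theorem E15_13 : satSl C24 E15 13 = true := by decide +kernel
theorem E15_14 : satSl C24 E15 14 = true := by decide +kernel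
theorem E15_15 : satSl C24 E15 15 = true := by decide +kernel
theorem E15_16 : satSl C24 E15 16 = true := by decide +kernel
theorem E15_17 : satSl C24 E15 17 = true := by decide +kernel
theorem E15_18 : satSl C24 E15 18 = true := by decide +kernel
theorem sE15 : Sat C24.g E15 := sat_of_sl ok24 (show ∀ j < 19, satSl C24 E15 j = true from
  (forall_lt_succ (forall_lt_succ (forall_lt_succ (forall_lt_succ (forall_lt_succ (forall_lt_succ (forall_lt_succ (forall_lt_succ (forall_lt_succ (forall_lt_succ (forall_lt_succ (forall_lt_succ (forall_lt_succ (forall_lt_succ (forall_lt_succ (forall_lt_succ (forall_lt_succ (forall_lt_succ (forall_lt_succ forall_lt_zero E15_0) E15_1) E15_2) E15_3) E15_4) E15_5) E15_6) E15_7) E15_8) E15_9) E15_10) E15_11) E15_12) E15_13) E15_14) E15_15) E15_16) E15_17) E15_18))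

noncomputable def E19 : Eqs := [([0,2,4,6,8,14,6,4,2,0], [10,8,6,4,2,14,6,4,8,6,10,8,14,6,4,2,0,2,4,6,8,10,14,6,4,2,8,6,4,14,6,8,10,8,6,4,2,14,6,4,8,6,14,2,4,6,8,6,4,2,6,4,6,22])]
theorem E19_0 : satSl C24 E19 0 = true := by decide +kernel
theorem E19_1 : satSl C24 E19 1 = true := by decide +kernel
theorem E19_2 : satSl C24 E19 2 = true := by decide +kernel
theorem E19_3 : satSl C24 E19 3 = true := by decide +kernel
theorem E19_4 : satSl C24 E19 4 = true := by decide +kernel
theorem E19_5 : satSl C24 E19 5 = true := by decide +kernel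
theorem E19_6 : satSl C24 E19 6 = true := by decide +kernel
theorem E19_7 : satSl C24 E19 7 = true := by decide +kernel
theorem E19_8 : satSl C24 E19 8 = true := by decide +kernel
theorem E19_9 : satSl C24 E19 9 = true := by decide +kernel
theorem E19_10 : satSl C24 E19 10 = true := by decide +kernel
theorem E19_11 : satSl C24 E19 11 = true := by decide +kernel
theorem E19_12 : satSl C24 E19 12 = true := by decide +kernel
theorem E19_13 : satSl C24 E19 13 = true := by decide +kernel
theorem E19_14 : satSl C24 E19 14 = true := by decide +kernel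
theorem E19_15 : satSl C24 E19 15 = true := by decide +kernel
theorem E19_16 : satSl C24 E19 16 = true := by decide +kernel
theorem E19_17 : satSl C24 E19 17 = true := by decide +kernel
theorem E19_18 : satSl C24 E19 18 = true := by decide +kernel
theorem sE19 : Sat C24.g E19 := sat_of_sl ok24 (show ∀ j < 19, satSl C24 E19 j = true from
  (forall_lt_succ (forall_lt_succ (forall_lt_succ (forall_lt_succ (forall_lt_succ (forall_lt_succ (forall_lt_succ (forall_lt_succ (forall_lt_succ (forall_lt_succ (forall_lt_succ (forall_lt_succ (forall_lt_succ (forall_lt_succ (forall_lt_succ (forall_lt_succ (forall_lt_succ (forall_lt_succ (forall_lt_succ forall_lt_zero E19_0) E19_1) E19_2) E19_3) E19_4) E19_5) E19_6) E19_7) E19_8) E19_9) E19_10) E19_11) E19_12) E19_13) E19_14) E19_15) E19_16) E19_17) E19_18))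

noncomputable def E23 : Eqs := [([10,12,10,8,6,14,16,26,10,12], [12,10,8,6,14,16,26,10,12,10]), ([14,12,10,8,6,14,16,26,10,12], [12,10,8,6,14,16,26,10,12,6]), ([16,12,10,8,6,14,16,26,10,12], [12,10,8,6,14,16,26,10,12,14]), ([22,12,10,8,6,14,16,26,10,12], [12,10,8,6,14,16,26,10,12,22])]
theorem E23_0 : satSl C24 E23 0 = true := by decide +kernel
theorem E23_1 : satSl C24 E23 1 = true := by decide +kernel
theorem E23_2 : satSl C24 E23 2 = true := by decide +kernel
theorem E23_3 : satSl C24 E23 3 = true := by decide +kernel
theorem E23_4 : satSl C24 E23 4 = true := by decide +kernel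
theorem E23_5 : satSl C24 E23 5 = true := by decide +kernel
theorem E23_6 : satSl C24 E23 6 = true := by decide +kernel
theorem E23_7 : satSl C24 E23 7 = true := by decide +kernel
theorem E23_8 : satSl C24 E23 8 = true := by decide +kernel
theorem E23_9 : satSl C24 E23 9 = true := by decide +kernel
theorem E23_10 : satSl C24 E23 10 = true := by decide +kernel
theorem E23_11 : satSl C24 E23 11 = true := by decide +kernel
theorem E23_12 : satSl C24 E23 12 = true := by decide +kernel
theorem E23_13 : satSl C24 E23 13 = true := by decide +kernel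
theorem E23_14 : satSl C24 E23 14 = true := by decide +kernel
theorem E23_15 : satSl C24 E23 15 = true := by decide +kernel
theorem E23_16 : satSl C24 E23 16 = true := by decide +kernel
theorem E23_17 : satSl C24 E23 17 = true := by decide +kernel
theorem E23_18 : satSl C24 E23 18 = true := by decide +kernel
theorem sE23 : Sat C24.g E23 := sat_of_sl ok24 (show ∀ j < 19, satSl C24 E23 j = true from
  (forall_lt_succ (forall_lt_succ (forall_lt_succ (forall_lt_succ (forall_lt_succ (forall_lt_succ (forall_lt_succ (forall_lt_succ (forall_lt_succ (forall_lt_succ (forall_lt_succ (forall_lt_succ (forall_lt_succ (forall_lt_succ (forall_lt_succ (forall_lt_succ (forall_lt_succ (forall_lt_succ (forall_lt_succ forall_lt_zero E23_0) E23_1) E23_2) E23_3) E23_4) E23_5) E23_6) E23_7) E23_8) E23_9) E23_10) E23_11) E23_12) E23_13) E23_14) E23_15) E23_16) E23_17) E23_18))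

noncomputable def E27 : Eqs := [([12,10,26,12,10,8,6,14,16,26,10,12], [10,26,12,10,8,6,14,16,26,10,12,16]), ([12,6,8,10,8,14,6,4,26,12,10,8,6,14,16,26,10,12], [8,14,26,10,8,6,4,26,12,10,8,6,14,16,26,10,12,24,0,26,10,16,26,16,10,6,4,6]), ([0,18,24,12,18], [18,24,12,18,0])]
theorem E27_0 : satSl C24 E27 0 = true := by decide +kernel
theorem E27_1 : satSl C24 E27 1 = true := by decide +kernel
theorem E27_2 : satSl C24 E27 2 = true := by decide +kernel
theorem E27_3 : satSl C24 E27 3 = true := by decide +kernel
theorem E27_4 : satSl C24 E27 4 = true := by decide +kernel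
theorem E27_5 : satSl C24 E27 5 = true := by decide +kernel
theorem E27_6 : satSl C24 E27 6 = true := by decide +kernel
theorem E27_7 : satSl C24 E27 7 = true := by decide +kernel
theorem E27_8 : satSl C24 E27 8 = true := by decide +kernel
theorem E27_9 : satSl C24 E27 9 = true := by decide +kernel
theorem E27_10 : satSl C24 E27 10 = true := by decide +kernel
theorem E27_11 : satSl C24 E27 11 = true := by decide +kernel
theorem E27_12 : satSl C24 E27 12 = true := by decide +kernel
theorem E27_13 : satSl C24 E27 13 = true := by decide +kernel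
theorem E27_14 : satSl C24 E27 14 = true := by decide +kernel
theorem E27_15 : satSl C24 E27 15 = true := by decide +kernel
theorem E27_16 : satSl C24 E27 16 = true := by decide +kernel
theorem E27_17 : satSl C24 E27 17 = true := by decide +kernel
theorem E27_18 : satSl C24 E27 18 = true := by decide +kernel
theorem sE27 : Sat C24.g E27 := sat_of_sl ok24 (show ∀ j < 19, satSl C24 E27 j = true from
  (forall_lt_succ (forall_lt_succ (forall_lt_succ (forall_lt_succ (forall_lt_succ (forall_lt_succ (forall_lt_succ (forall_lt_succ (forall_lt_succ (forall_lt_succ (forall_lt_succ (forall_lt_succ (forall_lt_succ (forall_lt_succ (forall_lt_succ (forall_lt_succ (forall_lt_succ (forall_lt_succ (forall_lt_succ forall_lt_zero E27_0) E27_1) E27_2) E27_3) E27_4) E27_5) E27_6) E27_7) E27_8) E27_9) E27_10) E27_11) E27_12) E27_13) E27_14) E27_15) E27_16) E27_17) E27_18))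

noncomputable def E31 : Eqs := [([18,12,10,8,6,8,14,16,24,26,10,12,18], [12,10,14,24,26,16,14,6,8,26,10,12,18,8,6,14,10,8,6,16,14,26,16,14,6,8,10,26,24,12,10,26,8,6,14,16,14,6,8,10,12]), ([18,24,18], [24,18,24]), ([18,18], []), ([0,20,22,0,20], [20,22,0,20,22])]
theorem E31_0 : satSl C24 E31 0 = true := by decide +kernel
theorem E31_1 : satSl C24 E31 1 = true := by decide +kernel
theorem E31_2 : satSl C24 E31 2 = true := by decide +kernel
theorem E31_3 : satSl C24 E31 3 = true := by decide +kernel
theorem E31_4 : satSl C24 E31 4 = true := by decide +kernel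
theorem E31_5 : satSl C24 E31 5 = true := by decide +kernel
theorem E31_6 : satSl C24 E31 6 = true := by decide +kernel
theorem E31_7 : satSl C24 E31 7 = true := by decide +kernel
theorem E31_8 : satSl C24 E31 8 = true := by decide +kernel
theorem E31_9 : satSl C24 E31 9 = true := by decide +kernel
theorem E31_10 : satSl C24 E31 10 = true := by decide +kernel
theorem E31_11 : satSl C24 E31 11 = true := by decide +kernel
theorem E31_12 : satSl C24 E31 12 = true := by decide +kernel
theorem E31_13 : satSl C24 E31 13 = true := by decide +kernel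
theorem E31_14 : satSl C24 E31 14 = true := by decide +kernel
theorem E31_15 : satSl C24 E31 15 = true := by decide +kernel
theorem E31_16 : satSl C24 E31 16 = true := by decide +kernel
theorem E31_17 : satSl C24 E31 17 = true := by decide +kernel
theorem E31_18 : satSl C24 E31 18 = true := by decide +kernel
theorem sE31 : Sat C24.g E31 := sat_of_sl ok24 (show ∀ j < 19, satSl C24 E31 j = true from
  (forall_lt_succ (forall_lt_succ (forall_lt_succ (forall_lt_succ (forall_lt_succ (forall_lt_succ (forall_lt_succ (forall_lt_succ (forall_lt_succ (forall_lt_succ (forall_lt_succ (forall_lt_succ (forall_lt_succ (forall_lt_succ (forall_lt_succ (forall_lt_succ (forall_lt_succ (forall_lt_succ (forall_lt_succ forall_lt_zero E31_0) E31_1) E31_2) E31_3) E31_4) E31_5) E31_6) E31_7) E31_8) E31_9) E31_10) E31_11) E31_12) E31_13) E31_14) E31_15) E31_16) E31_17) E31_18))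

noncomputable def E35 : Eqs := [([26,10,8,12,16,18,26,2,10,12,26,10,8,6,14,16,14,6,8,10,26,12,10,2,26,18,16,12,8,10,26,20], [20,26,10,8,12,16,18,26,2,10,12,26,10,8,6,14,16,14,6,8,10,26,12,10,2,26,18,16,12,8,10,26]), ([20], [20])]
theorem E35_0 : satSl C24 E35 0 = true := by decide +kernel
theorem E35_1 : satSl C24 E35 1 = true := by decide +kernel
theorem E35_2 : satSl C24 E35 2 = true := by decide +kernel
theorem E35_3 : satSl C24 E35 3 = true := by decide +kernel
theorem E35_4 : satSl C24 E35 4 = true := by decide +kernel
theorem E35_5 : satSl C24 E35 5 = true := by decide +kernel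
theorem E35_6 : satSl C24 E35 6 = true := by decide +kernel
theorem E35_7 : satSl C24 E35 7 = true := by decide +kernel
theorem E35_8 : satSl C24 E35 8 = true := by decide +kernel
theorem E35_9 : satSl C24 E35 9 = true := by decide +kernel
theorem E35_10 : satSl C24 E35 10 = true := by decide +kernel
theorem E35_11 : satSl C24 E35 11 = true := by decide +kernel
theorem E35_12 : satSl C24 E35 12 = true := by decide +kernel
theorem E35_13 : satSl C24 E35 13 = true := by decide +kernel
theorem E35_14 : satSl C24 E35 14 = true := by decide +kernel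
theorem E35_15 : satSl C24 E35 15 = true := by decide +kernel
theorem E35_16 : satSl C24 E35 16 = true := by decide +kernel
theorem E35_17 : satSl C24 E35 17 = true := by decide +kernel
theorem E35_18 : satSl C24 E35 18 = true := by decide +kernel
theorem sE35 : Sat C24.g E35 := sat_of_sl ok24 (show ∀ j < 19, satSl C24 E35 j = true from
  (forall_lt_succ (forall_lt_succ (forall_lt_succ (forall_lt_succ (forall_lt_succ (forall_lt_succ (forall_lt_succ (forall_lt_succ (forall_lt_succ (forall_lt_succ (forall_lt_succ (forall_lt_succ (forall_lt_succ (forall_lt_succ (forall_lt_succ (forall_lt_succ (forall_lt_succ (forall_lt_succ (forall_lt_succ forall_lt_zero E35_0) E35_1) E35_2) E35_3) E35_4) E35_5) E35_6) E35_7) E35_8) E35_9) E35_10) E35_11) E35_12) E35_13) E35_14) E35_15) E35_16) E35_17) E35_18))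

end CA.Fi
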