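import Cfsg.Agent.Lib.Fi.Sat24a
import Cfsg.Agent.Lib.Fi.Sat24b
import Cfsg.Agent.Lib.Fi.Sat24c
import Cfsg.Agent.Lib.Fi.Sat24d
import Cfsg.Agent.Lib.Fi.PD

set_option Elab.async false
set_option maxRecDepth 100000

namespace CA.Fi
open CA.CNet CA.CWord CA.CLevel CA.H27Pres

theorem sat24 : Sat C24.g Rk := Sat.sub (sE37.lapp (sE36.lapp (sE35.lapp (sE34.lapp (sE33.lapp (sE32.lapp (sE31.lapp (sE30.lapp (sE29.lapp (sE28.lapp (sE27.lapp (sE26.lapp (sE25.lapp (sE24.lapp (sE23.lapp (sE22.lapp (sE21.lapp (sE20.lapp (sE19.lapp (sE18.lapp (sE17.lapp (sE16.lapp (sE15.lapp (sE14.lapp (sE13.lapp (sE12.lapp (sE11.lapp (sE10.lapp (sE9.lapp (sE8.lapp (sE7.lapp (sE6.lapp (sE5.lapp (sE4.lapp (sE3.lapp (sE2.lapp (sE1.lapp (sE0)))))))))))))))))))))))))))))))))))))) (by decide +kernel)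

theorem sat24j : Sat C24.g Rj := sat24.left
theorem sat24g : Sat C24.g Rg := sat24j.left
theorem sat24m : Sat C24.g Rm := sat24g.left
theorem sat24n : Sat C24.g Rn := sat24m.left
theorem sat24a : Sat C24.g Ra := sat24n.left
theorem sat24l : Sat C24.g Rl := sat24a.left
theorem sat24i : Sat C24.g Ri := sat24l.left
theorem sat24f : Sat C24.g Rf := sat24i.left
theorem sat24h : Sat C24.g Rh := sat24f.left
theorem sat24e : Sat C24.g Re := sat24h.left
theorem sat24b : Sat C24.g Rb := sat24e.left
theorem sat24c : Sat C24.g Rc := sat24b.left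
theorem sat24d : Sat C24.g Rd := sat24c.left
theorem res23n : Res C23 C24 13 := res_of ok23 ok24 (by decide +kernel)
theorem res23m : Res C23 C24 12 := res_of ok23 ok24 (by decide +kernel)
theorem res23l : Res C23 C24 11 := res_of ok23 ok24 (by decide +kernel)
theorem res23j : Res C23 C24 9 := res_of ok23 ok24 (by decide +kernel)
theorem res23i : Res C23 C24 8 := res_of ok23 ok24 (by decide +kernel)
theorem res23h : Res C23 C24 7 := res_of ok23 ok24 (by decide +kernel)
theorem res23g : Res C23 C24 6 := res_of ok23 ok24 (by decide +kernel)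
theorem res23f : Res C23 C24 5 := res_of ok23 ok24 (by decide +kernel)
theorem res23e : Res C23 C24 4 := res_of ok23 ok24 (by decide +kernel)
theorem res23d : Res C23 C24 3 := res_of ok23 ok24 (by decide +kernel)
theorem res23c : Res C23 C24 2 := res_of ok23 ok24 (by decide +kernel)
theorem res23b : Res C23 C24 1 := res_of ok23 ok24 (by decide +kernel)
theorem res23a : Res C23 C24 0 := res_of ok23 ok24 (by decide +kernel)
def l23 : List ℕ := [0,1,2,3,4,5,6,7,8,9,11,12,13]
theorem res23 : ∀ i ∈ l23, Res C23 C24 i := (all_cons res23a (all_cons res23b (all_cons res23c (all_cons res23d (all_cons res23e (all_cons res23f (all_cons res23g (all_cons res23h (all_cons res23i (all_cons res23j (all_cons res23l (all_cons res23m (all_cons res23n all_nil)))))))))))))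
theorem lt23 : C23.n < C24.n := by decide

theorem res22n : Res C22 C23 13 := res_of ok22 ok23 (by decide +kernel)
theorem res22m : Res C22 C23 12 := res_of ok22 ok23 (by decide +kernel)
theorem res22l : Res C22 C23 11 := res_of ok22 ok23 (by decide +kernel)
theorem res22i : Res C22 C23 8 := res_of ok22 ok23 (by decide +kernel)
theorem res22h : Res C22 C23 7 := res_of ok22 ok23 (by decide +kernel)
theorem res22g : Res C22 C23 6 := res_of ok22 ok23 (by decide +kernel)
theorem res22f : Res C22 C23 5 := res_of ok22 ok23 (by decide +kernel)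
theorem res22e : Res C22 C23 4 := res_of ok22 ok23 (by decide +kernel)
theorem res22d : Res C22 C23 3 := res_of ok22 ok23 (by decide +kernel)
theorem res22c : Res C22 C23 2 := res_of ok22 ok23 (by decide +kernel)
theorem res22b : Res C22 C23 1 := res_of ok22 ok23 (by decide +kernel)
theorem res22a : Res C22 C23 0 := res_of ok22 ok23 (by decide +kernel)
def l22 : List ℕ := [0,1,2,3,4,5,6,7,8,11,12,13]
theorem res22 : ∀ i ∈ l22, Res C22 C23 i := (all_cons res22a (all_cons res22b (all_cons res22c (all_cons res22d (all_cons res22e (all_cons res22f (all_cons res22g (all_cons res22h (all_cons res22i (all_cons res22l (all_cons res22m (all_cons res22n all_nil))))))))))))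
theorem lt22 : C22.n < C23.n := by decide

theorem res21n : Res C21 C22 13 := res_of ok21 ok22 (by decide +kernel)
theorem res21m : Res C21 C22 12 := res_of ok21 ok22 (by decide +kernel)
theorem res21l : Res C21 C22 11 := res_of ok21 ok22 (by decide +kernel)
theorem res21i : Res C21 C22 8 := res_of ok21 ok22 (by decide +kernel)
theorem res21h : Res C21 C22 7 := res_of ok21 ok22 (by decide +kernel)
theorem res21g : Res C21 C22 6 := res_of ok21 ok22 (by decide +kernel)
theorem res21f : Res C21 C22 5 := res_of ok21 ok22 (by decide +kernel)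
theorem res21e : Res C21 C22 4 := res_of ok21 ok22 (by decide +kernel)
theorem res21d : Res C21 C22 3 := res_of ok21 ok22 (by decide +kernel)
theorem res21c : Res C21 C22 2 := res_of ok21 ok22 (by decide +kernel)
theorem res21a : Res C21 C22 0 := res_of ok21 ok22 (by decide +kernel)
def l21 : List ℕ := [0,2,3,4,5,6,7,8,11,12,13]
theorem res21 : ∀ i ∈ l21, Res C21 C22 i := (all_cons res21a (all_cons res21c (all_cons res21d (all_cons res21e (all_cons res21f (all_cons res21g (all_cons res21h (all_cons res21i (all_cons res21l (all_cons res21m (all_cons res21n all_nil)))))))))))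
theorem lt21 : C21.n < C22.n := by decide

theorem sat23 : Sat C23.g Rj := Sat.res lt23 res23 sat24j (by decide +kernel)
theorem sat22 : Sat C22.g Rg := Sat.res lt22 res22 sat23.left (by decide +kernel)
end CA.Fi
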