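import Cfsg.Agent.Lib.Fi.Ctx
import Cfsg.Agent.Lib.Comp.H27Pres

set_option Elab.async false
set_option maxRecDepth 100000

namespace CA.Fi
open CA.CNet CA.CWord CA.CLevel CA.H27Pres

noncomputable def E0 : Eqs := [([6,6], []), ([4], [4]), ([4,4], []), ([4,6,4], [6,4,6]), ([6,2], [2,6]), ([2], [2]), ([2,2], []), ([2,4,2], [4,2,4]), ([2,8], [8,2]), ([4,8], [8,4]), ([8], [8]), ([8,8], []), ([8,6,8], [6,8,6]), ([2,14], [14,2]), ([4,14], [14,4]), ([8,14], [14,8]), ([4,14,6,4,8,6,14], [14,6,4,8,6,14,8]), ([6,14,6,4,8,6,14], [14,6,4,8,6,14,6]), ([8,14,6,4,8,6,14], [14,6,4,8,6,14,4]), ([14], [14])]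
theorem E0_0 : satSl C24 E0 0 = true := by decide +kernel
theorem E0_1 : satSl C24 E0 1 = true := by decide +kernel
theorem E0_2 : satSl C24 E0 2 = true := by decide +kernel
theorem E0_3 : satSl C24 E0 3 = true := by decide +kernel
theorem E0_4 : satSl C24 E0 4 = true := by decide +kernel
theorem E0_5 : satSl C24 E0 5 = true := by decide +kernel
theorem E0_6 : satSl C24 E0 6 = true := by decide +kernel
theorem E0_7 : satSl C24 E0 7 = true := by decide +kernel
theorem E0_8 : satSl C24 E0 8 = true := by decide +kernel
theorem E0_9 : satSl C24 E0 9 = true := by decide +kernel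
theorem E0_10 : satSl C24 E0 10 = true := by decide +kernel
theorem E0_11 : satSl C24 E0 11 = true := by decide +kernel
theorem E0_12 : satSl C24 E0 12 = true := by decide +kernel
theorem E0_13 : satSl C24 E0 13 = true := by decide +kernel
theorem E0_14 : satSl C24 E0 14 = true := by decide +kernel
theorem E0_15 : satSl C24 E0 15 = true := by decide +kernel
theorem E0_16 : satSl C24 E0 16 = true := by decide +kernel
theorem E0_17 : satSl C24 E0 17 = true := by decide +kernel
theorem E0_18 : satSl C24 E0 18 = true := by decide +kernel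
theorem sE0 : Sat C24.g E0 := sat_of_sl ok24 (show ∀ j < 19, satSl C24 E0 j = true from
  (forall_lt_succ (forall_lt_succ (forall_lt_succ (forall_lt_succ (forall_lt_succ (forall_lt_succ (forall_lt_succ (forall_lt_succ (forall_lt_succ (forall_lt_succ (forall_lt_succ (forall_lt_succ (forall_lt_succ (forall_lt_succ (forall_lt_succ (forall_lt_succ (forall_lt_succ (forall_lt_succ (forall_lt_succ forall_lt_zero E0_0) E0_1) E0_2) E0_3) E0_4) E0_5) E0_6) E0_7) E0_8) E0_9) E0_10) E0_11) E0_12) E0_13) E0_14) E0_15) E0_16) E0_17) E0_18))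

noncomputable def E4 : Eqs := [([6,16], [16,6]), ([8,16], [16,8]), ([10,16], [16,10]), ([6,2,16,14,6,4,8,6,14,16], [2,16,14,6,4,8,6,14,16,6]), ([8,2,16,14,6,4,8,6,14,16], [2,16,14,6,4,8,6,14,16,4])]
theorem E4_0 : satSl C24 E4 0 = true := by decide +kernel
theorem E4_1 : satSl C24 E4 1 = true := by decide +kernel
theorem E4_2 : satSl C24 E4 2 = true := by decide +kernel
theorem E4_3 : satSl C24 E4 3 = true := by decide +kernel
theorem E4_4 : satSl C24 E4 4 = true := by decide +kernel
theorem E4_5 : satSl C24 E4 5 = true := by decide +kernel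
theorem E4_6 : satSl C24 E4 6 = true := by decide +kernel
theorem E4_7 : satSl C24 E4 7 = true := by decide +kernel
theorem E4_8 : satSl C24 E4 8 = true := by decide +kernel
theorem E4_9 : satSl C24 E4 9 = true := by decide +kernel
theorem E4_10 : satSl C24 E4 10 = true := by decide +kernel
theorem E4_11 : satSl C24 E4 11 = true := by decide +kernel
theorem E4_12 : satSl C24 E4 12 = true := by decide +kernel
theorem E4_13 : satSl C24 E4 13 = true := by decide +kernel
theorem E4_14 : satSl C24 E4 14 = true := by decide +kernel
theorem E4_15 : satSl C24 E4 15 = true := by decide +kernel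
theorem E4_16 : satSl C24 E4 16 = true := by decide +kernel
theorem E4_17 : satSl C24 E4 17 = true := by decide +kernel
theorem E4_18 : satSl C24 E4 18 = true := by decide +kernel
theorem sE4 : Sat C24.g E4 := sat_of_sl ok24 (show ∀ j < 19, satSl C24 E4 j = true from
  (forall_lt_succ (forall_lt_succ (forall_lt_succ (forall_lt_succ (forall_lt_succ (forall_lt_succ (forall_lt_succ (forall_lt_succ (forall_lt_succ (forall_lt_succ (forall_lt_succ (forall_lt_succ (forall_lt_succ (forall_lt_succ (forall_lt_succ (forall_lt_succ (forall_lt_succ (forall_lt_succ (forall_lt_succ forall_lt_zero E4_0) E4_1) E4_2) E4_3) E4_4) E4_5) E4_6) E4_7) E4_8) E4_9) E4_10) E4_11) E4_12) E4_13) E4_14) E4_15) E4_16) E4_17) E4_18))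

noncomputable def E8 : Eqs := [([6,8,10,4,6,4,2,8,6,4,14,16,14,6,4,2,8,10,14,6,4,8,6,14,16], [6,4,14,16,14,6,4,2,8,10,14,6,4,8,6,14,16,10,8,6,4,14,6,8,10,2,4,6,14,8,6,4,2]), ([16], [16]), ([16,16], []), ([16,14,16], [14,16,14])]
theorem E8_0 : satSl C24 E8 0 = true := by decide +kernel
theorem E8_1 : satSl C24 E8 1 = true := by decide +kernel
theorem E8_2 : satSl C24 E8 2 = true := by decide +kernel
theorem E8_3 : satSl C24 E8 3 = true := by decide +kernel
theorem E8_4 : satSl C24 E8 4 = true := by decide +kernel
theorem E8_5 : satSl C24 E8 5 = true := by decide +kernel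
theorem E8_6 : satSl C24 E8 6 = true := by decide +kernel
theorem E8_7 : satSl C24 E8 7 = true := by decide +kernel
theorem E8_8 : satSl C24 E8 8 = true := by decide +kernel
theorem E8_9 : satSl C24 E8 9 = true := by decide +kernel
theorem E8_10 : satSl C24 E8 10 = true := by decide +kernel
theorem E8_11 : satSl C24 E8 11 = true := by decide +kernel
theorem E8_12 : satSl C24 E8 12 = true := by decide +kernel
theorem E8_13 : satSl C24 E8 13 = true := by decide +kernel
theorem E8_14 : satSl C24 E8 14 = true := by decide +kernel
theorem E8_15 : satSl C24 E8 15 = true := by decide +kernel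
theorem E8_16 : satSl C24 E8 16 = true := by decide +kernel
theorem E8_17 : satSl C24 E8 17 = true := by decide +kernel
theorem E8_18 : satSl C24 E8 18 = true := by decide +kernel
theorem sE8 : Sat C24.g E8 := sat_of_sl ok24 (show ∀ j < 19, satSl C24 E8 j = true from
  (forall_lt_succ (forall_lt_succ (forall_lt_succ (forall_lt_succ (forall_lt_succ (forall_lt_succ (forall_lt_succ (forall_lt_succ (forall_lt_succ (forall_lt_succ (forall_lt_succ (forall_lt_succ (forall_lt_succ (forall_lt_succ (forall_lt_succ (forall_lt_succ (forall_lt_succ (forall_lt_succ (forall_lt_succ forall_lt_zero E8_0) E8_1) E8_2) E8_3) E8_4) E8_5) E8_6) E8_7) E8_8) E8_9) E8_10) E8_11) E8_12) E8_13) E8_14) E8_15) E8_16) E8_17) E8_18))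

noncomputable def E12 : Eqs := [([16,14,6,8,6,4,14,16,14,6,4,2,8,10,14,6,4,8,6,14,16], [14,6,8,6,4,14,16,14,6,4,2,8,10,14,6,4,8,6,14,16,6])]
theorem E12_0 : satSl C24 E12 0 = true := by decide +kernel
theorem E12_1 : satSl C24 E12 1 = true := by decide +kernel
theorem E12_2 : satSl C24 E12 2 = true := by decide +kernel
theorem E12_3 : satSl C24 E12 3 = true := by decide +kernel
theorem E12_4 : satSl C24 E12 4 = true := by decide +kernel
theorem E12_5 : satSl C24 E12 5 = true := by decide +kernel
theorem E12_6 : satSl C24 E12 6 = true := by decide +kernel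
theorem E12_7 : satSl C24 E12 7 = true := by decide +kernel
theorem E12_8 : satSl C24 E12 8 = true := by decide +kernel
theorem E12_9 : satSl C24 E12 9 = true := by decide +kernel
theorem E12_10 : satSl C24 E12 10 = true := by decide +kernel
theorem E12_11 : satSl C24 E12 11 = true := by decide +kernel
theorem E12_12 : satSl C24 E12 12 = true := by decide +kernel
theorem E12_13 : satSl C24 E12 13 = true := by decide +kernel
theorem E12_14 : satSl C24 E12 14 = true := by decide +kernel
theorem E12_15 : satSl C24 E12 15 = true := by decide +kernel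
theorem E12_16 : satSl C24 E12 16 = true := by decide +kernel
theorem E12_17 : satSl C24 E12 17 = true := by decide +kernel
theorem E12_18 : satSl C24 E12 18 = true := by decide +kernel
theorem sE12 : Sat C24.g E12 := sat_of_sl ok24 (show ∀ j < 19, satSl C24 E12 j = true from
  (forall_lt_succ (forall_lt_succ (forall_lt_succ (forall_lt_succ (forall_lt_succ (forall_lt_succ (forall_lt_succ (forall_lt_succ (forall_lt_succ (forall_lt_succ (forall_lt_succ (forall_lt_succ (forall_lt_succ (forall_lt_succ (forall_lt_succ (forall_lt_succ (forall_lt_succ (forall_lt_succ (forall_lt_succ forall_lt_zero E12_0) E12_1) E12_2) E12_3) E12_4) E12_5) E12_6) E12_7) E12_8) E12_9) E12_10) E12_11) E12_12) E12_13) E12_14) E12_15) E12_16) E12_17) E12_18))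

noncomputable def E16 : Eqs := [([16,0,2,4,6,8,10,8,6,4,14,6,8,16,14,6,4,2,0], [0,2,4,6,8,10,8,6,4,14,6,8,16,14,6,4,2,0,8]), ([22,0,2,4,6,8,10,8,6,4,14,6,8,16,14,6,4,2,0], [0,2,4,6,8,10,8,6,4,14,6,8,16,14,6,4,2,0,22])]
theorem E16_0 : satSl C24 E16 0 = true := by decide +kernel
theorem E16_1 : satSl C24 E16 1 = true := by decide +kernel
theorem E16_2 : satSl C24 E16 2 = true := by decide +kernel
theorem E16_3 : satSl C24 E16 3 = true := by decide +kernel
theorem E16_4 : satSl C24 E16 4 = true := by decide +kernel
theorem E16_5 : satSl C24 E16 5 = true := by decide +kernel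
theorem E16_6 : satSl C24 E16 6 = true := by decide +kernel
theorem E16_7 : satSl C24 E16 7 = true := by decide +kernel
theorem E16_8 : satSl C24 E16 8 = true := by decide +kernel
theorem E16_9 : satSl C24 E16 9 = true := by decide +kernel
theorem E16_10 : satSl C24 E16 10 = true := by decide +kernel
theorem E16_11 : satSl C24 E16 11 = true := by decide +kernel
theorem E16_12 : satSl C24 E16 12 = true := by decide +kernel
theorem E16_13 : satSl C24 E16 13 = true := by decide +kernel
theorem E16_14 : satSl C24 E16 14 = true := by decide +kernel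
theorem E16_15 : satSl C24 E16 15 = true := by decide +kernel
theorem E16_16 : satSl C24 E16 16 = true := by decide +kernel
theorem E16_17 : satSl C24 E16 17 = true := by decide +kernel
theorem E16_18 : satSl C24 E16 18 = true := by decide +kernel
theorem sE16 : Sat C24.g E16 := sat_of_sl ok24 (show ∀ j < 19, satSl C24 E16 j = true from
  (forall_lt_succ (forall_lt_succ (forall_lt_succ (forall_lt_succ (forall_lt_succ (forall_lt_succ (forall_lt_succ (forall_lt_succ (forall_lt_succ (forall_lt_succ (forall_lt_succ (forall_lt_succ (forall_lt_succ (forall_lt_succ (forall_lt_succ (forall_lt_succ (forall_lt_succ (forall_lt_succ (forall_lt_succ forall_lt_zero E16_0) E16_1) E16_2) E16_3) E16_4) E16_5) E16_6) E16_7) E16_8) E16_9) E16_10) E16_11) E16_12) E16_13) E16_14) E16_15) E16_16) E16_17) E16_18))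

noncomputable def E20 : Eqs := [([0,2,4,6,4,8,10,14,6,8,16,14,6,4,2,0], [8,10,0,2,4,6,8,10,8,6,4,14,6,8,16,14,6,4,2,0]), ([0,8,10,0,2,4,6,8,10,8,6,4,14,6,8,16,14,6,4,2,0], [2,4,6,4,8,10,14,6,8,16,14,6,4,2,0])]
theorem E20_0 : satSl C24 E20 0 = true := by decide +kernel
theorem E20_1 : satSl C24 E20 1 = true := by decide +kernel
theorem E20_2 : satSl C24 E20 2 = true := by decide +kernel
theorem E20_3 : satSl C24 E20 3 = true := by decide +kernel
theorem E20_4 : satSl C24 E20 4 = true := by decide +kernel
theorem E20_5 : satSl C24 E20 5 = true := by decide +kernel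
theorem E20_6 : satSl C24 E20 6 = true := by decide +kernel
theorem E20_7 : satSl C24 E20 7 = true := by decide +kernel
theorem E20_8 : satSl C24 E20 8 = true := by decide +kernel
theorem E20_9 : satSl C24 E20 9 = true := by decide +kernel
theorem E20_10 : satSl C24 E20 10 = true := by decide +kernel
theorem E20_11 : satSl C24 E20 11 = true := by decide +kernel
theorem E20_12 : satSl C24 E20 12 = true := by decide +kernel
theorem E20_13 : satSl C24 E20 13 = true := by decide +kernel
theorem E20_14 : satSl C24 E20 14 = true := by decide +kernel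
theorem E20_15 : satSl C24 E20 15 = true := by decide +kernel
theorem E20_16 : satSl C24 E20 16 = true := by decide +kernel
theorem E20_17 : satSl C24 E20 17 = true := by decide +kernel
theorem E20_18 : satSl C24 E20 18 = true := by decide +kernel
theorem sE20 : Sat C24.g E20 := sat_of_sl ok24 (show ∀ j < 19, satSl C24 E20 j = true from
  (forall_lt_succ (forall_lt_succ (forall_lt_succ (forall_lt_succ (forall_lt_succ (forall_lt_succ (forall_lt_succ (forall_lt_succ (forall_lt_succ (forall_lt_succ (forall_lt_succ (forall_lt_succ (forall_lt_succ (forall_lt_succ (forall_lt_succ (forall_lt_succ (forall_lt_succ (forall_lt_succ (forall_lt_succ forall_lt_zero E20_0) E20_1) E20_2) E20_3) E20_4) E20_5) E20_6) E20_7) E20_8) E20_9) E20_10) E20_11) E20_12) E20_13) E20_14) E20_15) E20_16) E20_17) E20_18))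

noncomputable def E24 : Eqs := [([24,12,10,8,6,14,16,26,10,12], [12,10,8,6,14,16,26,10,12,24]), ([26,10,4,2,26,8,0,2,4,10,26,12,10,8,6,14,16,26,10,12], [12,10,8,6,14,16,26,10,12,24,8,6,4,2,0,16,4,6,8,10,2,4,6,8,6,4,2,6])]
theorem E24_0 : satSl C24 E24 0 = true := by decide +kernel
theorem E24_1 : satSl C24 E24 1 = true := by decide +kernel
theorem E24_2 : satSl C24 E24 2 = true := by decide +kernel
theorem E24_3 : satSl C24 E24 3 = true := by decide +kernel
theorem E24_4 : satSl C24 E24 4 = true := by decide +kernel
theorem E24_5 : satSl C24 E24 5 = true := by decide +kernel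
theorem E24_6 : satSl C24 E24 6 = true := by decide +kernel
theorem E24_7 : satSl C24 E24 7 = true := by decide +kernel
theorem E24_8 : satSl C24 E24 8 = true := by decide +kernel
theorem E24_9 : satSl C24 E24 9 = true := by decide +kernel
theorem E24_10 : satSl C24 E24 10 = true := by decide +kernel
theorem E24_11 : satSl C24 E24 11 = true := by decide +kernel
theorem E24_12 : satSl C24 E24 12 = true := by decide +kernel
theorem E24_13 : satSl C24 E24 13 = true := by decide +kernel
theorem E24_14 : satSl C24 E24 14 = true := by decide +kernel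
theorem E24_15 : satSl C24 E24 15 = true := by decide +kernel
theorem E24_16 : satSl C24 E24 16 = true := by decide +kernel
theorem E24_17 : satSl C24 E24 17 = true := by decide +kernel
theorem E24_18 : satSl C24 E24 18 = true := by decide +kernel
theorem sE24 : Sat C24.g E24 := sat_of_sl ok24 (show ∀ j < 19, satSl C24 E24 j = true from
  (forall_lt_succ (forall_lt_succ (forall_lt_succ (forall_lt_succ (forall_lt_succ (forall_lt_succ (forall_lt_succ (forall_lt_succ (forall_lt_succ (forall_lt_succ (forall_lt_succ (forall_lt_succ (forall_lt_succ (forall_lt_succ (forall_lt_succ (forall_lt_succ (forall_lt_succ (forall_lt_succ (forall_lt_succ forall_lt_zero E24_0) E24_1) E24_2) E24_3) E24_4) E24_5) E24_6) E24_7) E24_8) E24_9) E24_10) E24_11) E24_12) E24_13) E24_14) E24_15) E24_16) E24_17) E24_18))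

noncomputable def E28 : Eqs := [([2,18,24,12,18], [18,24,12,18,2]), ([4,18,24,12,18], [18,24,12,18,4]), ([6,18,24,12,18], [18,24,12,18,6]), ([8,18,24,12,18], [18,24,12,18,8]), ([12,18,24,12,18], [18,24,12,18,24]), ([14,18,24,12,18], [18,24,12,18,14]), ([16,18,24,12,18], [18,24,12,18,16])]
theorem E28_0 : satSl C24 E28 0 = true := by decide +kernel
theorem E28_1 : satSl C24 E28 1 = true := by decide +kernel
theorem E28_2 : satSl C24 E28 2 = true := by decide +kernel
theorem E28_3 : satSl C24 E28 3 = true := by decide +kernel
theorem E28_4 : satSl C24 E28 4 = true := by decide +kernel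
theorem E28_5 : satSl C24 E28 5 = true := by decide +kernel
theorem E28_6 : satSl C24 E28 6 = true := by decide +kernel
theorem E28_7 : satSl C24 E28 7 = true := by decide +kernel
theorem E28_8 : satSl C24 E28 8 = true := by decide +kernel
theorem E28_9 : satSl C24 E28 9 = true := by decide +kernel
theorem E28_10 : satSl C24 E28 10 = true := by decide +kernel
theorem E28_11 : satSl C24 E28 11 = true := by decide +kernel
theorem E28_12 : satSl C24 E28 12 = true := by decide +kernel
theorem E28_13 : satSl C24 E28 13 = true := by decide +kernel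
theorem E28_14 : satSl C24 E28 14 = true := by decide +kernel
theorem E28_15 : satSl C24 E28 15 = true := by decide +kernel
theorem E28_16 : satSl C24 E28 16 = true := by decide +kernel
theorem E28_17 : satSl C24 E28 17 = true := by decide +kernel
theorem E28_18 : satSl C24 E28 18 = true := by decide +kernel
theorem sE28 : Sat C24.g E28 := sat_of_sl ok24 (show ∀ j < 19, satSl C24 E28 j = true from
  (forall_lt_succ (forall_lt_succ (forall_lt_succ (forall_lt_succ (forall_lt_succ (forall_lt_succ (forall_lt_succ (forall_lt_succ (forall_lt_succ (forall_lt_succ (forall_lt_succ (forall_lt_succ (forall_lt_succ (forall_lt_succ (forall_lt_succ (forall_lt_succ (forall_lt_succ (forall_lt_succ (forall_lt_succ forall_lt_zero E28_0) E28_1) E28_2) E28_3) E28_4) E28_5) E28_6) E28_7) E28_8) E28_9) E28_10) E28_11) E28_12) E28_13) E28_14) E28_15) E28_16) E28_17) E28_18))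

noncomputable def E32 : Eqs := [([4,20,22,0,20], [20,22,0,20,4]), ([6,20,22,0,20], [20,22,0,20,6]), ([8,20,22,0,20], [20,22,0,20,8]), ([10,20,22,0,20], [20,22,0,20,10]), ([12,20,22,0,20], [20,22,0,20,12]), ([14,20,22,0,20], [20,22,0,20,14]), ([16,20,22,0,20], [20,22,0,20,16])]
theorem E32_0 : satSl C24 E32 0 = true := by decide +kernel
theorem E32_1 : satSl C24 E32 1 = true := by decide +kernel
theorem E32_2 : satSl C24 E32 2 = true := by decide +kernel
theorem E32_3 : satSl C24 E32 3 = true := by decide +kernel
theorem E32_4 : satSl C24 E32 4 = true := by decide +kernel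
theorem E32_5 : satSl C24 E32 5 = true := by decide +kernel
theorem E32_6 : satSl C24 E32 6 = true := by decide +kernel
theorem E32_7 : satSl C24 E32 7 = true := by decide +kernel
theorem E32_8 : satSl C24 E32 8 = true := by decide +kernel
theorem E32_9 : satSl C24 E32 9 = true := by decide +kernel
theorem E32_10 : satSl C24 E32 10 = true := by decide +kernel
theorem E32_11 : satSl C24 E32 11 = true := by decide +kernel
theorem E32_12 : satSl C24 E32 12 = true := by decide +kernel
theorem E32_13 : satSl C24 E32 13 = true := by decide +kernel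
theorem E32_14 : satSl C24 E32 14 = true := by decide +kernel
theorem E32_15 : satSl C24 E32 15 = true := by decide +kernel
theorem E32_16 : satSl C24 E32 16 = true := by decide +kernel
theorem E32_17 : satSl C24 E32 17 = true := by decide +kernel
theorem E32_18 : satSl C24 E32 18 = true := by decide +kernel
theorem sE32 : Sat C24.g E32 := sat_of_sl ok24 (show ∀ j < 19, satSl C24 E32 j = true from
  (forall_lt_succ (forall_lt_succ (forall_lt_succ (forall_lt_succ (forall_lt_succ (forall_lt_succ (forall_lt_succ (forall_lt_succ (forall_lt_succ (forall_lt_succ (forall_lt_succ (forall_lt_succ (forall_lt_succ (forall_lt_succ (forall_lt_succ (forall_lt_succ (forall_lt_succ (forall_lt_succ (forall_lt_succ forall_lt_zero E32_0) E32_1) E32_2) E32_3) E32_4) E32_5) E32_6) E32_7) E32_8) E32_9) E32_10) E32_11) E32_12) E32_13) E32_14) E32_15) E32_16) E32_17) E32_18))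

noncomputable def E36 : Eqs := [([20,0,2,20,22,0,20], [0,2,20,22,0,20,2]), ([20,20,22,0,20], [0,22,20]), ([20,0,20], [0,20,0]), ([20,0,22,20], [20,22,0,20])]
theorem E36_0 : satSl C24 E36 0 = true := by decide +kernel
theorem E36_1 : satSl C24 E36 1 = true := by decide +kernel
theorem E36_2 : satSl C24 E36 2 = true := by decide +kernel
theorem E36_3 : satSl C24 E36 3 = true := by decide +kernel
theorem E36_4 : satSl C24 E36 4 = true := by decide +kernel
theorem E36_5 : satSl C24 E36 5 = true := by decide +kernel
theorem E36_6 : satSl C24 E36 6 = true := by decide +kernel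
theorem E36_7 : satSl C24 E36 7 = true := by decide +kernel
theorem E36_8 : satSl C24 E36 8 = true := by decide +kernel
theorem E36_9 : satSl C24 E36 9 = true := by decide +kernel
theorem E36_10 : satSl C24 E36 10 = true := by decide +kernel
theorem E36_11 : satSl C24 E36 11 = true := by decide +kernel
theorem E36_12 : satSl C24 E36 12 = true := by decide +kernel
theorem E36_13 : satSl C24 E36 13 = true := by decide +kernel
theorem E36_14 : satSl C24 E36 14 = true := by decide +kernel
theorem E36_15 : satSl C24 E36 15 = true := by decide +kernel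
theorem E36_16 : satSl C24 E36 16 = true := by decide +kernel
theorem E36_17 : satSl C24 E36 17 = true := by decide +kernel
theorem E36_18 : satSl C24 E36 18 = true := by decide +kernel
theorem sE36 : Sat C24.g E36 := sat_of_sl ok24 (show ∀ j < 19, satSl C24 E36 j = true from
  (forall_lt_succ (forall_lt_succ (forall_lt_succ (forall_lt_succ (forall_lt_succ (forall_lt_succ (forall_lt_succ (forall_lt_succ (forall_lt_succ (forall_lt_succ (forall_lt_succ (forall_lt_succ (forall_lt_succ (forall_lt_succ (forall_lt_succ (forall_lt_succ (forall_lt_succ (forall_lt_succ (forall_lt_succ forall_lt_zero E36_0) E36_1) E36_2) E36_3) E36_4) E36_5) E36_6) E36_7) E36_8) E36_9) E36_10) E36_11) E36_12) E36_13) E36_14) E36_15) E36_16) E36_17) E36_18))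

end CA.Fi
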